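import Cfsg.Agent.Lib.AbelianInter.Offender

/-!
# Sylow 2-subgroups with abelian intersections: the self-centralising subgroups with large automiser

* `Inter G` : any two Sylow 2-subgroups meet in an abelian group
* `Bad S D` : `D ≤ S` is self-centralising in `S`, `N_S(D)` is Sylow in `N(D)` and `N(D) ≠ C(D) N_{N(D)}(S)`
* `Bad.toOff` : the automiser of such a `D` acts on `Ω₁(D)` as required by `OffData`
-/

set_option autoImplicit false
set_option linter.style.haveILetI false

namespace Cfsg.Agent.AbelianInter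

open Subgroup
open Fusion (IsSylowIn)
open scoped commutatorElement Pointwise

universe u

variable {G : Type u} [Group G]

/-- A conjugate subgroup. -/
abbrev cjS (A : Subgroup G) (g : G) : Subgroup G := A.map (MulAut.conj g).toMonoidHom

theorem mem_cjS {A : Subgroup G} {g x : G} : x ∈ cjS A g ↔ g⁻¹ * x * g ∈ A := by
  constructor
  · rintro ⟨a, ha, rfl⟩
    simpa [mul_assoc] using ha
  · exact fun h => ⟨_, h, by simp [mul_assoc]⟩

theorem conj_mem_cjS {A : Subgroup G} {a : G} (g : G) (ha : a ∈ A) : g * a * g⁻¹ ∈ cjS A g :=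
  mem_cjS.2 (by simpa [mul_assoc] using ha)

theorem card_cjS (A : Subgroup G) (g : G) : Nat.card ↥(cjS A g) = Nat.card ↥A :=
  card_map_of_injective (MulAut.conj g).injective

theorem conj_mem_norm {H : Subgroup G} {g x : G} (hg : g ∈ normalizer (H : Set G)) (hx : x ∈ H) :
    g * x * g⁻¹ ∈ H :=
  (mem_normalizer_iff.1 hg x).1 hx

theorem conj_inv_mem_norm {H : Subgroup G} {g x : G} (hg : g ∈ normalizer (H : Set G)) (hx : x ∈ H) :
    g⁻¹ * x * g ∈ H := by
  simpa using conj_mem_norm (inv_mem hg) hx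

theorem mem_norm_of_cjS_eq {H : Subgroup G} {g : G} (h : cjS H g = H) : g ∈ normalizer (H : Set G) := by
  rw [mem_normalizer_iff]
  intro x
  constructor
  · intro hx
    exact h ▸ conj_mem_cjS g hx
  · intro hx
    have h1 := mem_cjS.1 (h.symm ▸ hx : g * x * g⁻¹ ∈ cjS H g)
    simpa [mul_assoc] using h1

/-- `A` is commutative, elementwise. -/
def Comm (A : Subgroup G) : Prop := ∀ a ∈ A, ∀ b ∈ A, a * b = b * a

/-- Any two Sylow 2-subgroups meet in an abelian group. -/
def Inter (G : Type u) [Group G] : Prop :=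
  ∀ S T : Sylow 2 G, S ≠ T → IsMulCommutative ↥((S : Subgroup G) ⊓ (T : Subgroup G))

/-- `N_S(D)`. -/
abbrev NS (S : Sylow 2 G) (D : Subgroup G) : Subgroup G := (S : Subgroup G) ⊓ normalizer (D : Set G)

/-- `D` is self-centralising in `S` with an automiser not controlled by `N(S)`. -/
structure Bad (S : Sylow 2 G) (D : Subgroup G) : Prop where
  le : D ≤ S
  cent : ∀ x ∈ (S : Subgroup G), (∀ d ∈ D, x * d = d * x) → x ∈ D
  sylow : IsSylowIn 2 (NS S D) (normalizer (D : Set G))
  move : ¬ ∀ g ∈ normalizer (D : Set G), ∃ c ∈ centralizer (D : Set G),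
    ∃ n ∈ normalizer ((S : Subgroup G) : Set G), g = c * n

/-- The subgroup generated by the elements of `D` of order at most 2. -/
def om (D : Subgroup G) : Subgroup G := closure {x | x ∈ D ∧ x * x = 1}

theorem om_le (D : Subgroup G) : om D ≤ D := (closure_le D).2 fun _ hx => hx.1

theorem mem_om {D : Subgroup G} (hD : Comm D) {x : G} : x ∈ om D ↔ x ∈ D ∧ x * x = 1 := by
  refine ⟨fun hx => ⟨om_le D hx, ?_⟩, fun hx => subset_closure hx⟩
  induction hx using closure_induction with
  | mem y hy => exact hy.2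
  | one => exact one_mul 1
  | mul a b ha hb iha ihb =>
    calc a * b * (a * b) = a * (b * a) * b := by group
      _ = a * (a * b) * b := by rw [hD b (om_le D hb) a (om_le D ha)]
      _ = a * a * (b * b) := by group
      _ = 1 := by rw [iha, ihb, one_mul]
  | inv a _ iha => rw [← mul_inv_rev, iha, inv_one]

theorem om_cjS (D : Subgroup G) (g : G) : om (cjS D g) = cjS (om D) g := by
  show Subgroup.closure _ = (Subgroup.closure _).map _
  rw [MonoidHom.map_closure]
  congr 1
  ext x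
  constructor
  · rintro ⟨hx, hx2⟩
    obtain ⟨a, ha, rfl⟩ := hx
    refine ⟨a, ⟨ha, (MulAut.conj g).injective ?_⟩, rfl⟩
    rw [map_mul, map_one]; exact hx2
  · rintro ⟨a, ⟨ha, ha2⟩, rfl⟩
    exact ⟨mem_map_of_mem _ ha, by rw [← map_mul, ha2, map_one]⟩

theorem normalizer_le_normalizer_om (D : Subgroup G) :
    normalizer (D : Set G) ≤ normalizer (om D : Set G) := by
  intro g hg
  refine mem_norm_of_cjS_eq ?_
  rw [← om_cjS]
  congr 1
  ext x
  rw [mem_cjS]
  refine ⟨fun h => ?_, fun h => conj_inv_mem_norm hg h⟩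
  simpa [mul_assoc] using conj_mem_norm hg h

variable [Finite G]

/-- The normaliser is detected by one inclusion. -/
theorem mem_norm_of_forall {H : Subgroup G} {g : G} (h : ∀ x ∈ H, g * x * g⁻¹ ∈ H) :
    g ∈ normalizer (H : Set G) :=
  mem_norm_of_cjS_eq (eq_of_le_of_card_ge (by rintro _ ⟨a, ha, rfl⟩; exact h a ha) (card_cjS H g).ge)

omit [Finite G] in
/-- An element of odd order centralising `Ω₁` of an abelian 2-group centralises it. -/
theorem centralizes_of_odd {D : Subgroup G} (hD : Comm D) (h2 : IsPGroup 2 ↥D) {g : G}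
    (hg : g ∈ normalizer (D : Set G)) (hodd : Odd (orderOf g))
    (hom : ∀ v ∈ om D, g * v = v * g) : ∀ d ∈ D, g * d = d * g := by
  suffices ∀ n, ∀ d ∈ D, d ^ 2 ^ n = 1 → g * d = d * g by
    intro d hd
    obtain ⟨n, hn⟩ := twoElem_of_mem h2 hd
    exact this n d hd hn
  intro n
  induction n with
  | zero => intro d _ hd; rw [pow_zero, pow_one] at hd; simp [hd]
  | succ n ih =>
    intro d hd hn
    have hd2 : (d * d) ^ 2 ^ n = 1 := by rw [← pow_two, ← pow_mul, ← pow_succ', hn]
    have h1 := ih (d * d) (mul_mem hd hd) hd2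
    set u := g * d * g⁻¹ * d⁻¹ with hu
    have huD : u ∈ D := mul_mem (conj_mem_norm hg hd) (inv_mem hd)
    have hu2 : u * u = 1 := by
      calc u * u = g * d * g⁻¹ * (d⁻¹ * (g * d * g⁻¹)) * d⁻¹ := by rw [hu]; group
        _ = g * d * g⁻¹ * ((g * d * g⁻¹) * d⁻¹) * d⁻¹ := by
            rw [hD d⁻¹ (inv_mem hd) _ (conj_mem_norm hg hd)]
        _ = g * (d * d) * g⁻¹ * (d * d)⁻¹ := by group
        _ = 1 := by rw [h1]; group
    have huv : g * u = u * g := hom u ((mem_om hD).2 ⟨huD, hu2⟩)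
    have key : ∀ k : ℕ, g ^ k * d = u ^ k * d * g ^ k := by
      intro k
      induction k with
      | zero => simp
      | succ k ihk =>
        calc g ^ (k + 1) * d = g * (g ^ k * d) := by rw [pow_succ']; group
          _ = (g * u ^ k) * d * g ^ k := by rw [ihk]; group
          _ = (u ^ k * g) * d * g ^ k := by rw [((show Commute g u from huv).pow_right k).eq]
          _ = u ^ k * (g * d * g⁻¹ * d⁻¹) * d * (g * g ^ k) := by group
          _ = u ^ (k + 1) * d * g ^ (k + 1) := by rw [← hu, ← pow_succ, ← pow_succ']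
    have h3 := key (orderOf g)
    rw [pow_orderOf_eq_one, one_mul, mul_one, right_eq_mul] at h3
    obtain ⟨j, hj⟩ := hodd
    rw [hj, pow_succ, pow_mul, pow_two, hu2, one_pow, one_mul] at h3
    rw [hu, mul_inv_eq_one, mul_inv_eq_iff_eq_mul] at h3
    exact h3

theorem exists_normalizes {S : Sylow 2 G} {H X : Subgroup G} (hX : X ≤ S) (hHX : H ≤ X) (hne : H ≠ X) :
    ∃ x ∈ X, x ∉ H ∧ x ∈ normalizer (H : Set G) := by
  haveI : Fact (Nat.Prime 2) := ⟨Nat.prime_two⟩
  haveI : Group.IsNilpotent ↥X := (S.isPGroup'.to_le hX).isNilpotent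
  have hlt : H.subgroupOf X < ⊤ := by
    rw [lt_top_iff_ne_top, Ne, subgroupOf_eq_top]
    exact fun h => hne (le_antisymm hHX h)
  obtain ⟨⟨x, hx⟩, hxn, hxH⟩ := SetLike.exists_of_lt (Group.normalizerCondition_of_isNilpotent _ hlt)
  refine ⟨x, hx, hxH, mem_norm_of_forall fun y hy => ?_⟩
  exact (mem_normalizer_iff.1 hxn ⟨y, hHX hy⟩).1 hy

omit [Finite G] in
/-- A 2-element normalising a Sylow 2-subgroup lies in it. -/
theorem mem_of_twoElem {S : Sylow 2 G} {x : G} (hx : TwoElem x)
    (hn : x ∈ normalizer ((S : Subgroup G) : Set G)) : x ∈ (S : Subgroup G) := by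
  haveI : Fact (Nat.Prime 2) := ⟨Nat.prime_two⟩
  have h : x ∈ zpowers x ⊓ normalizer (S : Set G) := ⟨mem_zpowers x, hn⟩
  rw [hx.isPGroup.inf_normalizer_sylow] at h
  exact h.2

omit [Finite G] in
/-- A nonabelian subgroup of `S` lies in no other Sylow 2-subgroup. -/
theorem mem_normalizer_of_nc (hA : Inter G) {S : Sylow 2 G} {X : Subgroup G} (hX : X ≤ S)
    (hn : ¬ Comm X) {g : G} (hg : ∀ x ∈ X, g * x * g⁻¹ ∈ (S : Subgroup G)) :
    g ∈ normalizer ((S : Subgroup G) : Set G) := by
  haveI : Fact (Nat.Prime 2) := ⟨Nat.prime_two⟩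
  refine Sylow.smul_eq_iff_mem_normalizer.1 ?_
  by_contra hne
  have h := hA S (g • S) (Ne.symm hne)
  refine hn fun a ha b hb => ?_
  have hm : ∀ x ∈ X, g * x * g⁻¹ ∈ (S : Subgroup G) ⊓ ((g • S : Sylow 2 G) : Subgroup G) := fun x hx => by
    refine ⟨hg x hx, ?_⟩
    rw [Sylow.coe_subgroup_smul]
    exact ⟨x, hX hx, rfl⟩
  have e := congrArg Subtype.val (h.is_comm.comm ⟨_, hm a ha⟩ ⟨_, hm b hb⟩)
  have e' : g * (a * b) * g⁻¹ = g * (b * a) * g⁻¹ := by
    simpa [mul_assoc] using e
  exact mul_left_cancel (mul_right_cancel e')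

namespace Bad

variable {S : Sylow 2 G} {D : Subgroup G}

omit [Finite G] in
theorem le_NS (h : Bad S D) : D ≤ NS S D := le_inf h.le le_normalizer

omit [Finite G] in
theorem isPGroup (h : Bad S D) : IsPGroup 2 ↥D := S.isPGroup'.to_le h.le

theorem comm (h : Bad S D) (hA : Inter G) : Comm D := by
  by_contra hc
  exact h.move fun g hg => ⟨1, one_mem _, g,
    mem_normalizer_of_nc hA h.le hc fun x hx => h.le (conj_mem_norm hg hx), (one_mul g).symm⟩

omit [Finite G] in
theorem ne_top (h : Bad S D) : D ≠ (S : Subgroup G) := fun e =>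
  h.move fun g hg => ⟨1, one_mem _, g, e ▸ hg, (one_mul g).symm⟩

theorem exists_mem_NS (h : Bad S D) : ∃ t ∈ NS S D, t ∉ D := by
  obtain ⟨x, hx, hxD, hxn⟩ := exists_normalizes (le_refl (S : Subgroup G)) h.le h.ne_top
  exact ⟨x, ⟨hx, hxn⟩, hxD⟩

omit [Finite G] in
theorem not_comm (h : Bad S D) {X : Subgroup G} (hX : X ≤ S) (hDX : D ≤ X) {x : G} (hxX : x ∈ X)
    (hx : x ∉ D) : ¬ Comm X := fun hc => hx (h.cent x (hX hxX) fun d hd => hc x hxX d (hDX hd))

theorem normalizer_NS_le (h : Bad S D) (hA : Inter G) :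
    normalizer (NS S D : Set G) ≤ normalizer ((S : Subgroup G) : Set G) := fun g hg => by
  obtain ⟨t, ht, htD⟩ := h.exists_mem_NS
  exact mem_normalizer_of_nc hA inf_le_left (h.not_comm inf_le_left h.le_NS ht htD)
    fun x hx => (conj_mem_norm hg hx).1

theorem mem_normalizer_NS {g : G} (hg : g ∈ normalizer (D : Set G))
    (hgS : g ∈ normalizer ((S : Subgroup G) : Set G)) : g ∈ normalizer (NS S D : Set G) :=
  mem_norm_of_forall fun _ hx => mem_inf.2 ⟨conj_mem_norm hgS hx.1,
    mul_mem (mul_mem hg hx.2) (inv_mem hg)⟩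

/-- The subgroup generated by the 2-elements of `N(D)`. -/
def L (D : Subgroup G) : Subgroup G := closure {x | x ∈ normalizer (D : Set G) ∧ TwoElem x}

omit [Finite G] in
theorem L_le (D : Subgroup G) : L D ≤ normalizer (D : Set G) := (closure_le _).2 fun _ hx => hx.1

omit [Finite G] in
theorem L_conj {g l : G} (hg : g ∈ normalizer (D : Set G)) (hl : l ∈ L D) : g * l * g⁻¹ ∈ L D := by
  induction hl using closure_induction with
  | mem y hy => exact subset_closure ⟨mul_mem (mul_mem hg hy.1) (inv_mem hg), hy.2.conj g⟩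
  | one => simp
  | mul a b _ _ iha ihb =>
    rw [show g * (a * b) * g⁻¹ = (g * a * g⁻¹) * (g * b * g⁻¹) by group]
    exact mul_mem iha ihb
  | inv a _ iha =>
    rw [show g * a⁻¹ * g⁻¹ = (g * a * g⁻¹)⁻¹ by group]
    exact inv_mem iha

omit [Finite G] in
theorem NS_le_L : NS S D ≤ L D := fun _ hx =>
  subset_closure ⟨hx.2, twoElem_of_mem S.isPGroup' hx.1⟩

omit [Finite G] in
theorem sylow_L (h : Bad S D) : IsSylowIn 2 (NS S D) (L D) := h.sylow.mono NS_le_L (L_le D)

theorem frattini (h : Bad S D) (hA : Inter G) {g : G} (hg : g ∈ normalizer (D : Set G)) :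
    ∃ l ∈ L D, ∃ n, n ∈ normalizer (D : Set G) ∧ n ∈ normalizer ((S : Subgroup G) : Set G) ∧
      g = l * n := by
  haveI : Fact (Nat.Prime 2) := ⟨Nat.prime_two⟩
  obtain ⟨a, ha, hconj⟩ := h.sylow_L.exists_conj_le (H := cjS (NS S D) g)
    ((S.isPGroup'.to_le inf_le_left).map _) (by
      rintro _ ⟨t, ht, rfl⟩
      exact L_conj hg (NS_le_L ht))
  obtain ⟨t, ht, htD⟩ := h.exists_mem_NS
  refine ⟨a⁻¹, inv_mem ha, a * g, mul_mem (L_le D ha) hg,
    mem_normalizer_of_nc hA inf_le_left (h.not_comm inf_le_left h.le_NS ht htD) fun x hx => ?_, by group⟩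
  have := (mem_inf.1 (hconj _ (conj_mem_cjS g hx))).1
  convert this using 1
  group

theorem mem_of_twoElem_centralizer (h : Bad S D) {x : G} (hx : TwoElem x)
    (hc : x ∈ centralizer (D : Set G)) : x ∈ D := by
  haveI : Fact (Nat.Prime 2) := ⟨Nat.prime_two⟩
  obtain ⟨a, ha, hconj⟩ := h.sylow.exists_conj_le hx.isPGroup
    (zpowers_le.2 (centralizer_le_normalizer _ hc))
  have h1 := hconj x (mem_zpowers x)
  have h2 : a * x * a⁻¹ ∈ D := h.cent _ h1.1 fun d hd => by
    have h3 := mem_centralizer_iff.1 hc _ (conj_inv_mem_norm ha hd)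
    calc a * x * a⁻¹ * d = a * (x * (a⁻¹ * d * a)) * a⁻¹ := by group
      _ = a * ((a⁻¹ * d * a) * x) * a⁻¹ := by rw [h3]
      _ = d * (a * x * a⁻¹) := by group
  have h3 := conj_inv_mem_norm ha h2
  simpa [mul_assoc] using h3

/-- Elements of odd order of `N(D)` centralising `Ω₁(D)` centralise `D`. -/
theorem odd_centralizes (h : Bad S D) (hA : Inter G) {g : G} (hg : g ∈ normalizer (D : Set G))
    (hodd : Odd (orderOf g)) (hom : g ∈ centralizer (om D : Set G)) : g ∈ centralizer (D : Set G) :=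
  mem_centralizer_iff.2 fun d hd => (centralizes_of_odd (h.comm hA) h.isPGroup hg hodd
    (fun v hv => (mem_centralizer_iff.1 hom v hv).symm) d hd).symm

theorem mem_of_NS_centralizes (h : Bad S D) (hA : Inter G) {t : G} (ht : t ∈ NS S D)
    (hc : t ∈ centralizer (om D : Set G)) : t ∈ D := by
  haveI : Fact (Nat.Prime 2) := ⟨Nat.prime_two⟩
  by_contra htD
  refine h.move fun g hg => ?_
  set K := normalizer (D : Set G) ⊓ centralizer (om D : Set G) with hK
  have hKn : ∀ a ∈ normalizer (D : Set G), ∀ n ∈ K, a * n * a⁻¹ ∈ K := by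
    intro a ha n hn
    refine mem_inf.2 ⟨mul_mem (mul_mem ha hn.1) (inv_mem ha), mem_centralizer_iff.2 fun v hv => ?_⟩
    have h1 := mem_centralizer_iff.1 hn.2 _
      (conj_inv_mem_norm (normalizer_le_normalizer_om D ha) hv)
    calc v * (a * n * a⁻¹) = a * ((a⁻¹ * v * a) * n) * a⁻¹ := by group
      _ = a * (n * (a⁻¹ * v * a)) * a⁻¹ := by rw [h1]
      _ = a * n * a⁻¹ * v := by group
  have hT0 : IsSylowIn 2 (NS S D ⊓ K) K := h.sylow.inf_normal inf_le_left hKn
  have hDK : D ≤ NS S D ⊓ K := le_inf h.le_NS (le_inf le_normalizer fun d hd =>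
    mem_centralizer_iff.2 fun v hv => (h.comm hA) v (om_le D hv) d hd)
  have hTK : t ∈ NS S D ⊓ K := ⟨ht, ht.2, hc⟩
  obtain ⟨k, hk, hconj⟩ := hT0.exists_conj_le (H := cjS (NS S D ⊓ K) g)
    ((S.isPGroup'.to_le (inf_le_left.trans inf_le_left)).map _) (by
      rintro _ ⟨x, hx, rfl⟩
      exact hKn g hg x hx.2)
  have hkg : k * g ∈ normalizer ((S : Subgroup G) : Set G) := by
    refine mem_normalizer_of_nc hA (inf_le_left.trans inf_le_left)
      (h.not_comm (inf_le_left.trans inf_le_left) hDK hTK htD) fun x hx => ?_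
    have := (mem_inf.1 (mem_inf.1 (hconj _ (conj_mem_cjS g hx))).1).1
    convert this using 1
    group
  -- `K = C_K(D) T₀`
  set M := normalizer (D : Set G) ⊓ centralizer (D : Set G) with hM
  have hMK : M ≤ K := le_inf inf_le_left (inf_le_right.trans (centralizer_le (om_le D)))
  have hMn : K ≤ normalizer (M : Set G) := fun a ha => mem_norm_of_forall fun m hm => by
    refine mem_inf.2 ⟨mul_mem (mul_mem ha.1 hm.1) (inv_mem ha.1), mem_centralizer_iff.2 fun v hv => ?_⟩
    have h1 := mem_centralizer_iff.1 hm.2 _ (conj_inv_mem_norm ha.1 hv)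
    calc v * (a * m * a⁻¹) = a * ((a⁻¹ * v * a) * m) * a⁻¹ := by group
      _ = a * (m * (a⁻¹ * v * a)) * a⁻¹ := by rw [h1]
      _ = a * m * a⁻¹ * v := by group
  haveI : (M.subgroupOf K).Normal := ⟨fun m hm a => mem_subgroupOf.2 (conj_mem_norm (hMn a.2) hm)⟩
  have hpow : IsPGroup 2 (↥K ⧸ M.subgroupOf K) := by
    intro q
    obtain ⟨x, rfl⟩ := QuotientGroup.mk_surjective q
    obtain ⟨e, m, hm, hem⟩ := Nat.exists_eq_two_pow_mul_odd (orderOf_pos x).ne'
    refine ⟨e, ?_⟩
    rw [← QuotientGroup.mk_pow, QuotientGroup.eq_one_iff]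
    have hord : orderOf ((x : G) ^ 2 ^ e) = m := by
      rw [orderOf_pow' _ (by positivity), orderOf_coe, hem, Nat.gcd_mul_right_left,
        Nat.mul_div_cancel_left _ (by positivity)]
    exact ⟨pow_mem x.2.1 _, h.odd_centralizes hA (pow_mem x.2.1 _) (hord ▸ hm) (pow_mem x.2.2 _)⟩
  have hsup : M ⊔ (NS S D ⊓ K) = K := by
    refine le_antisymm (sup_le hMK inf_le_right) ?_
    rw [← Subgroup.relIndex_eq_one]
    obtain ⟨j, hj⟩ := IsPGroup.iff_card.1 hpow
    have h1 : (M ⊔ (NS S D ⊓ K)).relIndex K ∣ 2 ^ j := by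
      rw [← hj, ← index_eq_card, ← relIndex]
      exact relIndex_dvd_of_le_left K le_sup_left
    have h2 : ¬ 2 ∣ (M ⊔ (NS S D ⊓ K)).relIndex K := by
      obtain ⟨R, hR⟩ := (Fusion.isSylowIn_iff_exists hT0.1).1 hT0
      intro hd
      refine R.not_dvd_index ?_
      rw [hR]
      exact hd.trans (relIndex_dvd_of_le_left K le_sup_right)
    obtain ⟨i, -, hi⟩ := (Nat.dvd_prime_pow Nat.prime_two).1 h1
    rcases i with _ | i
    · rw [hi, pow_zero]
    · exact absurd ⟨2 ^ i, by rw [hi, pow_succ']⟩ h2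
  have hkK : k⁻¹ ∈ (M : Set G) * ((NS S D ⊓ K : Subgroup G) : Set G) := by
    rw [← coe_mul_of_right_le_normalizer_left M _ (inf_le_right.trans hMn), hsup]
    exact inv_mem hk
  obtain ⟨c, hc', t', ht', e⟩ := hkK
  have e' : k⁻¹ = c * t' := e.symm
  refine ⟨c, hc'.2, t' * (k * g), mul_mem (le_normalizer ht'.1.1) hkg, ?_⟩
  rw [← mul_assoc, ← e', inv_mul_cancel_left]

theorem centralizer_om_eq (h : Bad S D) (hA : Inter G) {x : G} (hx : x ∈ normalizer (D : Set G))
    (hc : x ∈ centralizer (om D : Set G)) : x ∈ centralizer (D : Set G) := by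
  haveI : Fact (Nat.Prime 2) := ⟨Nat.prime_two⟩
  obtain ⟨e, m, hm, hem⟩ := Nat.exists_eq_two_pow_mul_odd (orderOf_pos x).ne'
  have hodd : x ^ 2 ^ e ∈ centralizer (D : Set G) := by
    refine h.odd_centralizes hA (pow_mem hx _) ?_ (pow_mem hc _)
    rw [orderOf_pow' _ (by positivity), hem, Nat.gcd_mul_right_left,
      Nat.mul_div_cancel_left _ (by positivity)]
    exact hm
  have htwo : TwoElem (x ^ m) := ⟨e, by rw [← pow_mul, mul_comm, ← hem, pow_orderOf_eq_one]⟩
  have h2 : x ^ m ∈ centralizer (D : Set G) := by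
    obtain ⟨a, ha, hconj⟩ := h.sylow.exists_conj_le htwo.isPGroup (zpowers_le.2 (pow_mem hx _))
    have h1 := hconj _ (mem_zpowers _)
    have h3 : a * x ^ m * a⁻¹ ∈ D := h.mem_of_NS_centralizes hA h1 (mem_centralizer_iff.2 fun v hv => by
      have h4 := mem_centralizer_iff.1 (pow_mem hc m) _
        (conj_inv_mem_norm (normalizer_le_normalizer_om D ha) hv)
      calc v * (a * x ^ m * a⁻¹) = a * ((a⁻¹ * v * a) * x ^ m) * a⁻¹ := by group
        _ = a * (x ^ m * (a⁻¹ * v * a)) * a⁻¹ := by rw [h4]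
        _ = a * x ^ m * a⁻¹ * v := by group)
    have h5 : x ^ m ∈ D := by simpa [mul_assoc] using conj_inv_mem_norm ha h3
    exact mem_centralizer_iff.2 fun d hd => h.comm hA d hd _ h5
  have hco : (2 ^ e).Coprime m := (Nat.coprime_two_left.2 hm).pow_left e
  obtain ⟨a, b, hab⟩ := Nat.isCoprime_iff_coprime.2 hco
  have hx' : x = (x ^ 2 ^ e) ^ a * (x ^ m) ^ b := by
    rw [← zpow_natCast x (2 ^ e), ← zpow_mul, ← zpow_natCast x m, ← zpow_mul, ← zpow_add,
      mul_comm _ a, mul_comm _ b, hab, zpow_one]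
  rw [hx']
  exact mul_mem (zpow_mem hodd a) (zpow_mem h2 b)

/-- The offender data of a bad subgroup. -/
theorem toOff (h : Bad S D) (hA : Inter G) {B : Subgroup G} (hB : B ≤ NS S D) (hBc : Comm B)
    (hne : ∃ b ∈ B, b ∉ D) (hsq : ∀ b ∈ B, b * b ∈ centralizer (om D : Set G))
    (hoff : Nat.card ↥(om D) * Nat.card ↥(B ⊓ centralizer (om D : Set G)) ≤
      Nat.card ↥B * Nat.card ↥(om D ⊓ centralizer (B : Set G))) :
    OffData (om D) (L D) (NS S D) B where
  comm v hv w hw := h.comm hA v (om_le D hv) w (om_le D hw)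
  sq v hv := ((mem_om (h.comm hA)).1 hv).2
  le_norm := (L_le D).trans (normalizer_le_normalizer_om D)
  gen := (closure_le _).2 fun x hx => subset_closure ⟨subset_closure hx, hx.2⟩
  syl := h.sylow_L
  B_le := hB
  B_comm := hBc
  B_ne := by
    obtain ⟨b, hb, hbD⟩ := hne
    exact ⟨b, hb, fun hc => hbD (h.mem_of_NS_centralizes hA (hB hb) hc)⟩
  B_sq := hsq
  off := hoff
  ti := by
    haveI : Fact (Nat.Prime 2) := ⟨Nat.prime_two⟩
    intro X hX ⟨x₀, hx₀, hx₀'⟩ l hl hconj
    set C := L D ⊓ centralizer (D : Set G) with hC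
    set X1 := X ⊔ D with hX1
    have hX1T : X1 ≤ NS S D := sup_le hX h.le_NS
    have hLC : ∀ a ∈ normalizer (D : Set G), ∀ c ∈ C, a * c * a⁻¹ ∈ C := fun a ha c hc =>
      ⟨L_conj ha hc.1, mem_centralizer_iff.2 fun v hv => by
        have h1 := mem_centralizer_iff.1 hc.2 _ (conj_inv_mem_norm ha hv)
        calc v * (a * c * a⁻¹) = a * ((a⁻¹ * v * a) * c) * a⁻¹ := by group
          _ = a * (c * (a⁻¹ * v * a)) * a⁻¹ := by rw [h1]
          _ = a * c * a⁻¹ * v := by group⟩
    have hHN : X1 ≤ normalizer (C : Set G) := fun a ha =>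
      mem_norm_of_forall fun c hc => hLC a (hX1T ha).2 c hc
    set H := X1 ⊔ C with hH
    have hHset : (H : Set G) = (X1 : Set G) * (C : Set G) :=
      coe_mul_of_left_le_normalizer_right X1 C hHN
    have hHle : H ≤ normalizer (D : Set G) :=
      sup_le (hX1T.trans inf_le_right) (inf_le_left.trans (L_le D))
    have hSylH : IsSylowIn 2 X1 H := by
      refine ⟨le_sup_left, S.isPGroup'.to_le (hX1T.trans inf_le_left), fun U hU hUH hU2 => ?_⟩
      by_contra hne'
      haveI : Group.IsNilpotent ↥U := hU2.isNilpotent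
      have hlt : X1.subgroupOf U < ⊤ := by
        rw [lt_top_iff_ne_top, Ne, subgroupOf_eq_top]
        exact fun h' => hne' (le_antisymm h' hU)
      obtain ⟨⟨u, hu⟩, hun, huX⟩ := SetLike.exists_of_lt (Group.normalizerCondition_of_isNilpotent _ hlt)
      have huS : u ∈ normalizer ((S : Subgroup G) : Set G) := by
        refine mem_normalizer_of_nc hA (hX1T.trans inf_le_left)
          (h.not_comm (hX1T.trans inf_le_left) le_sup_right (mem_sup_left hx₀) ?_) fun y hy => ?_
        · intro hd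
          exact hx₀' (mem_centralizer_iff.2 fun v hv => h.comm hA v (om_le D hv) x₀ hd)
        · exact (hX1T ((mem_normalizer_iff.1 hun ⟨y, hU hy⟩).1 hy)).1
      have huS' := mem_of_twoElem (twoElem_of_mem hU2 hu) huS
      have hmem : u ∈ (H : Set G) := hUH hu
      rw [hHset] at hmem
      obtain ⟨y, hy, c, hc, rfl⟩ := hmem
      have hcS : c ∈ (S : Subgroup G) := by
        have := mul_mem (inv_mem (mem_inf.1 (hX1T hy)).1) huS'
        simpa using this
      exact huX (mul_mem hy (mem_sup_right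
        (h.cent c hcS fun d hd => (mem_centralizer_iff.1 hc.2 d hd).symm)))
    have hlN := L_le D hl
    have hsub : cjS X1 l ≤ H := by
      rw [hX1, cjS, Subgroup.map_sup, sup_le_iff]
      constructor
      · rintro _ ⟨x, hx, rfl⟩
        obtain ⟨y, hy, hyc⟩ := hconj x hx
        show l * x * l⁻¹ ∈ H
        have hyc' : y⁻¹ * (l * x * l⁻¹) ∈ C :=
          mem_inf.2 ⟨mul_mem (inv_mem (NS_le_L (hX hy))) (mul_mem (mul_mem hl (NS_le_L (hX hx))) (inv_mem hl)),
            h.centralizer_om_eq hA (mul_mem (inv_mem (mem_inf.1 (hX hy)).2)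
              (mul_mem (mul_mem hlN (mem_inf.1 (hX hx)).2) (inv_mem hlN))) hyc⟩
        have := mul_mem (mem_sup_left (T := C) (mem_sup_left (T := D) hy)) (mem_sup_right hyc')
        simpa [mul_assoc, hH, hX1] using this
      · rintro _ ⟨x, hx, rfl⟩
        exact mem_sup_left (mem_sup_right (conj_mem_norm hlN hx))
    obtain ⟨a, ha, hac⟩ := hSylH.exists_conj_le
      ((S.isPGroup'.to_le (hX1T.trans inf_le_left)).map _) hsub
    have hal : a * l ∈ normalizer ((S : Subgroup G) : Set G) := by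
      refine mem_normalizer_of_nc hA (hX1T.trans inf_le_left)
          (h.not_comm (hX1T.trans inf_le_left) le_sup_right (mem_sup_left hx₀) ?_) fun y hy => ?_
      · intro hd
        exact hx₀' (mem_centralizer_iff.2 fun v hv => h.comm hA v (om_le D hv) x₀ hd)
      · have := hac _ (conj_mem_cjS l hy)
        exact (hX1T (by simpa [mul_assoc] using this)).1
    have hal' : a * l ∈ normalizer (NS S D : Set G) :=
      mem_normalizer_NS (mul_mem (hHle ha) hlN) hal
    have hamem : a ∈ (H : Set G) := ha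
    rw [hHset] at hamem
    obtain ⟨y, hy, c, hc, rfl⟩ := hamem
    refine ⟨c, hc.1, centralizer_le (om_le D) hc.2, ?_⟩
    have := mul_mem (inv_mem (le_normalizer (hX1T hy))) hal'
    simpa [mul_assoc] using this
  proper := by
    by_contra hc
    push Not at hc
    refine h.move fun g hg => ?_
    obtain ⟨l, hl, n, hn, hnS, rfl⟩ := h.frattini hA hg
    obtain ⟨c, hcL, hc', hcl⟩ := hc l hl
    refine ⟨c⁻¹, inv_mem (h.centralizer_om_eq hA (L_le D hcL) hc'), c * l * n,
      mul_mem (h.normalizer_NS_le hA hcl) hnS, by group⟩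

/-- Conjugation by an element normalising `S`. -/
theorem conj (h : Bad S D) {n : G} (hn : n ∈ normalizer ((S : Subgroup G) : Set G)) :
    Bad S (cjS D n) where
  le := by
    rintro _ ⟨d, hd, rfl⟩
    exact conj_mem_norm hn (h.le hd)
  cent x hx hc := by
    rw [mem_cjS]
    refine h.cent _ (conj_inv_mem_norm hn hx) fun d hd => ?_
    have := hc _ (conj_mem_cjS n hd)
    calc n⁻¹ * x * n * d = n⁻¹ * (x * (n * d * n⁻¹)) * n := by group
      _ = n⁻¹ * ((n * d * n⁻¹) * x) * n := by rw [this]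
      _ = d * (n⁻¹ * x * n) := by group
  sylow := by
    have h1 := h.sylow.map (MulAut.conj n)
    have e1 : (normalizer (D : Set G)).map (MulAut.conj n).toMonoidHom =
        normalizer (cjS D n : Set G) :=
      map_normalizer_eq_of_bijective D (MulAut.conj n).bijective
    have e2 : (NS S D).map (MulAut.conj n).toMonoidHom = NS S (cjS D n) := by
      rw [NS, NS, ← e1, map_inf _ _ _ (MulAut.conj n).injective]
      congr 1
      exact eq_of_le_of_card_ge (by rintro _ ⟨s, hs, rfl⟩; exact conj_mem_norm hn hs) (card_cjS _ n).ge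
    rwa [e1, e2] at h1
  move hall := h.move fun g hg => by
    have hg' : n * g * n⁻¹ ∈ normalizer (cjS D n : Set G) := by
      rw [cjS, ← map_normalizer_eq_of_bijective D (MulAut.conj n).bijective]
      exact ⟨g, hg, rfl⟩
    obtain ⟨c, hc, m, hm, e⟩ := hall _ hg'
    refine ⟨n⁻¹ * c * n, mem_centralizer_iff.2 fun d hd => ?_, n⁻¹ * m * n,
      mul_mem (mul_mem (inv_mem hn) hm) hn, ?_⟩
    · have := mem_centralizer_iff.1 hc _ (conj_mem_cjS n hd)
      calc d * (n⁻¹ * c * n) = n⁻¹ * ((n * d * n⁻¹) * c) * n := by group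
        _ = n⁻¹ * (c * (n * d * n⁻¹)) * n := by rw [this]
        _ = n⁻¹ * c * n * d := by group
    · calc g = n⁻¹ * (n * g * n⁻¹) * n := by group
        _ = _ := by rw [e]; group

/-- `C_S(Ω₁ D) = D`. -/
theorem mem_of_centralizes_om (h : Bad S D) (hA : Inter G) {x : G} (hx : x ∈ (S : Subgroup G))
    (hc : x ∈ centralizer (om D : Set G)) : x ∈ D := by
  by_contra hxD
  have hDX : D ≤ (S : Subgroup G) ⊓ centralizer (om D : Set G) := le_inf h.le fun d hd =>
    mem_centralizer_iff.2 fun v hv => h.comm hA v (om_le D hv) d hd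
  obtain ⟨y, hy, hyD, hyn⟩ := exists_normalizes (S := S)
    (X := (S : Subgroup G) ⊓ centralizer (om D : Set G)) inf_le_left hDX fun e => hxD (e ▸ ⟨hx, hc⟩)
  exact hyD (h.mem_of_NS_centralizes hA ⟨hy.1, hyn⟩ hy.2)

end Bad

end Cfsg.Agent.AbelianInter
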