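import Cfsg.Agent.Lib.AbelianInter.Basic
import Cfsg.Agent.Lib.Fusion.Essential
import Cfsg.Agent.Lib.FusionHyperfocal.Group
import Cfsg.Prelude.Def_TwoFusion

/-!
# Fusion is generated by `N(S)` and the bad subgroups (owner: helper74)

* `fusion_induction`, `isStronglyClosed_of_family`, `sylow_le_of_family` (focal subgroup theorem)
-/

set_option autoImplicit false
set_option linter.style.haveILetI false

namespace Cfsg.Agent.AbelianInter

open Subgroup
open Cfsg
open scoped commutatorElement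

universe u

variable {G : Type u} [Group G] [Finite G]

/-- A transitive relation stable under the generators of fusion holds for all fusion in `S`. -/
theorem fusion_induction (S : Sylow 2 G) (R : G → G → Prop) (htrans : ∀ x y z, R x y → R y z → R x z)
    (hN : ∀ n ∈ normalizer ((S : Subgroup G) : Set G), ∀ x ∈ (S : Subgroup G), R x (n * x * n⁻¹))
    (hD : ∀ D : Subgroup G, Bad S D → ∀ g ∈ normalizer (D : Set G), ∀ x ∈ D, R x (g * x * g⁻¹))
    {x g : G} (hx : x ∈ (S : Subgroup G)) (hgx : g * x * g⁻¹ ∈ (S : Subgroup G)) :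
    R x (g * x * g⁻¹) := by
  haveI : Fact (Nat.Prime 2) := ⟨Nat.prime_two⟩
  set F := groupFusionSystem (S : Subgroup G)
  have key : ∀ (P : Subgroup G) (f : G → G), Fusion.IsMap F P f → ∀ y ∈ P, R y (f y) := by
    intro P f hf
    refine Fusion.alperin_essential S.isPGroup' (Fusion.isSaturated_group S)
      (fun P f => ∀ y ∈ P, R y (f y)) (fun _ _ _ _ h e y hy => e y hy ▸ h y hy)
      (fun _ _ _ _ hle h y hy => h y (hle hy))
      (fun _ _ _ _ _ _ hm h₁ h₂ y hy => htrans _ _ _ (h₁ y hy) (h₂ _ (hm y hy))) ?_ hf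
    intro Q hQ α hα y hy
    have hQS : Q ≤ (S : Subgroup G) := by
      rcases hQ with rfl | hQ
      · exact le_rfl
      · exact hQ.1.1
    rw [Fusion.autGroup_group hQS, Fusion.mem_autInducedBy_iff] at hα
    obtain ⟨k, -, hk⟩ := hα
    have hfy : Fusion.autFn α y = k * y * k⁻¹ := by
      rw [Fusion.autFn_apply α hy]
      exact hk ⟨y, hy⟩
    have hkQ : k ∈ normalizer (Q : Set G) := mem_norm_of_forall fun z hz => by
      have := hk ⟨z, hz⟩
      rw [show ((⟨z, hz⟩ : Q) : G) = z from rfl] at this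
      rw [← this]
      exact (α ⟨z, hz⟩).2
    rw [hfy]
    rcases hQ with rfl | hQ
    · exact hN k hkQ y hy
    by_cases hb : Bad S Q
    · exact hD Q hb k hkQ y hy
    have hsyl := (Fusion.fullyNormalized_group_iff S hQS).1 hQ.2.1
    have hmove : ∀ g ∈ normalizer (Q : Set G), ∃ c ∈ centralizer (Q : Set G),
        ∃ n ∈ normalizer ((S : Subgroup G) : Set G), g = c * n := by
      by_contra hc
      exact hb ⟨hQS, fun z hz hc' => hQ.1.2 Q (Fusion.isConj_refl F hQS)
        (mem_inf.2 ⟨hz, mem_centralizer_iff.2 fun d hd => (hc' d hd).symm⟩), hsyl, hc⟩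
    obtain ⟨c, hc, n, hn, rfl⟩ := hmove k hkQ
    have hnQ : n * y * n⁻¹ ∈ Q := by
      have hn' : n ∈ normalizer (Q : Set G) := by
        have := mul_mem (inv_mem (centralizer_le_normalizer _ hc)) hkQ
        rwa [inv_mul_cancel_left] at this
      exact conj_mem_norm hn' hy
    have e : c * n * y * (c * n)⁻¹ = n * y * n⁻¹ := by
      calc c * n * y * (c * n)⁻¹ = c * (n * y * n⁻¹) * c⁻¹ := by group
        _ = (n * y * n⁻¹) * c * c⁻¹ := by rw [mem_centralizer_iff.1 hc _ hnQ]
        _ = n * y * n⁻¹ := by group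
    rw [e]
    exact hN n hn y (hQS hy)
  have hm : ∀ i : ℤ, g * x ^ i * g⁻¹ ∈ (S : Subgroup G) := fun i => by
    rw [← conj_zpow]; exact zpow_mem hgx i
  exact key _ (fun y => g * y * g⁻¹) (Fusion.isMap_group_iff.2 ⟨zpowers_le.2 hx, g, fun y hy => by
    obtain ⟨i, rfl⟩ := mem_zpowers_iff.1 hy
    exact ⟨hm i, rfl⟩⟩) x (mem_zpowers x)

theorem isStronglyClosed_of_family (S : Sylow 2 G) {A : Subgroup G} (hle : A ≤ (S : Subgroup G))
    (hN : ∀ n ∈ normalizer ((S : Subgroup G) : Set G), ∀ x ∈ A, n * x * n⁻¹ ∈ A)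
    (hD : ∀ D : Subgroup G, Bad S D → ∀ g ∈ normalizer (D : Set G), ∀ x ∈ D, x ∈ A → g * x * g⁻¹ ∈ A) :
    Cfsg.IsStronglyClosed A (S : Subgroup G) := by
  refine ⟨hle, fun x hx g hg => ?_⟩
  exact fusion_induction S (fun a b => a ∈ A → b ∈ A) (fun _ _ _ h1 h2 h => h2 (h1 h))
    (fun n hn y _ hy => hN n hn y hy) (fun D h n hn y hy hyA => hD D h n hn y hy hyA) (hle hx) hg hx

/-- The focal subgroup theorem for a simple group. -/
theorem sylow_le_of_family [IsSimpleGroup G] (hG : ¬ IsMulCommutative G) (S : Sylow 2 G) (F₀ : Subgroup G)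
    (hN : ∀ n ∈ normalizer ((S : Subgroup G) : Set G), ∀ x ∈ (S : Subgroup G), x⁻¹ * (n * x * n⁻¹) ∈ F₀)
    (hD : ∀ D : Subgroup G, Bad S D → ∀ g ∈ normalizer (D : Set G), ∀ x ∈ D, x⁻¹ * (g * x * g⁻¹) ∈ F₀) :
    (S : Subgroup G) ≤ F₀ := by
  haveI : Fact (Nat.Prime 2) := ⟨Nat.prime_two⟩
  have hc : commutator G = ⊤ := by
    refine (inferInstance : (commutator G).Normal).eq_bot_or_eq_top.resolve_left fun e => hG ?_
    rw [commutator_def, commutator_eq_bot_iff_le_centralizer] at e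
    exact ⟨⟨fun a b => (mem_centralizer_iff.1 (e (mem_top a)) b (mem_top b)).symm⟩⟩
  have h := Transfer.focalSubgroup_eq_of_coprime (S : Subgroup G)
    (Transfer.coprime_index_relIndex_sylow S)
  rw [hc, top_inf_eq] at h
  conv_lhs => rw [← h]
  rw [Subgroup.focalSubgroup_def, closure_le]
  rintro _ ⟨hxu, x, hx, v, rfl⟩
  have hm : v * x⁻¹ * v⁻¹ ∈ (S : Subgroup G) := by
    have := mul_mem (inv_mem hx) hxu
    simpa [commutatorElement_def, mul_assoc] using this
  have := fusion_induction S (fun a b => a⁻¹ * b ∈ F₀)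
    (fun a b c h1 h2 => by
      show a⁻¹ * c ∈ F₀
      have h3 := mul_mem (show a⁻¹ * b ∈ F₀ from h1) (show b⁻¹ * c ∈ F₀ from h2)
      rwa [mul_assoc, mul_inv_cancel_left] at h3) hN hD (inv_mem hx) hm
  simpa [commutatorElement_def, mul_assoc] using this

end Cfsg.Agent.AbelianInter
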