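import Cfsg.Agent.Lib.AbelianInter.Pair
import Cfsg.Agent.Lib.AbelianInter.Family

/-!
# A non-normal bad subgroup with `q ≥ 3` is impossible in a simple group (owner: helper74)

`S = (D E)⟨s⟩` and the focal subgroup lies in `D E`.
-/

set_option autoImplicit false
set_option linter.style.haveILetI false

namespace Cfsg.Agent.AbelianInter

open Subgroup
open scoped commutatorElement

universe u

variable {G : Type u} [Group G]

theorem mul_mem_of_relIndex_two {H K : Subgroup G} (h : H.relIndex K = 2) {a b : G} (ha : a ∈ K)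
    (hb : b ∈ K) (ha' : a ∉ H) (hb' : b ∉ H) : a * b ∈ H := by
  have := (mul_mem_iff_of_index_two (H := H.subgroupOf K) h (a := ⟨a, ha⟩) (b := ⟨b, hb⟩))
  rw [mem_subgroupOf, mem_subgroupOf, mem_subgroupOf] at this
  exact this.2 (by simp [ha', hb'])

theorem sq_mem_eq_one {D : Subgroup G} (hD : Comm D) {x : G} (hx : x ∈ om D) : x⁻¹ = x :=
  inv_eq_of_mul_eq_one_right ((mem_om hD).1 hx).2

variable [Finite G] {S : Sylow 2 G} {D E : Subgroup G} {s : G} {q : ℕ}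

/-- The elements of `S` commuting with an element of `D ∖ E` lie in `D`. -/
theorem Pair.mem_of_commute (hn : PairNat S D E q) (hA : Inter G) (h : Bad S D) {d : G} (hd : d ∈ D)
    (hdE : d ∉ E) {x : G} (hx : x ∈ (S : Subgroup G)) (hc : x * d = d * x) : x ∈ D := by
  by_contra hxD
  have hle : D ≤ (S : Subgroup G) ⊓ centralizer ({d} : Set G) := le_inf h.le fun a ha =>
    mem_centralizer_singleton_iff.2 (h.comm hA a ha d hd)
  obtain ⟨y, hy, hyD, hyn⟩ := exists_normalizes (S := S) (X := (S : Subgroup G) ⊓ centralizer ({d} : Set G))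
    inf_le_left hle fun e => hxD (e ▸ mem_inf.2 ⟨hx, mem_centralizer_singleton_iff.2 hc⟩)
  obtain ⟨e, he, het⟩ := hn.cover y (mem_inf.2 ⟨(mem_inf.1 hy).1, hyn⟩)
  have hcy : y * d = d * y := mem_centralizer_singleton_iff.1 (mem_inf.1 hy).2
  have hed : d * e = e * d := by
    have h1 := h.comm hA _ het d hd
    calc d * e = d * (y * (e⁻¹ * y)⁻¹) := by group
      _ = (y * d) * (e⁻¹ * y)⁻¹ := by rw [hcy]; group
      _ = y * (e⁻¹ * y)⁻¹ * ((e⁻¹ * y) * d) * (e⁻¹ * y)⁻¹ := by group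
      _ = y * (e⁻¹ * y)⁻¹ * (d * (e⁻¹ * y)) * (e⁻¹ * y)⁻¹ := by rw [h1]
      _ = e * d := by group
  refine hdE (hn.free e he (fun heD => hyD ?_) d hd hed)
  have := mul_mem heD het
  rwa [mul_inv_cancel_left] at this

/-- Two elements outside `H` in different classes, when `q ≥ 3`. -/
theorem exists_two_classes {V H : Subgroup G} (hq : 3 ≤ q) (hV : Nat.card ↥(V ⊓ H) * q = Nat.card ↥V) :
    ∃ a ∈ V, ∃ b ∈ V, a ∉ H ∧ b ∉ H ∧ a⁻¹ * b ∉ H := by
  classical
  by_contra hc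
  push Not at hc
  obtain ⟨v₀, hv₀, hv₀H⟩ : ∃ v ∈ V, v ∉ H := by
    by_contra hall
    push Not at hall
    rw [inf_eq_left.2 (fun v hv => hall v hv)] at hV
    have := Nat.card_pos (α := ↥V)
    nlinarith
  have hle : Nat.card ↥V ≤ Nat.card (Bool × ↥(V ⊓ H)) := by
    refine Nat.card_le_card_of_injective (fun v => if h : (v : G) ∈ H then (false, ⟨v, mem_inf.2 ⟨v.2, h⟩⟩)
      else (true, ⟨v₀⁻¹ * v, mem_inf.2 ⟨mul_mem (inv_mem hv₀) v.2, hc v₀ hv₀ v v.2 hv₀H h⟩⟩)) ?_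
    intro a b hab
    simp only at hab
    split_ifs at hab with ha hb hb
    · simpa [Prod.ext_iff] using hab
    · simp at hab
    · simp at hab
    · simpa [Prod.ext_iff] using hab
  rw [Nat.card_prod, ← hV, Nat.card_eq_fintype_card (α := Bool), Fintype.card_bool] at hle
  have := Nat.card_pos (α := ↥(V ⊓ H))
  nlinarith

/-- A twin with `q ≥ 3`. -/
structure Big (S : Sylow 2 G) (D E : Subgroup G) (s : G) (q : ℕ) : Prop where
  twin : Twin S D E s
  nat : PairNat S D E q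
  nat' : PairNat S E D q
  three_le : 3 ≤ q

theorem exists_big (h : Twin S D E s) (hA : Inter G) (hn : PairNat S D E q) (hq : 3 ≤ q) :
    Big S D E s q := by
  obtain ⟨q', hn'⟩ := (h.symm.pair hA).natural hA
  have : q' = q := by
    have h1 := hn'.card_D
    rw [inf_comm, ← hn.card_E] at h1
    exact Nat.eq_of_mul_eq_mul_left Nat.card_pos h1
  exact ⟨h, hn, this ▸ hn', hq⟩

namespace Big

variable (h : Big S D E s q) (hA : Inter G)
include h hA

omit hA in
theorem symm : Big S E D s⁻¹ q := ⟨h.twin.symm, h.nat', h.nat, h.three_le⟩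

theorem invol {x : G} (hx : x ∈ NS S D) (hx2 : x * x = 1) : x ∈ D ∨ x ∈ E := by
  obtain ⟨e, he, hex⟩ := h.nat.cover x hx
  obtain ⟨v, hv, hvz⟩ := h.nat.decomp _ hex
  obtain ⟨w, hw, hwz⟩ := h.nat'.decomp e he
  have hD := h.twin.bad.comm hA
  have hE := h.twin.bad_E.comm hA
  by_cases hwD : w ∈ D
  · left
    have h1 := mul_mem (mul_mem hwD hwz) hex
    rwa [mul_inv_cancel_left, mul_inv_cancel_left] at h1
  by_cases hvE : v ∈ E
  · right
    have h1 := mul_mem he (mul_mem hvE hvz)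
    rwa [mul_inv_cancel_left, mul_inv_cancel_left] at h1
  exfalso
  have hzE : w⁻¹ * e ∈ E := mul_mem (inv_mem (om_le E hw)) he
  have hzD : v⁻¹ * (e⁻¹ * x) ∈ D := mul_mem (inv_mem (om_le D hv)) hex
  set z' := w⁻¹ * e with hz'
  set z := v⁻¹ * (e⁻¹ * x) with hz
  have hzz : z' * z ∈ D ⊓ E := mem_inf.2 ⟨mul_mem hwz hzD, mul_mem hzE hvz⟩
  have hvT : v ∈ NS S D := h.twin.bad.le_NS (om_le D hv)
  have hwT : w ∈ NS S D := h.twin.NS_eq ▸ h.twin.bad_E.le_NS (om_le E hw)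
  have e1 : x = (w * v) * (z' * z) := by
    have h1 : z' * v = v * z' := (h.nat.central z' (mem_inf.2 ⟨hwz, hzE⟩) v hvT).symm
    calc x = w * (z' * v) * z := by rw [hz', hz]; group
      _ = (w * v) * (z' * z) := by rw [h1]; group
  have h2 : (w * v) * (z' * z) = (z' * z) * (w * v) := h.nat.central _ hzz _ (mul_mem hwT hvT)
  have e2 : ⁅w, v⁆ = (z' * z)⁻¹ * (z' * z)⁻¹ := by
    rw [commutatorElement_def, sq_mem_eq_one hE hw, sq_mem_eq_one hD hv, ← mul_inv_rev, eq_inv_iff_mul_eq_one]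
    calc w * v * w * v * (z' * z * (z' * z)) = (w * v) * ((w * v) * (z' * z)) * (z' * z) := by group
      _ = (w * v) * ((z' * z) * (w * v)) * (z' * z) := by rw [h2]
      _ = ((w * v) * (z' * z)) * ((w * v) * (z' * z)) := by group
      _ = 1 := by rw [← e1, hx2]
  exact h.nat.comm_ne_sq w (om_le E hw) hwD v (om_le D hv) hvE _ (inv_mem (mem_inf.1 hzz).1) e2

theorem elem {Y : Subgroup G} (hY : Y ≤ NS S D) (hY2 : ∀ y ∈ Y, y * y = 1) : Y ≤ D ∨ Y ≤ E := by
  by_contra hc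
  push Not at hc
  obtain ⟨a, ha, haD⟩ := SetLike.not_le_iff_exists.1 hc.1
  obtain ⟨b, hb, hbE⟩ := SetLike.not_le_iff_exists.1 hc.2
  have haE := (h.invol hA (hY ha) (hY2 a ha)).resolve_left haD
  have hbD := (h.invol hA (hY hb) (hY2 b hb)).resolve_right hbE
  rcases h.invol hA (hY (mul_mem ha hb)) (hY2 _ (mul_mem ha hb)) with h1 | h1
  · have := mul_mem h1 (inv_mem hbD)
    rw [mul_inv_cancel_right] at this
    exact haD this
  · have := mul_mem (inv_mem haE) h1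
    rw [inv_mul_cancel_left] at this
    exact hbE this

theorem conj_eq {n : G} (hn : n ∈ normalizer ((S : Subgroup G) : Set G))
    (hle : om (cjS D n) ≤ NS S D) : cjS D n = D ∨ cjS D n = E := by
  have hb := h.twin.bad.conj hn
  have hc := hb.comm hA
  have hcard : Nat.card ↥(om (cjS D n)) = Nat.card ↥(om D) := by rw [om_cjS, card_cjS]
  have key : ∀ F : Subgroup G, Bad S F → Nat.card ↥F = Nat.card ↥D →
      Nat.card ↥(om F) = Nat.card ↥(om D) → om (cjS D n) ≤ F → cjS D n = F := by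
    intro F hF hF1 hF2 hle'
    have h1 : om (cjS D n) = om F := eq_of_le_of_card_ge
      (fun x hx => (mem_om (hF.comm hA)).2 ⟨hle' hx, ((mem_om hc).1 hx).2⟩) (hF2.trans hcard.symm).le
    refine eq_of_le_of_card_ge (fun x hx => hF.mem_of_centralizes_om hA (hb.le hx) ?_)
      (by rw [hF1, card_cjS])
    exact mem_centralizer_iff.2 fun v hv => hc v (om_le _ (h1 ▸ hv)) x hx
  rcases h.elem hA hle fun y hy => ((mem_om hc).1 hy).2 with h1 | h1
  · exact .inl (key D h.twin.bad rfl rfl h1)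
  · refine .inr (key E h.twin.bad_E ?_ ?_ h1)
    · rw [h.twin.eq, card_cjS]
    · rw [h.twin.eq, om_cjS, card_cjS]

theorem swap {r : G} (hr : r ∈ (S : Subgroup G)) (hrn : r ∈ normalizer (NS S D : Set G))
    (hrT : r ∉ NS S D) : cjS D r = E := by
  refine (h.conj_eq hA (le_normalizer hr) ?_).resolve_left fun e =>
    hrT (mem_inf.2 ⟨hr, mem_norm_of_cjS_eq e⟩)
  refine (om_le _).trans ?_
  rintro _ ⟨d, hd, rfl⟩
  exact conj_mem_norm hrn (h.twin.bad.le_NS hd)

omit hA [Finite G] h in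
theorem mem_E_of_swap {r x : G} (hr : cjS D r = E) (hx : x ∈ D) : r * x * r⁻¹ ∈ E :=
  hr ▸ conj_mem_cjS r hx

theorem mul_mem_T {a b : G} (ha : a ∈ (S : Subgroup G)) (han : a ∈ normalizer (NS S D : Set G))
    (haT : a ∉ NS S D) (hb : b ∈ (S : Subgroup G)) (hbn : b ∈ normalizer (NS S D : Set G))
    (hbT : b ∉ NS S D) : a * b ∈ NS S D := by
  refine mem_inf.2 ⟨mul_mem ha hb, ?_⟩
  have ha' : a⁻¹ ∉ NS S D := fun hc => haT (inv_mem_iff.1 hc)
  have e1 := h.swap hA (inv_mem ha) (inv_mem han) ha'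
  have e2 := h.swap hA hb hbn hbT
  refine mem_norm_of_forall fun x hx => ?_
  have h1 : b * x * b⁻¹ ∈ cjS D a⁻¹ := by rw [e1, ← e2]; exact conj_mem_cjS b hx
  have := mem_cjS.1 h1
  simpa [mul_assoc] using this

theorem le_T_of_norm {n : G} (hn : n ∈ normalizer ((S : Subgroup G) : Set G))
    (hnR : n ∈ normalizer (NS S (NS S D) : Set G)) : cjS D n ≤ NS S D := by
  by_contra hle
  have hR : ∀ x ∈ cjS D n, x ∈ NS S (NS S D) := by
    rintro _ ⟨d, hd, rfl⟩
    exact conj_mem_norm hnR (mem_inf.2 ⟨h.twin.bad.le hd, le_normalizer (h.twin.bad.le_NS hd)⟩)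
  have hc := (h.twin.bad.conj hn).comm hA
  have hom : ¬ om (cjS D n) ≤ NS S D := fun hom => by
    rcases h.conj_eq hA hn hom with e | e
    · exact hle (by rw [e]; exact h.twin.bad.le_NS)
    · exact hle (by rw [e]; exact h.twin.NS_eq ▸ h.twin.bad_E.le_NS)
  obtain ⟨y, hy, hyT⟩ := SetLike.not_le_iff_exists.1 hom
  obtain ⟨hyS, hyn⟩ := mem_inf.1 (hR y (om_le _ hy))
  have hsw := h.swap hA hyS hyn hyT
  set Y := om (cjS D n) ⊓ NS S D with hY
  have hfix : ∀ x ∈ Y, y * x * y⁻¹ = x := fun x hx => by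
    rw [hc y (om_le _ hy) x (om_le _ (mem_inf.1 hx).1), mul_inv_cancel_right]
  have hYV : Y ≤ om D ⊓ E := by
    intro x hx
    have hx2 := ((mem_om hc).1 (mem_inf.1 hx).1).2
    suffices x ∈ D ∧ x ∈ E from mem_inf.2 ⟨(mem_om (h.twin.bad.comm hA)).2 ⟨this.1, hx2⟩, this.2⟩
    rcases h.invol hA (mem_inf.1 hx).2 hx2 with h1 | h1
    · exact ⟨h1, hfix x hx ▸ mem_E_of_swap hsw h1⟩
    · refine ⟨?_, h1⟩
      have h2 : y * x * y⁻¹ ∈ cjS D y := by rw [hsw, hfix x hx]; exact h1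
      have := mem_cjS.1 h2
      simpa [mul_assoc] using this
  have h2 : Nat.card ↥(om (cjS D n)) ≤ 2 * Nat.card ↥Y := by
    have h1 := card_inf_mul_relIndex (NS S D) (om (cjS D n))
    have h3 : (NS S D).relIndex (om (cjS D n)) = 2 := by
      rw [relIndex, index_eq_two_iff]
      refine ⟨⟨y, hy⟩, fun b => ?_⟩
      simp only [mem_subgroupOf, Subgroup.coe_mul]
      obtain ⟨hbS, hbn⟩ := mem_inf.1 (hR b (om_le _ b.2))
      by_cases hb : (b : G) ∈ NS S D
      · refine .inr ⟨hb, fun hby => hyT ?_⟩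
        have := mul_mem (inv_mem hb) hby
        rwa [inv_mul_cancel_left] at this
      · exact .inl ⟨h.mul_mem_T hA hbS hbn hb hyS hyn hyT, hb⟩
    rw [inf_comm, h3, ← hY] at h1
    omega
  rw [om_cjS, card_cjS, ← h.nat.card_V] at h2
  have h4 := Subgroup.card_le_of_le hYV
  have h5 : 0 < Nat.card ↥(om D ⊓ E) := Nat.card_pos
  have h6 := h.three_le
  nlinarith

theorem mem_normalizer_T {n : G} (hn : n ∈ normalizer ((S : Subgroup G) : Set G))
    (hnR : n ∈ normalizer (NS S (NS S D) : Set G)) : n ∈ normalizer (NS S D : Set G) := by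
  refine mem_norm_of_forall fun t ht => ?_
  obtain ⟨e, he, het⟩ := h.nat.cover t ht
  have h1 := h.le_T_of_norm hA hn hnR (conj_mem_cjS n het)
  have h2 := h.symm.le_T_of_norm hA hn (by rw [h.twin.NS_eq]; exact hnR) (conj_mem_cjS n he)
  rw [h.twin.NS_eq] at h2
  rw [show n * t * n⁻¹ = (n * e * n⁻¹) * (n * (e⁻¹ * t) * n⁻¹) by group]
  exact mul_mem h2 h1

theorem sylow_le_normalizer : (S : Subgroup G) ≤ normalizer (NS S D : Set G) := by
  by_contra hle
  obtain ⟨x, hx, hxR, hxn⟩ := exists_normalizes (le_refl (S : Subgroup G))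
    (inf_le_left : NS S (NS S D) ≤ _) (fun e => hle fun x hx => (mem_inf.1 (e.ge hx : x ∈ NS S (NS S D))).2)
  exact hxR (mem_inf.2 ⟨hx, h.mem_normalizer_T hA (le_normalizer hx) hxn⟩)

theorem normalizer_le {n : G} (hn : n ∈ normalizer ((S : Subgroup G) : Set G)) :
    n ∈ normalizer (NS S D : Set G) :=
  h.mem_normalizer_T hA hn (mem_norm_of_forall fun x hx =>
    mem_inf.2 ⟨conj_mem_norm hn (mem_inf.1 hx).1, h.sylow_le_normalizer hA (conj_mem_norm hn (mem_inf.1 hx).1)⟩)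

theorem mul_mem_T' {a b : G} (ha : a ∈ (S : Subgroup G)) (haT : a ∉ NS S D) (hb : b ∈ (S : Subgroup G))
    (hbT : b ∉ NS S D) : a * b ∈ NS S D :=
  h.mul_mem_T hA ha (h.sylow_le_normalizer hA ha) haT hb (h.sylow_le_normalizer hA hb) hbT

theorem parity {n : G} (hn : n ∈ normalizer ((S : Subgroup G) : Set G)) {x : G}
    (hx : x ∈ (S : Subgroup G)) : x⁻¹ * (n * x * n⁻¹) ∈ NS S D := by
  have hnT := h.normalizer_le hA hn
  by_cases hxT : x ∈ NS S D
  · exact mul_mem (inv_mem hxT) (conj_mem_norm hnT hxT)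
  refine h.mul_mem_T' hA (inv_mem hx) (fun hc => hxT (inv_mem_iff.1 hc)) (conj_mem_norm hn hx) fun hc => hxT ?_
  have := conj_inv_mem_norm hnT hc
  simpa [mul_assoc] using this

omit hA [Finite G] h in
theorem swap_mem_D {y x : G} (hsw : cjS D y = E) (hxy : y * x * y⁻¹ ∈ E) : x ∈ D := by
  rw [← hsw, mem_cjS] at hxy
  simpa [mul_assoc] using hxy

theorem normal_le {A : Subgroup G} (hA' : Comm A) (hAS : A ≤ (S : Subgroup G))
    (hAn : (S : Subgroup G) ≤ normalizer (A : Set G)) : A ≤ NS S D := by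
  by_contra hle
  obtain ⟨y, hy, hyT⟩ := SetLike.not_le_iff_exists.1 hle
  have hsw := h.swap hA (hAS hy) (h.sylow_le_normalizer hA (hAS hy)) hyT
  have hD := h.twin.bad.comm hA
  have hE := h.twin.bad_E.comm hA
  obtain ⟨e₀, he₀, he₀'⟩ := h.nat.cover (y * y) (h.mul_mem_T' hA (hAS hy) hyT (hAS hy) hyT)
  have key : ∀ v ∈ om D, v ∉ E → (y * v * y⁻¹)⁻¹ * e₀ ∈ D := by
    intro v hv hvE
    set w := y * v * y⁻¹ with hw
    have hwE : w ∈ E := mem_E_of_swap hsw (om_le D hv)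
    have hw2 : w * w = 1 := by
      rw [hw, show y * v * y⁻¹ * (y * v * y⁻¹) = y * (v * v) * y⁻¹ by group, ((mem_om hD).1 hv).2]
      group
    have hf : v⁻¹ * w ∈ A := by
      rw [hw, show v⁻¹ * (y * v * y⁻¹) = v⁻¹ * y * v * y⁻¹ by group]
      exact mul_mem (conj_inv_mem_norm (hAn (h.twin.bad.le (om_le D hv))) hy) (inv_mem hy)
    have hc := hA' y hy _ hf
    have e1 : y * y * v * (y * y)⁻¹ = w * v * w⁻¹ := by
      have h3 : w⁻¹ * (y * w * y⁻¹) = v⁻¹ * w := by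
        calc w⁻¹ * (y * w * y⁻¹) = y * (v⁻¹ * w) * y⁻¹ := by rw [hw]; group
          _ = v⁻¹ * w := by rw [hc]; group
      calc y * y * v * (y * y)⁻¹ = y * w * y⁻¹ := by rw [hw]; group
        _ = w * (v⁻¹ * w) := by rw [← h3, mul_inv_cancel_left]
        _ = w * v * w⁻¹ := by
          rw [sq_mem_eq_one hD hv, ← mul_assoc, (inv_eq_of_mul_eq_one_right hw2 : w⁻¹ = w)]
    have e2 : y * y * v * (y * y)⁻¹ = e₀ * v * e₀⁻¹ := by
      have h3 := hD _ he₀' v (om_le D hv)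
      calc y * y * v * (y * y)⁻¹ = e₀ * ((e₀⁻¹ * (y * y)) * v) * (e₀⁻¹ * (y * y))⁻¹ * e₀⁻¹ := by group
        _ = e₀ * (v * (e₀⁻¹ * (y * y))) * (e₀⁻¹ * (y * y))⁻¹ * e₀⁻¹ := by rw [h3]
        _ = e₀ * v * e₀⁻¹ := by group
    have e3 : v * (w⁻¹ * e₀) = (w⁻¹ * e₀) * v := by
      refine (commute_iff_conj_eq.1 ?_)
      calc w⁻¹ * e₀ * v * (w⁻¹ * e₀)⁻¹ = w⁻¹ * (e₀ * v * e₀⁻¹) * w := by group
        _ = v := by rw [← e2, e1]; group
    by_contra hb
    exact hvE (h.nat.free _ (mul_mem (inv_mem hwE) he₀) hb v (om_le D hv) e3)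
  obtain ⟨a, ha, b, hb, haE, hbE, hab⟩ := exists_two_classes h.three_le h.nat.card_V
  have h1 := mul_mem (key a ha haE) (inv_mem (key b hb hbE))
  have h2 : y * (a⁻¹ * b) * y⁻¹ ∈ D := by
    convert h1 using 1
    group
  have h3 : a⁻¹ * b ∈ D := mul_mem (inv_mem (om_le D ha)) (om_le D hb)
  have h4 := h.symm.swap hA (hAS hy) (by rw [h.twin.NS_eq]; exact h.sylow_le_normalizer hA (hAS hy))
    (by rw [h.twin.NS_eq]; exact hyT)
  exact hab (swap_mem_D h4 h2)

theorem comm_T {e : G} (he : e ∈ E) {d : G} (hd : d ∈ D) {t : G} (ht : t ∈ NS S D) :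
    t * ⁅e, d⁆ = ⁅e, d⁆ * t :=
  h.nat.central _ ((h.twin.pair hA).comm_mem e he d hd) t ht

theorem comm_mul_left {e₁ e₂ d : G} (he₁ : e₁ ∈ E) (he₂ : e₂ ∈ E) (hd : d ∈ D) :
    ⁅e₁ * e₂, d⁆ = ⁅e₁, d⁆ * ⁅e₂, d⁆ := by
  have hT : ∀ {e : G}, e ∈ E → e ∈ NS S D := fun he => h.twin.NS_eq ▸ h.twin.bad_E.le_NS he
  calc ⁅e₁ * e₂, d⁆ = e₁ * ⁅e₂, d⁆ * e₁⁻¹ * ⁅e₁, d⁆ := by simp only [commutatorElement_def]; group
    _ = ⁅e₂, d⁆ * ⁅e₁, d⁆ := by rw [h.comm_T hA he₂ hd (hT he₁)]; group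
    _ = _ := (h.twin.bad.comm hA) _ (mem_inf.1 ((h.twin.pair hA).comm_mem e₂ he₂ d hd)).1 _
      (mem_inf.1 ((h.twin.pair hA).comm_mem e₁ he₁ d hd)).1

theorem comm_mul_right {e d₁ d₂ : G} (he : e ∈ E) (hd₁ : d₁ ∈ D) (hd₂ : d₂ ∈ D) :
    ⁅e, d₁ * d₂⁆ = ⁅e, d₁⁆ * ⁅e, d₂⁆ := by
  calc ⁅e, d₁ * d₂⁆ = ⁅e, d₁⁆ * (d₁ * ⁅e, d₂⁆ * d₁⁻¹) := by simp only [commutatorElement_def]; group
    _ = _ := by rw [h.comm_T hA he hd₂ (h.twin.bad.le_NS hd₁), mul_inv_cancel_right]

theorem no_outside {D' E' : Subgroup G} {s' : G} {q' : ℕ} (h' : Twin S D' E' s')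
    (hn' : PairNat S D' E' q') : om D' ≤ NS S D := by
  by_contra hle
  obtain ⟨y, hy, hyT⟩ := SetLike.not_le_iff_exists.1 hle
  have hc := h'.bad.comm hA
  have hyS := h'.bad.le (om_le D' hy)
  have hy2 := ((mem_om hc).1 hy).2
  have hyi : y⁻¹ = y := inv_eq_of_mul_eq_one_right hy2
  have hsw := h.swap hA hyS (h.sylow_le_normalizer hA hyS) hyT
  have hD := h.twin.bad.comm hA
  -- `q' = 2`
  have hY : om D' ⊓ NS S D ≤ om D' ⊓ E' := by
    intro x hx
    obtain ⟨hx1, hx2⟩ := mem_inf.1 hx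
    have hfix : y * x * y⁻¹ = x := by rw [hc y (om_le _ hy) x (om_le _ hx1), mul_inv_cancel_right]
    have hxDE : x ∈ D ⊓ E := by
      rcases h.invol hA hx2 ((mem_om hc).1 hx1).2 with h1 | h1
      · exact mem_inf.2 ⟨h1, hfix ▸ mem_E_of_swap hsw h1⟩
      · exact mem_inf.2 ⟨swap_mem_D hsw (hfix.symm ▸ h1), h1⟩
    refine mem_inf.2 ⟨hx1, (h'.pair hA).cent x (om_le _ hx1) fun e he => ?_⟩
    have heS := h'.bad_E.le he
    by_cases heT : e ∈ NS S D
    · exact (h.nat.central x hxDE e heT).symm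
    have h1 := h.nat.central x hxDE _ (h.mul_mem_T' hA hyS hyT heS heT)
    have h2 := hc y (om_le _ hy) x (om_le _ hx1)
    calc x * e = y⁻¹ * (y * x) * e := by group
      _ = y⁻¹ * (x * (y * e)) := by rw [h2]; group
      _ = y⁻¹ * ((y * e) * x) := by rw [h1]
      _ = e * x := by group
  have hnotT : ∀ x ∈ om D', x ∉ NS S D → y⁻¹ * x ∈ om D' ⊓ NS S D := fun x hx hxT =>
    mem_inf.2 ⟨mul_mem (inv_mem hy) hx, h.mul_mem_T' hA (inv_mem hyS) (fun hc' => hyT (inv_mem_iff.1 hc'))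
      (h'.bad.le (om_le _ hx)) hxT⟩
  have hq' : q' = 2 := by
    refine le_antisymm ?_ hn'.two_le
    by_contra hlt
    obtain ⟨a, ha, b, hb, haE, hbE, habE⟩ := exists_two_classes (by omega : 3 ≤ q') hn'.card_V
    have haT : a ∉ NS S D := fun hh => haE (mem_inf.1 (hY (mem_inf.2 ⟨ha, hh⟩))).2
    have hbT : b ∉ NS S D := fun hh => hbE (mem_inf.1 (hY (mem_inf.2 ⟨hb, hh⟩))).2
    have h1 := mul_mem (inv_mem (hY (hnotT a ha haT))) (hY (hnotT b hb hbT))
    refine habE ?_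
    have h2 := (mem_inf.1 h1).2
    simpa [mul_assoc] using h2
  have hyE : y ∉ E' := fun hyE => by
    have h1 : om D' ⊓ E' = om D' := inf_eq_left.2 fun x hx => by
      by_cases hxT : x ∈ NS S D
      · exact (mem_inf.1 (hY (mem_inf.2 ⟨hx, hxT⟩))).2
      · have := mul_mem hyE (mem_inf.1 (hY (hnotT x hx hxT))).2
        rwa [mul_inv_cancel_left] at this
    have h2 := hn'.card_V
    rw [h1, hq'] at h2
    have h3 : 0 < Nat.card ↥(om D') := Nat.card_pos
    omega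
  have hcent : ∀ x ∈ (S : Subgroup G), x * y = y * x → x ∈ D' := fun x hx hxy =>
    Pair.mem_of_commute hn' hA h'.bad (om_le _ hy) hyE hx hxy
  have hidx : (D' ⊓ E').relIndex E' = 2 := by
    have h1 := card_inf_mul_relIndex (D' ⊓ E') E'
    rw [inf_assoc, inf_idem, ← hn'.card_E, hq'] at h1
    exact Nat.eq_of_mul_eq_mul_left Nat.card_pos h1
  have htwo : ∀ t₁ ∈ NS S D', ∀ t₂ ∈ NS S D', t₁ ∉ D' → t₂ ∉ D' → t₁ * t₂ ∈ D' := by
    intro t₁ ht₁ t₂ ht₂ h₁ h₂
    obtain ⟨e₁, he₁, het₁⟩ := hn'.cover t₁ ht₁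
    obtain ⟨e₂, he₂, het₂⟩ := hn'.cover t₂ ht₂
    have hne₁ : e₁ ∉ D' ⊓ E' := fun hh => h₁ (by
      have := mul_mem (mem_inf.1 hh).1 het₁; rwa [mul_inv_cancel_left] at this)
    have hne₂ : e₂ ∉ D' ⊓ E' := fun hh => h₂ (by
      have := mul_mem (mem_inf.1 hh).1 het₂; rwa [mul_inv_cancel_left] at this)
    have h3 := (mem_inf.1 (mul_mem_of_relIndex_two hidx he₁ he₂ hne₁ hne₂)).1
    have hE'T : E' ≤ NS S D' := h'.NS_eq ▸ h'.bad_E.le_NS
    have h4 := conj_inv_mem_norm (mem_inf.1 (hE'T he₂)).2 het₁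
    have := mul_mem h3 (mul_mem h4 het₂)
    convert this using 1
    group
  -- the elements `a * (y a y)`
  set σ : G → G := fun x => y * x * y with hσ
  have hσσ : ∀ x, σ (σ x) = x := fun x => by
    simp only [hσ]
    rw [show y * (y * x * y) * y = (y * y) * x * (y * y) by group, hy2]; group
  have hσmul : ∀ x z, σ (x * z) = σ x * σ z := fun x z => by
    simp only [hσ]
    rw [show y * x * y * (y * z * y) = y * x * (y * y) * (z * y) by group, hy2]; group
  have hσE : ∀ x ∈ D, σ x ∈ E := fun x hx => by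
    have := mem_E_of_swap hsw hx
    rwa [hyi] at this
  have hσDE : ∀ x, σ x ∈ E → x ∈ D := fun x hxE => swap_mem_D hsw (by rwa [hyi])
  have hmain : ∀ a ∈ om D, a ∉ E → ∃ u, u = ⁅σ a, a⁆ ∧ u ≠ 1 ∧ u * u = 1 ∧ u ∈ D' ∧
      a * σ a ∈ NS S D' ∧ a * σ a ∉ D' ∧ (a * σ a)⁻¹ * y * (a * σ a) = u * y ∧
      (a * σ a) * (a * σ a) = u := by
    intro a ha haE
    have haD := om_le D ha
    have ha2 := ((mem_om hD).1 ha).2
    have ha'E := hσE a haD
    have hai : a⁻¹ = a := inv_eq_of_mul_eq_one_right ha2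
    have ha'2 : σ a * σ a = 1 := by rw [← hσmul, ha2]; simp [hσ, hy2]
    have ha'i : (σ a)⁻¹ = σ a := inv_eq_of_mul_eq_one_right ha'2
    have ha'D : σ a ∉ D := fun hh => haE (by have := hσE _ hh; rwa [hσσ] at this)
    have hu1 : ⁅σ a, a⁆ ≠ 1 := by
      simpa using h.nat.comm_ne_sq _ ha'E ha'D a haD haE 1 (one_mem D)
    have hu2 : ⁅σ a, a⁆ * ⁅σ a, a⁆ = 1 := ((mem_om hD).1 (h.nat.comm_om _
      (Bad.NS_le_L (h.twin.NS_eq ▸ h.twin.bad_E.le_NS ha'E : σ a ∈ NS S D)) a haD)).2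
    have hue : ⁅σ a, a⁆ = σ a * a * σ a * a := by rw [commutatorElement_def, ha'i, hai]
    have huinv : (a * σ a) * (a * σ a) = ⁅σ a, a⁆ := by
      rw [← inv_eq_of_mul_eq_one_right hu2, hue]
      simp only [mul_inv_rev, hai, ha'i]
      group
    have hconj : (a * σ a)⁻¹ * y * (a * σ a) = ⁅σ a, a⁆ * y := by
      have e1 : y * (a * σ a) = (σ a * a) * y := by
        simp only [hσ]
        calc y * (a * (y * a * y)) = y * a * y * a * y := by group
          _ = _ := by group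
      calc (a * σ a)⁻¹ * y * (a * σ a) = (a * σ a)⁻¹ * (y * (a * σ a)) := by group
        _ = (σ a * a) * ((σ a * a) * y) := by rw [e1, mul_inv_rev, hai, ha'i]
        _ = _ := by rw [hue]; group
    have hyu : ⁅σ a, a⁆ * y = y * ⁅σ a, a⁆ := by
      have e2 : σ ⁅σ a, a⁆ = ⁅σ a, a⁆ := by
        rw [hue, hσmul, hσmul, hσmul, hσσ,
          show a * σ a * a * σ a = (a * σ a) * (a * σ a) by group, huinv, hue]
      simp only [hσ] at e2
      calc ⁅σ a, a⁆ * y = y * ⁅σ a, a⁆ * y * y := by rw [e2]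
        _ = y * ⁅σ a, a⁆ * (y * y) := by group
        _ = y * ⁅σ a, a⁆ := by rw [hy2, mul_one]
    have haS : a * σ a ∈ (S : Subgroup G) := mul_mem (h.twin.bad.le haD) (h.twin.bad_E.le ha'E)
    have huS : ⁅σ a, a⁆ ∈ (S : Subgroup G) := by rw [← huinv]; exact mul_mem haS haS
    have huD' : ⁅σ a, a⁆ ∈ D' := hcent _ huS hyu
    refine ⟨_, rfl, hu1, hu2, huD', mem_inf.2 ⟨haS, mem_norm_of_forall fun x hx => ?_⟩, fun hh => hu1 ?_,
      hconj, huinv⟩
    · refine hcent _ (mul_mem (mul_mem haS (h'.bad.le hx)) (inv_mem haS)) ?_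
      have h3 : x * (⁅σ a, a⁆ * y) = (⁅σ a, a⁆ * y) * x := hc x hx _ (mul_mem huD' (om_le _ hy))
      rw [← hconj] at h3
      set w := a * σ a
      calc w * x * w⁻¹ * y = w * (x * (w⁻¹ * y * w)) * w⁻¹ := by group
        _ = w * ((w⁻¹ * y * w) * x) * w⁻¹ := by rw [h3]
        _ = y * (w * x * w⁻¹) := by group
    · have h3 := hconj
      rw [mul_assoc, hc y (om_le _ hy) _ hh, inv_mul_cancel_left, eq_comm, mul_eq_right] at h3
      exact h3
  have hsame : ∀ a ∈ om D, a ∉ E → ∀ b ∈ om D, b ∉ E → ⁅σ a, a⁆ = ⁅σ b, b⁆ := by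
    intro a ha haE b hb hbE
    obtain ⟨u, hu, -, -, huD', haT', haD', hua, -⟩ := hmain a ha haE
    obtain ⟨v, hv, -, -, hvD', hbT', hbD', hub, -⟩ := hmain b hb hbE
    have hδ : (a * σ a)⁻¹ * (b * σ b) ∈ D' :=
      htwo _ (inv_mem haT') _ hbT' (fun hh => haD' (inv_mem_iff.1 hh)) hbD'
    set δ := (a * σ a)⁻¹ * (b * σ b) with hδdef
    have h1 : v * y = δ⁻¹ * (u * y) * δ := by
      rw [← hub, ← hua, hδdef]
      group
    rw [mul_assoc δ⁻¹, hc _ (mul_mem huD' (om_le _ hy)) δ hδ, inv_mul_cancel_left, mul_left_inj] at h1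
    rw [← hu, ← hv, h1]
  obtain ⟨a, ha, b, hb, haE, hbE, hab⟩ := exists_two_classes h.three_le h.nat.card_V
  rw [sq_mem_eq_one hD ha] at hab
  have hc' : a * b ∈ om D := mul_mem ha hb
  have haD := om_le D ha
  have hbD := om_le D hb
  obtain ⟨u, hu, hu1, hu2, huD', hwaT, hwaD, -, hwa2⟩ := hmain a ha haE
  obtain ⟨-, -, -, -, -, hwbT, hwbD, -, -⟩ := hmain b hb hbE
  obtain ⟨-, -, -, -, -, hwcT, hwcD, -, -⟩ := hmain _ hc' hab
  have huc := hsame a ha haE _ hc' hab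
  have hub := hsame a ha haE b hb hbE
  rw [hσmul, h.comm_mul_left hA (hσE a haD) (hσE b hbD) (mul_mem haD hbD), h.comm_mul_right hA (hσE a haD) haD hbD,
    h.comm_mul_right hA (hσE b hbD) haD hbD, ← hub, ← hu] at huc
  set k := ⁅σ a, b⁆ with hk
  set k' := ⁅σ b, a⁆ with hk'
  have hkk : k * k' = u := by
    have hkD : k ∈ D := (mem_inf.1 ((h.twin.pair hA).comm_mem _ (hσE a haD) b hbD)).1
    have hk'D : k' ∈ D := (mem_inf.1 ((h.twin.pair hA).comm_mem _ (hσE b hbD) a haD)).1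
    have huD : u ∈ D := hu ▸ (mem_inf.1 ((h.twin.pair hA).comm_mem _ (hσE a haD) a haD)).1
    calc k * k' = (k * k') * (u * u) := by rw [hu2, mul_one]
      _ = (u * (k * k')) * u := by rw [hD u huD _ (mul_mem hkD hk'D)]; group
      _ = u * k * (k' * u) := by group
      _ = u := huc.symm
  have haT : a ∈ NS S D := h.twin.bad.le_NS haD
  have hbT : b ∈ NS S D := h.twin.bad.le_NS hbD
  have hET : ∀ {e : G}, e ∈ E → e ∈ NS S D := fun he => h.twin.NS_eq ▸ h.twin.bad_E.le_NS he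
  have hwab : (a * σ a) * (b * σ b) = k * (a * b * σ (a * b)) := by
    rw [hσmul]
    have e1 : σ a * b = k * (b * σ a) := by rw [hk, commutatorElement_def]; group
    have e2 := h.comm_T hA (hσE a haD) hbD haT
    calc a * σ a * (b * σ b) = a * (σ a * b) * σ b := by group
      _ = (a * k) * b * σ a * σ b := by rw [e1]; group
      _ = _ := by rw [hk, e2]; group
  have hwba : (b * σ b) * (a * σ a) = k' * (a * b * σ (a * b)) := by
    rw [hσmul, hD a haD b hbD, h.twin.bad_E.comm hA _ (hσE a haD) _ (hσE b hbD)]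
    have e1 : σ b * a = k' * (a * σ b) := by rw [hk', commutatorElement_def]; group
    have e2 := h.comm_T hA (hσE b hbD) haD hbT
    calc b * σ b * (a * σ a) = b * (σ b * a) * σ a := by group
      _ = (b * k') * a * σ b * σ a := by rw [e1]; group
      _ = _ := by rw [hk', e2]; group
  set wa := a * σ a
  set wb := b * σ b
  set wc := a * b * σ (a * b)
  have hp1 : wa * wb ∈ D' := htwo _ hwaT _ hwbT hwaD hwbD
  have hp2 : wa * wc ∈ D' := htwo _ hwaT _ hwcT hwaD hwcD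
  have hkT : ∀ t ∈ NS S D, t * k = k * t := fun t ht => h.comm_T hA (hσE a haD) hbD ht
  have hk'T : ∀ t ∈ NS S D, t * k' = k' * t := fun t ht => h.comm_T hA (hσE b hbD) haD ht
  have huT : ∀ t ∈ NS S D, t * u = u * t := fun t ht => hu ▸ h.comm_T hA (hσE a haD) haD ht
  have hwaT0 : wa ∈ NS S D := mul_mem haT (hET (hσE a haD))
  have hwbT0 : wb ∈ NS S D := mul_mem hbT (hET (hσE b hbD))
  have hp2' : wa * wc = (u * k⁻¹) * wb := by
    have e1 : wc = k⁻¹ * (wa * wb) := by rw [hwab, inv_mul_cancel_left]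
    have e2 : wa * k⁻¹ = k⁻¹ * wa := ((show Commute wa k from hkT wa hwaT0).inv_right).eq
    calc wa * wc = (wa * k⁻¹) * (wa * wb) := by rw [e1]; group
      _ = k⁻¹ * (wa * wa) * wb := by rw [e2]; group
      _ = (k⁻¹ * u) * wb := by rw [hwa2]
      _ = _ := by
        rw [((show Commute u k from hkT u (hwa2 ▸ mul_mem hwaT0 hwaT0)).inv_right).symm.eq]
  have hpc := hc _ hp1 _ hp2
  rw [hp2'] at hpc
  set z := u * k⁻¹ with hz
  have hzT : ∀ t ∈ NS S D, t * z = z * t := fun t ht => by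
    rw [hz, ← mul_assoc, huT t ht, mul_assoc, ((show Commute t k from hkT t ht).inv_right).eq, mul_assoc]
  have hcomm : wa * wb = wb * wa := by
    have h1 : z * ((wa * wb) * wb) = z * (wb * (wa * wb)) := by
      calc z * ((wa * wb) * wb) = (z * (wa * wb)) * wb := by group
        _ = (wa * wb) * (z * wb) := by rw [← hzT _ (mul_mem hwaT0 hwbT0)]; group
        _ = (z * wb) * (wa * wb) := hpc
        _ = _ := by group
    have h2 : (wa * wb) * wb = (wb * wa) * wb := by rw [mul_left_cancel h1]; group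
    exact mul_right_cancel h2
  rw [hwab, hwba, mul_left_inj] at hcomm
  have hk2 : k * k = 1 := ((mem_om hD).1 (h.nat.comm_om _
    (Bad.NS_le_L (hET (hσE a haD))) b hbD)).2
  rw [← hcomm, hk2] at hkk
  exact hu1 hkk.symm

theorem false_of_simple [IsSimpleGroup G] (hG : ¬ IsMulCommutative G) : False := by
  have hle : (S : Subgroup G) ≤ NS S D := by
    refine sylow_le_of_family hG S (NS S D) (fun n hn x hx => h.parity hA hn hx) fun D' hD' g hg x hx => ?_
    obtain ⟨l, hl, n, hn, hnS, rfl⟩ := hD'.frattini hA hg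
    have hx' : n * x * n⁻¹ ∈ D' := conj_mem_norm hn hx
    have hc := hD'.comm hA
    suffices ⁅l, n * x * n⁻¹⁆ ∈ NS S D by
      have h1 := mul_mem (h.parity hA hnS (hD'.le hx)) this
      set x' := n * x * n⁻¹ with hx'def
      have e0 : ⁅l, x'⁆ = x'⁻¹ * (l * x' * l⁻¹) := by
        rw [commutatorElement_def, hc _ (conj_mem_norm (Bad.L_le D' hl) hx') _ (inv_mem hx')]
      rw [e0, mul_assoc, mul_inv_cancel_left] at h1
      rw [show l * n * x * (l * n)⁻¹ = l * x' * l⁻¹ by rw [hx'def]; group]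
      exact h1
    by_cases hle : D' ≤ NS S D
    · refine hle ?_
      exact mul_mem (conj_mem_norm (Bad.L_le D' hl) hx') (inv_mem hx')
    by_cases hnorm : (S : Subgroup G) ≤ normalizer (D' : Set G)
    · exact absurd (h.normal_le hA hc hD'.le hnorm) hle
    obtain ⟨E', s', h'⟩ := exists_twin hD' hnorm
    obtain ⟨q', hn'⟩ := (h'.pair hA).natural hA
    exact h.no_outside hA h' hn' (hn'.comm_om l hl _ hx')
  exact h.twin.out (mem_inf.1 (hle h.twin.mem)).2

end Big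

end Cfsg.Agent.AbelianInter
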