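import Cfsg.Agent.Lib.AbelianInter.Big
import Cfsg.Agent.Lib.PGroup.Basic

/-!
# The chain above an abelian subgroup with an involution of small centraliser (owner: helper74)

`Soft S D d` : `D ≤ S` is abelian of index 2 in `T = N_S(D)`, `T` has central elementary commutators and
`C_S(d) = D` for the involution `d ∈ D`.

* `node_exists` : each `X > D` in `S` has a hyperplane `M ∋ d` abelian modulo `KK X`
* `conj_of_node` : the top hyperplane determines `D` up to conjugation in `S`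
* `class_two_of_three` : three distinct top hyperplanes force class at most 2
-/

set_option autoImplicit false
set_option linter.style.haveILetI false

namespace Cfsg.Agent.AbelianInter

open Subgroup
open scoped commutatorElement

universe u

section general

variable {G : Type u} [Group G]

theorem mul_mem_iff_two {M X : Subgroup G} (h : M.relIndex X = 2) {a b : G} (ha : a ∈ X) (hb : b ∈ X) :
    a * b ∈ M ↔ (a ∈ M ↔ b ∈ M) := by
  have := mul_mem_iff_of_index_two (H := M.subgroupOf X) h (a := ⟨a, ha⟩) (b := ⟨b, hb⟩)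
  rwa [mem_subgroupOf, mem_subgroupOf, mem_subgroupOf] at this

theorem conj_mem_two {M X : Subgroup G} (h : M.relIndex X = 2) {a b : G} (ha : a ∈ X) (hb : b ∈ M)
    (hMX : M ≤ X) : a * b * a⁻¹ ∈ M := by
  rw [mul_mem_iff_two h (mul_mem ha (hMX hb)) (inv_mem ha), mul_mem_iff_two h ha (hMX hb)]
  simp [hb]

/-- The subgroup generated by the triple commutators and the squares of commutators. -/
def KK (X : Subgroup G) : Subgroup G :=
  closure {z | ∃ a ∈ X, ∃ b ∈ X, ∃ c ∈ X, z = ⁅⁅a, b⁆, c⁆ ∨ z = ⁅a, b⁆ * ⁅a, b⁆}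

theorem comm_comm_mem_KK {X : Subgroup G} {a b c : G} (ha : a ∈ X) (hb : b ∈ X) (hc : c ∈ X) :
    ⁅⁅a, b⁆, c⁆ ∈ KK X := subset_closure ⟨a, ha, b, hb, c, hc, .inl rfl⟩

theorem comm_sq_mem_KK {X : Subgroup G} {a b : G} (ha : a ∈ X) (hb : b ∈ X) :
    ⁅a, b⁆ * ⁅a, b⁆ ∈ KK X := subset_closure ⟨a, ha, b, hb, b, hb, .inr rfl⟩

theorem comm_mem_of_mem {X : Subgroup G} {a b : G} (ha : a ∈ X) (hb : b ∈ X) : ⁅a, b⁆ ∈ X :=
  mul_mem (mul_mem (mul_mem ha hb) (inv_mem ha)) (inv_mem hb)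

theorem KK_le (X : Subgroup G) : KK X ≤ X := (closure_le _).2 <| by
  rintro _ ⟨a, ha, b, hb, c, hc, rfl | rfl⟩
  · exact comm_mem_of_mem (comm_mem_of_mem ha hb) hc
  · exact mul_mem (comm_mem_of_mem ha hb) (comm_mem_of_mem ha hb)

theorem KK_cjS (X : Subgroup G) (g : G) : KK (cjS X g) = cjS (KK X) g := by
  show Subgroup.closure _ = (Subgroup.closure _).map _
  rw [MonoidHom.map_closure]
  congr 1
  ext z
  constructor
  · rintro ⟨_, ⟨a, ha, rfl⟩, _, ⟨b, hb, rfl⟩, _, ⟨c, hc, rfl⟩, hz | hz⟩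
    · exact ⟨_, ⟨a, ha, b, hb, c, hc, .inl rfl⟩, by rw [hz, map_commutatorElement, map_commutatorElement]⟩
    · exact ⟨_, ⟨a, ha, b, hb, c, hc, .inr rfl⟩, by rw [hz, map_mul, map_commutatorElement]⟩
  · rintro ⟨_, ⟨a, ha, b, hb, c, hc, rfl | rfl⟩, rfl⟩
    · exact ⟨_, mem_map_of_mem _ ha, _, mem_map_of_mem _ hb, _, mem_map_of_mem _ hc,
        .inl (by rw [map_commutatorElement, map_commutatorElement])⟩
    · exact ⟨_, mem_map_of_mem _ ha, _, mem_map_of_mem _ hb, _, mem_map_of_mem _ hc,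
        .inr (by rw [map_mul, map_commutatorElement])⟩

theorem cjS_mono {A B : Subgroup G} (h : A ≤ B) (g : G) : cjS A g ≤ cjS B g := map_mono h

theorem cjS_cjS (A : Subgroup G) (g k : G) : cjS (cjS A g) k = cjS A (k * g) := by
  ext x
  rw [mem_cjS, mem_cjS, mem_cjS]
  group

theorem cjS_eq_self {A : Subgroup G} {g : G} (hg : g ∈ normalizer (A : Set G)) : cjS A g = A := by
  ext x
  rw [mem_cjS]
  refine ⟨fun h => ?_, conj_inv_mem_norm hg⟩
  simpa [mul_assoc] using conj_mem_norm hg h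

theorem relIndex_cjS (A B : Subgroup G) (g : G) : (cjS A g).relIndex (cjS B g) = A.relIndex B :=
  relIndex_map_map_of_injective _ _ (MulAut.conj g).injective

theorem conj_mem_KK {X : Subgroup G} {g z : G} (hg : g ∈ normalizer (X : Set G)) (hz : z ∈ KK X) :
    g * z * g⁻¹ ∈ KK X := by
  have h := conj_mem_cjS g hz
  rwa [← KK_cjS, cjS_eq_self hg] at h

theorem comm_symm_KK {X : Subgroup G} {a b : G} (h : ⁅a, b⁆ ∈ KK X) : ⁅b, a⁆ ∈ KK X := by
  rw [← commutatorElement_inv]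
  exact inv_mem h

/-- The elements of `X` commuting with `y` modulo `KK X`. -/
def centMod (X : Subgroup G) (y : G) : Subgroup G where
  carrier := {x | x ∈ X ∧ ⁅x, y⁆ ∈ KK X}
  one_mem' := ⟨one_mem _, by simp⟩
  mul_mem' := fun {a b} ha hb => ⟨mul_mem ha.1 hb.1, by
    rw [show ⁅a * b, y⁆ = a * ⁅b, y⁆ * a⁻¹ * ⁅a, y⁆ by simp only [commutatorElement_def]; group]
    exact mul_mem (conj_mem_KK (le_normalizer ha.1) hb.2) ha.2⟩
  inv_mem' := fun {a} ha => ⟨inv_mem ha.1, by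
    rw [show ⁅a⁻¹, y⁆ = a⁻¹ * ⁅a, y⁆⁻¹ * (a⁻¹)⁻¹ by simp only [commutatorElement_def]; group]
    exact conj_mem_KK (le_normalizer (inv_mem ha.1)) (inv_mem ha.2)⟩

theorem sq_centMod {X : Subgroup G} {x y : G} (hx : x ∈ X) (hy : y ∈ X) : x * x ∈ centMod X y := by
  refine ⟨mul_mem hx hx, ?_⟩
  rw [show ⁅x * x, y⁆ = ⁅⁅x, y⁆, x⁆⁻¹ * (⁅x, y⁆ * ⁅x, y⁆) by
    simp only [commutatorElement_def, mul_inv_rev, inv_inv, mul_assoc, inv_mul_cancel_left, mul_inv_cancel_left]]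
  exact mul_mem (inv_mem (comm_comm_mem_KK hx hy hx)) (comm_sq_mem_KK hx hy)

/-- A hyperplane that is abelian modulo `KK X`. -/
structure Iso (X M : Subgroup G) : Prop where
  le : M ≤ X
  idx : M.relIndex X = 2
  comm : ∀ a ∈ M, ∀ b ∈ M, ⁅a, b⁆ ∈ KK X

theorem Iso.conj {X M : Subgroup G} (h : Iso X M) (g : G) : Iso (cjS X g) (cjS M g) where
  le := cjS_mono h.le g
  idx := by rw [relIndex_cjS, h.idx]
  comm := by
    rintro _ ⟨a, ha, rfl⟩ _ ⟨b, hb, rfl⟩
    rw [KK_cjS, ← map_commutatorElement]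
    exact mem_map_of_mem _ (h.comm a ha b hb)

theorem Iso.rad_mem {X M : Subgroup G} (h : Iso X M) (hne : ∃ a ∈ X, ∃ b ∈ X, ⁅a, b⁆ ∉ KK X) {r : G}
    (hr : r ∈ X) (hrad : ∀ y ∈ X, ⁅r, y⁆ ∈ KK X) : r ∈ M := by
  by_contra hrM
  have key : ∀ y ∈ M, X ≤ centMod X y := fun y hy x hx => by
    by_cases hxM : x ∈ M
    · exact ⟨hx, h.comm x hxM y hy⟩
    · have h1 : r * x ∈ M := (mul_mem_iff_two h.idx hr hx).2 (by simp [hrM, hxM])
      have h2 := mul_mem (inv_mem (show r ∈ centMod X y from ⟨hr, hrad y (h.le hy)⟩))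
        (show r * x ∈ centMod X y from ⟨mul_mem hr hx, h.comm _ h1 y hy⟩)
      rwa [inv_mul_cancel_left] at h2
  obtain ⟨a, ha, b, hb, hab⟩ := hne
  refine hab (?_ : ⁅a, b⁆ ∈ KK X)
  by_cases hbM : b ∈ M
  · exact (key b hbM ha).2
  refine comm_symm_KK ?_
  have h1 : r * b ∈ M := (mul_mem_iff_two h.idx hr hb).2 (by simp [hrM, hbM])
  have h2 : (r * b : G) ∈ centMod X a := ⟨mul_mem hr hb, comm_symm_KK (key _ h1 ha).2⟩
  have h3 := mul_mem (inv_mem (show r ∈ centMod X a from ⟨hr, hrad a ha⟩)) h2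
  rw [inv_mul_cancel_left] at h3
  exact h3.2

variable [Finite G]

theorem eq_of_le_relIndex_two {A B X : Subgroup G} (hAB : A ≤ B) (hBX : B ≤ X) (hA : A.relIndex X = 2)
    (hB : B.relIndex X = 2) : A = B := by
  have h1 := relIndex_mul_relIndex A B X hAB hBX
  rw [hA, hB] at h1
  exact le_antisymm hAB (relIndex_eq_one.1 (by omega))

/-- A proper subgroup of a 2-group lies in a subgroup of index 2. -/
theorem exists_idx_two {Q X : Subgroup G} (hX : IsPGroup 2 ↥X) (hQ : Q ≤ X) (hne : Q ≠ X) :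
    ∃ Y, Q ≤ Y ∧ Y ≤ X ∧ Y.relIndex X = 2 := by
  haveI : Fact (Nat.Prime 2) := ⟨Nat.prime_two⟩
  rcases eq_top_or_exists_le_coatom (Q.subgroupOf X) with h | ⟨M, hM, hQM⟩
  · exact absurd (le_antisymm hQ (subgroupOf_eq_top.1 h)) hne
  refine ⟨M.map X.subtype, fun q hq => ⟨⟨q, hQ hq⟩, hQM hq, rfl⟩, map_subtype_le M, ?_⟩
  rw [relIndex, subgroupOf, comap_map_eq_self_of_injective X.subtype_injective]
  exact PGroup.isCoatom_index hX hM

/-- Two distinct ones meet in the radical. -/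
theorem Iso.inter_rad {X M M' : Subgroup G} (h : Iso X M) (h' : Iso X M') (hne : M ≠ M') {x : G}
    (hx : x ∈ M) (hx' : x ∈ M') {y : G} (hy : y ∈ X) : ⁅x, y⁆ ∈ KK X := by
  refine comm_symm_KK ?_
  obtain ⟨b, hb, hbM⟩ : ∃ b ∈ M', b ∉ M := SetLike.not_le_iff_exists.1 fun hle =>
    hne (eq_of_le_relIndex_two hle h.le h'.idx h.idx).symm
  by_cases hyM : y ∈ M
  · exact h.comm y hyM x hx
  have h1 : b * y ∈ M := (mul_mem_iff_two h.idx (h'.le hb) hy).2 (by simp [hbM, hyM])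
  have h2 : (b * y : G) ∈ centMod X x := ⟨mul_mem (h'.le hb) hy, h.comm _ h1 x hx⟩
  have h3 := mul_mem (inv_mem (show b ∈ centMod X x from ⟨h'.le hb, h'.comm b hb x hx'⟩)) h2
  rw [inv_mul_cancel_left] at h3
  exact h3.2

/-- There are at most three: a third one is determined by two of them. -/
theorem Iso.mem_third_iff {X M M' M'' : Subgroup G} (h : Iso X M) (h' : Iso X M') (h'' : Iso X M'')
    (hnr : ∃ a ∈ X, ∃ b ∈ X, ⁅a, b⁆ ∉ KK X) (hne : M ≠ M') (hne₁ : M'' ≠ M) (hne₂ : M'' ≠ M') {x : G} :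
    x ∈ M'' ↔ x ∈ X ∧ (x ∈ M ↔ x ∈ M') := by
  have hR : ∀ {y}, y ∈ M → y ∈ M' → y ∈ M'' := fun hy hy' =>
    h''.rad_mem hnr (h.le hy) fun z hz => h.inter_rad h' hne hy hy' hz
  have hout : ∀ (A B : Subgroup G), Iso X A → Iso X B → (∀ y, y ∈ A → y ∈ B → y ∈ M'') → M'' ≠ A →
      ∀ a ∈ A, a ∉ B → a ∉ M'' := by
    intro A B hA hB hR' hneA a ha haB ha''
    refine hneA (eq_of_le_relIndex_two (fun y hy => ?_) h''.le hA.idx h''.idx).symm
    by_cases hyB : y ∈ B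
    · exact hR' y hy hyB
    have h1 : a * y ∈ B := (mul_mem_iff_two hB.idx (hA.le ha) (hA.le hy)).2 (by simp [haB, hyB])
    have h2 := mul_mem (inv_mem ha'') (hR' _ (mul_mem ha hy) h1)
    rwa [inv_mul_cancel_left] at h2
  have ho₁ := hout M M' h h' (fun y => hR) hne₁
  have ho₂ := hout M' M h' h (fun y hy hy' => hR hy' hy) hne₂
  constructor
  · intro hx
    refine ⟨h''.le hx, ⟨fun hx1 => ?_, fun hx2 => ?_⟩⟩
    · exact by_contra fun hx2 => ho₁ x hx1 hx2 hx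
    · exact by_contra fun hx1 => ho₂ x hx2 hx1 hx
  · rintro ⟨hxX, hxx⟩
    by_cases hx1 : x ∈ M
    · exact hR hx1 (hxx.1 hx1)
    obtain ⟨a, ha, haM'⟩ : ∃ a ∈ M, a ∉ M' := SetLike.not_le_iff_exists.1 fun hle =>
      hne (eq_of_le_relIndex_two hle h'.le h.idx h'.idx)
    obtain ⟨b, hb, hbM⟩ : ∃ b ∈ M', b ∉ M := SetLike.not_le_iff_exists.1 fun hle =>
      hne (eq_of_le_relIndex_two hle h.le h'.idx h.idx).symm
    have haX := h.le ha
    have hbX := h'.le hb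
    have hab : a * b ∈ M'' := (mul_mem_iff_two h''.idx haX hbX).2
      (by simp [ho₁ a ha haM', ho₂ b hb hbM])
    have h1 : a * b ∉ M := by rw [mul_mem_iff_two h.idx haX hbX]; simp [ha, hbM]
    have h2 : a * b ∉ M' := by rw [mul_mem_iff_two h'.idx haX hbX]; simp [haM', hb]
    have hx2 : x ∉ M' := fun hh => hx1 (hxx.2 hh)
    have h3 : (a * b) * x ∈ M := (mul_mem_iff_two h.idx (mul_mem haX hbX) hxX).2 (by simp [h1, hx1])
    have h4 : (a * b) * x ∈ M' := (mul_mem_iff_two h'.idx (mul_mem haX hbX) hxX).2 (by simp [h2, hx2])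
    have := mul_mem (inv_mem hab) (hR h3 h4)
    rwa [inv_mul_cancel_left] at this

end general

variable {G : Type u} [Group G]

/-- An abelian subgroup `D` of index 2 in its normaliser in `S`, with an involution of centraliser `D`. -/
structure Soft (S : Sylow 2 G) (D : Subgroup G) (d : G) : Prop where
  le : D ≤ S
  comm : Comm D
  idx : D.relIndex (NS S D) = 2
  KK_bot : KK (NS S D) = ⊥
  mem : d ∈ D
  sq : d * d = 1
  centd : ∀ x ∈ (S : Subgroup G), x * d = d * x → x ∈ D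

/-- The hyperplane `M` of `X` on the chain above `D`. -/
structure Node (S : Sylow 2 G) (D : Subgroup G) (d : G) (X M : Subgroup G) : Prop extends Iso X M where
  le_S : X ≤ S
  D_le : D ≤ M
  nonrad : ∃ x ∈ X, ⁅d, x⁆ ∉ KK X
  norm : ∀ g ∈ (S : Subgroup G), g ∈ normalizer (M : Set G) → g ∈ X
  uniq : ∀ Y : Subgroup G, D ≤ Y → Y ≤ X → Y.relIndex X = 2 → Y = M

variable {S : Sylow 2 G} {D : Subgroup G} {d : G}

theorem Soft.conj (h : Soft S D d) {g : G} (hg : g ∈ (S : Subgroup G)) :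
    Soft S (cjS D g) (g * d * g⁻¹) := by
  have e : NS S (cjS D g) = cjS (NS S D) g := by
    show _ = ((S : Subgroup G) ⊓ normalizer (D : Set G)).map _
    rw [Subgroup.map_inf _ _ _ (MulAut.conj g).injective,
      map_normalizer_eq_of_bijective D (MulAut.conj g).bijective]
    show (S : Subgroup G) ⊓ _ = cjS (S : Subgroup G) g ⊓ _
    rw [cjS_eq_self (le_normalizer hg)]
  refine ⟨?_, ?_, ?_, ?_, conj_mem_cjS g h.mem, ?_, fun x hx hc => ?_⟩
  · exact (cjS_mono h.le g).trans (cjS_eq_self (le_normalizer hg)).le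
  · rintro _ ⟨a, ha, rfl⟩ _ ⟨b, hb, rfl⟩
    rw [← map_mul, ← map_mul, h.comm a ha b hb]
  · rw [e, relIndex_cjS, h.idx]
  · rw [e, KK_cjS, h.KK_bot, cjS, Subgroup.map_bot]
  · rw [show g * d * g⁻¹ * (g * d * g⁻¹) = g * (d * d) * g⁻¹ by group, h.sq]; group
  · rw [mem_cjS]
    refine h.centd _ (mul_mem (mul_mem (inv_mem hg) hx) hg) ?_
    calc g⁻¹ * x * g * d = g⁻¹ * (x * (g * d * g⁻¹)) * g := by group
      _ = g⁻¹ * ((g * d * g⁻¹) * x) * g := by rw [hc]
      _ = _ := by group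

theorem Node.conj {X M : Subgroup G} (h : Node S D d X M) {g : G} (hg : g ∈ (S : Subgroup G)) :
    Node S (cjS D g) (g * d * g⁻¹) (cjS X g) (cjS M g) where
  toIso := h.toIso.conj g
  le_S := (cjS_mono h.le_S g).trans (cjS_eq_self (le_normalizer hg)).le
  D_le := cjS_mono h.D_le g
  nonrad := by
    obtain ⟨x, hx, hdx⟩ := h.nonrad
    refine ⟨_, conj_mem_cjS g hx, fun hc => hdx ?_⟩
    rw [KK_cjS, mem_cjS] at hc
    convert hc using 1
    simp only [commutatorElement_def]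
    group
  norm k hk hkn := by
    rw [mem_cjS]
    refine h.norm _ (mul_mem (mul_mem (inv_mem hg) hk) hg) ?_
    rw [cjS, ← map_normalizer_eq_of_bijective M (MulAut.conj g).bijective] at hkn
    obtain ⟨y, hy, rfl⟩ := hkn
    simpa [mul_assoc] using hy
  uniq Y hDY hYX hY := by
    have h1 := h.uniq (cjS Y g⁻¹) ?_ ?_ ?_
    · rw [← h1, cjS_cjS, mul_inv_cancel, cjS_eq_self (one_mem _)]
    · intro x hx
      rw [mem_cjS]
      simpa using hDY (conj_mem_cjS g hx)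
    · refine (cjS_mono hYX g⁻¹).trans ?_
      rw [cjS_cjS, inv_mul_cancel, cjS_eq_self (one_mem _)]
    · have := relIndex_cjS Y (cjS X g) g⁻¹
      rwa [cjS_cjS, inv_mul_cancel, cjS_eq_self (one_mem _), hY] at this

theorem Soft.comm_eq_one (h : Soft S D d) {a b : G} (ha : a ∈ D) (hb : b ∈ D) : ⁅a, b⁆ = 1 :=
  commutatorElement_eq_one_iff_mul_comm.2 (h.comm a ha b hb)

variable [Finite G]

theorem Soft.NS_le (h : Soft S D d) {X : Subgroup G} (hX : X ≤ S) (hDX : D ≤ X) (hne : D ≠ X) :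
    NS S D ≤ X := by
  obtain ⟨x, hx, hxD, hxn⟩ := exists_normalizes hX hDX hne
  intro t ht
  by_cases htD : t ∈ D
  · exact hDX htD
  have h1 : x * t ∈ D := (mul_mem_iff_two h.idx (mem_inf.2 ⟨hX hx, hxn⟩) ht).2 (by simp [hxD, htD])
  have := mul_mem (inv_mem hx) (hDX h1)
  rwa [inv_mul_cancel_left] at this

theorem Soft.node_base (h : Soft S D d) : Node S D d (NS S D) D where
  le := le_inf h.le le_normalizer
  idx := h.idx
  comm a ha b hb := by rw [h.comm_eq_one ha hb]; exact one_mem _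
  le_S := inf_le_left
  D_le := le_rfl
  nonrad := by
    obtain ⟨x, hx, hxD⟩ := SetLike.not_le_iff_exists.1 (fun hle : NS S D ≤ D => by
      have := h.idx
      rw [relIndex_eq_one.2 hle] at this
      omega)
    refine ⟨x, hx, fun hc => hxD (h.centd x (mem_inf.1 hx).1 ?_)⟩
    rw [h.KK_bot, mem_bot, commutatorElement_eq_one_iff_mul_comm] at hc
    exact hc.symm
  norm g hg hgn := mem_inf.2 ⟨hg, hgn⟩
  uniq Y hDY hYX hY := (eq_of_le_relIndex_two hDY hYX h.idx hY).symm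

namespace Node

variable {X M : Subgroup G} (h : Node S D d X M)
include h

omit [Finite G] in
theorem d_mem (hS : Soft S D d) : d ∈ M := h.D_le hS.mem

omit [Finite G] in
theorem nontrivial (hS : Soft S D d) : ∃ a ∈ X, ∃ b ∈ X, ⁅a, b⁆ ∉ KK X := by
  obtain ⟨x, hx, hdx⟩ := h.nonrad
  exact ⟨d, h.le (h.D_le hS.mem), x, hx, hdx⟩

omit [Finite G] in
theorem conj_ne {g : G} (hg : g ∈ (S : Subgroup G)) (hgX : g ∉ X) : cjS M g ≠ M := fun e =>
  hgX (h.norm g hg (mem_norm_of_cjS_eq e))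

omit [Finite G] in
theorem iso_conj {g : G} (hgn : g ∈ normalizer (X : Set G)) : Iso X (cjS M g) := by
  have := h.toIso.conj g
  rwa [cjS_eq_self hgn] at this

omit [Finite G] in
theorem conj_eq_self {x : G} (hx : x ∈ X) : x ∈ normalizer (M : Set G) := by
  refine mem_normalizer_iff.2 fun b => ⟨fun hb => conj_mem_two h.idx hx hb h.le, fun hb => ?_⟩
  have := conj_mem_two h.idx (inv_mem hx) hb h.le
  simpa [mul_assoc] using this

/-- `N_S(X)` has index at most 2 over `X`: it permutes at most three hyperplanes, moving `M`. -/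
theorem mul_mem_of_norm (hS : Soft S D d) {g k : G} (hg : g ∈ (S : Subgroup G))
    (hgn : g ∈ normalizer (X : Set G)) (hgX : g ∉ X) (hk : k ∈ (S : Subgroup G))
    (hkn : k ∈ normalizer (X : Set G)) (hkX : k ∉ X) : g⁻¹ * k ∈ X := by
  refine h.norm _ (mul_mem (inv_mem hg) hk) (mem_norm_of_cjS_eq ?_)
  rw [← cjS_cjS]
  by_contra hne
  have hne' : cjS M g ≠ cjS M k := fun e => hne (by
    rw [← e, cjS_cjS, inv_mul_cancel, cjS_eq_self (one_mem _)])
  have hnt := h.nontrivial hS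
  have hI : ∀ {a}, a ∈ normalizer (X : Set G) → Iso X (cjS M a) := fun ha => h.iso_conj ha
  -- the three hyperplanes `M`, `gM`, `kM`
  have honly : ∀ {a}, a ∈ normalizer (X : Set G) → cjS M a ≠ M → cjS M a ≠ cjS M g → cjS M a = cjS M k := by
    intro a ha h1 h2
    ext x
    rw [h.toIso.mem_third_iff (hI hgn) (hI ha) hnt (h.conj_ne hg hgX).symm h1 h2,
      h.toIso.mem_third_iff (hI hgn) (hI hkn) hnt (h.conj_ne hg hgX).symm (h.conj_ne hk hkX) hne'.symm]
  have hcancel : ∀ {A B : Subgroup G} {a : G}, cjS A a = cjS B a → A = B := fun {A B a} e =>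
    map_injective (MulAut.conj a).injective e
  by_cases hgg : cjS M (g * g) = M
  · have h1 : cjS M (g * k) = cjS M k := by
      refine honly (mul_mem hgn hkn) ?_ ?_
      · intro e
        have e' : cjS (cjS M k) g = cjS (cjS M g) g := by rw [cjS_cjS, cjS_cjS, e, hgg]
        exact hne' (hcancel e').symm
      · intro e
        rw [← cjS_cjS] at e
        exact h.conj_ne hk hkX (hcancel e)
    have h2 : k⁻¹ * g * k ∈ X := h.norm _ (mul_mem (mul_mem (inv_mem hk) hg) hk) (mem_norm_of_cjS_eq (by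
      rw [mul_assoc, ← cjS_cjS, h1, cjS_cjS, inv_mul_cancel, cjS_eq_self (one_mem _)]))
    have h3 := conj_mem_norm hkn h2
    exact hgX (by simpa [mul_assoc] using h3)
  · have h1 : cjS M (g * g) = cjS M k := honly (mul_mem hgn hgn) hgg fun e => by
      rw [← cjS_cjS] at e
      exact h.conj_ne hg hgX (hcancel e)
    have h2 : cjS M (g * (g * g)) = M := by
      by_contra hne3
      have h2' : cjS M (g * (g * g)) ≠ cjS M g := fun e => by
        rw [← cjS_cjS] at e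
        exact hgg (hcancel e)
      have h3 := honly (mul_mem hgn (mul_mem hgn hgn)) hne3 h2'
      rw [← h1, ← cjS_cjS M (g * g) g, ← cjS_cjS M g g] at h3
      exact h.conj_ne hg hgX (hcancel (hcancel h3))
    have h3 : g ^ 3 ∈ X := h.norm _ (pow_mem hg 3) (mem_norm_of_cjS_eq (by
      rw [show g ^ 3 = g * (g * g) by simp [pow_succ, mul_assoc], h2]))
    obtain ⟨e, he⟩ := twoElem_of_mem S.isPGroup' hg
    obtain ⟨a, b, hab⟩ := Nat.isCoprime_iff_coprime.2 ((by decide : Nat.Coprime 2 3).pow_left e)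
    refine hgX ?_
    have : g = (g ^ 2 ^ e) ^ a * (g ^ 3) ^ b := by
      rw [← zpow_natCast g (2 ^ e), ← zpow_mul, ← zpow_natCast g 3, ← zpow_mul, ← zpow_add,
        mul_comm _ a, mul_comm _ b, hab, zpow_one]
    rw [this, he, one_zpow, one_mul]
    exact zpow_mem h3 b

theorem relIndex_norm (hS : Soft S D d) (hne : X ≠ S) : X.relIndex (NS S X) = 2 := by
  obtain ⟨g, hg, hgX, hgn⟩ := exists_normalizes (le_refl (S : Subgroup G)) h.le_S hne
  rw [relIndex, index_eq_two_iff]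
  refine ⟨⟨g⁻¹, inv_mem (mem_inf.2 ⟨hg, hgn⟩)⟩, fun b => ?_⟩
  simp only [mem_subgroupOf, Subgroup.coe_mul]
  by_cases hb : (b : G) ∈ X
  · refine .inr ⟨hb, fun hc => hgX ?_⟩
    have := mul_mem (inv_mem hb) hc
    rw [inv_mul_cancel_left] at this
    exact inv_mem_iff.1 this
  · refine .inl ⟨?_, hb⟩
    have hbn := mem_inf.1 b.2
    have := h.mul_mem_of_norm hS (inv_mem hbn.1) (inv_mem hbn.2) (fun hc => hb (inv_mem_iff.1 hc))
      (inv_mem hg) (inv_mem hgn) (fun hc => hgX (inv_mem_iff.1 hc))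
    rwa [inv_inv] at this

/-- The next node. -/
theorem step (hS : Soft S D d) (hne : X ≠ S) : Node S D d (NS S X) X := by
  haveI : Fact (Nat.Prime 2) := ⟨Nat.prime_two⟩
  have hidx := h.relIndex_norm hS hne
  have hXN : X ≤ NS S X := le_inf h.le_S le_normalizer
  obtain ⟨g, hg, hgX, hgn⟩ := exists_normalizes (le_refl (S : Subgroup G)) h.le_S hne
  have hgN : g ∈ NS S X := mem_inf.2 ⟨hg, hgn⟩
  have hnt := h.nontrivial hS
  have hM' : Iso X (cjS M g) := h.iso_conj hgn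
  have hMne : M ≠ cjS M g := (h.conj_ne hg hgX).symm
  -- `X = D Φ(N)`
  have hsq : ∀ n ∈ NS S X, n * n ∈ X := fun n hn => by
    rw [mul_mem_iff_two hidx hn hn]
  set Q := closure ((D : Set G) ∪ {y | ∃ n ∈ NS S X, y = n * n}) with hQdef
  have hQX : Q ≤ X := (closure_le _).2 <| by
    rintro y (hy | ⟨n, hn, rfl⟩)
    · exact h.le (h.D_le hy)
    · exact hsq n hn
  have hQ : Q = X := by
    by_contra hQne
    obtain ⟨Y, hQY, hYX, hY⟩ := exists_idx_two (S.isPGroup'.to_le h.le_S) hQX hQne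
    obtain rfl := h.uniq Y (fun y hy => hQY (subset_closure (.inl hy))) hYX hY
    refine h.conj_ne (inv_mem hg) (fun hc => hgX (inv_mem_iff.1 hc)) (cjS_eq_self (mem_norm_of_forall ?_))
    intro x hx
    have h1 : g * g ∈ Y := hQY (subset_closure (.inr ⟨g, hgN, rfl⟩))
    have h2 : g * x * (g * x) ∈ Y := hQY (subset_closure (.inr ⟨_, mul_mem hgN (hXN (hYX hx)), rfl⟩))
    rw [show g * x * (g * x) = g * g * (g⁻¹ * x * g * x) by group, mul_mem_cancel_left h1,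
      mul_mem_cancel_right hx] at h2
    rwa [inv_inv]
  refine
    { le := hXN
      idx := hidx
      comm := ?_
      le_S := inf_le_left
      D_le := h.D_le.trans h.le
      nonrad := ?_
      norm := fun k hk hkn => mem_inf.2 ⟨hk, hkn⟩
      uniq := ?_ }
  · have h1 : ∀ y ∈ D, X ≤ centMod (NS S X) y := fun y hy => by
      conv_lhs => rw [← hQ]
      refine (closure_le _).2 ?_
      rintro z (hz | ⟨n, hn, rfl⟩)
      · exact ⟨hXN (h.le (h.D_le hz)), by rw [hS.comm_eq_one hz hy]; exact one_mem _⟩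
      · exact sq_centMod hn (hXN (h.le (h.D_le hy)))
    intro a ha b hb
    suffices X ≤ centMod (NS S X) b from (this ha).2
    conv_lhs => rw [← hQ]
    refine (closure_le _).2 ?_
    rintro z (hz | ⟨n, hn, rfl⟩)
    · exact ⟨hXN (h.le (h.D_le hz)), comm_symm_KK (h1 z hz hb).2⟩
    · exact sq_centMod hn (hXN hb)
  · refine ⟨g, hgN, fun hdg => ?_⟩
    -- the invariant character `χ`
    have hconj : ∀ n ∈ NS S X, ∀ x ∈ X, ((n * x * n⁻¹ ∈ M ↔ n * x * n⁻¹ ∈ cjS M g) ↔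
        (x ∈ M ↔ x ∈ cjS M g)) := by
      intro n hn x hx
      have hcase : ∀ (A : Subgroup G) (m : G), (m * x * m⁻¹ ∈ cjS A m ↔ x ∈ A) := fun A m => by
        rw [mem_cjS]; simp [mul_assoc]
      by_cases hnX : n ∈ X
      · have e1 : cjS M n = M := cjS_eq_self (h.conj_eq_self hnX)
        have e2 : cjS (cjS M g) n = cjS M g := by
          rw [cjS_cjS, show n * g = g * (g⁻¹ * n * g) by group, ← cjS_cjS,
            cjS_eq_self (h.conj_eq_self (conj_inv_mem_norm hgn hnX))]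
        have k1 := hcase M n
        have k2 := hcase (cjS M g) n
        rw [e1] at k1
        rw [e2] at k2
        rw [k1, k2]
      · have hn' := mem_inf.1 hn
        have hgn' : g⁻¹ * n ∈ X := by
          rw [mul_mem_iff_two hidx (inv_mem hgN) hn]
          simp [hnX, hgX]
        have hng : n * g ∈ X := by
          rw [mul_mem_iff_two hidx hn hgN]
          simp [hnX, hgX]
        have e1 : cjS M n = cjS M g := by
          rw [show n = g * (g⁻¹ * n) by group, ← cjS_cjS, cjS_eq_self (h.conj_eq_self hgn')]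
        have e2 : cjS (cjS M g) n = M := by rw [cjS_cjS, cjS_eq_self (h.conj_eq_self hng)]
        have k1 := hcase M n
        have k2 := hcase (cjS M g) n
        rw [e1] at k1
        rw [e2] at k2
        rw [k1, k2]
        exact Iff.comm
    have hX1 : ∀ {x}, x ∈ X → ∀ b ∈ NS S X, ⁅x, b⁆ ∈ X ∧ (⁅x, b⁆ ∈ M ↔ ⁅x, b⁆ ∈ cjS M g) := by
      intro x hx b hb
      have h1 : b * x⁻¹ * b⁻¹ ∈ X := conj_mem_norm (mem_inf.1 hb).2 (inv_mem hx)
      have e : ⁅x, b⁆ = x * (b * x⁻¹ * b⁻¹) := by rw [commutatorElement_def]; group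
      rw [e]
      refine ⟨mul_mem hx h1, ?_⟩
      have h2 := hconj b hb _ (inv_mem hx)
      rw [inv_mem_iff (H := M), inv_mem_iff (H := cjS M g)] at h2
      rw [mul_mem_iff_two h.idx hx h1, mul_mem_iff_two hM'.idx hx h1]
      tauto
    have hN1 : ∀ a ∈ NS S X, ∀ b ∈ NS S X, ⁅a, b⁆ ∈ X ∧ (⁅a, b⁆ ∈ M ↔ ⁅a, b⁆ ∈ cjS M g) := by
      intro a ha b hb
      by_cases hbX : b ∈ X
      · obtain ⟨h1, h2⟩ := hX1 hbX a ha
        rw [← commutatorElement_inv b a, inv_mem_iff, inv_mem_iff, inv_mem_iff]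
        exact ⟨h1, h2⟩
      by_cases haX : a ∈ X
      · exact hX1 haX b hb
      have hab : a⁻¹ * b ∈ X := by
        rw [mul_mem_iff_two hidx (inv_mem ha) hb]
        simp [haX, hbX]
      obtain ⟨h1, h2⟩ := hX1 hab a ha
      rw [← inv_mem_iff (H := X), commutatorElement_inv] at h1
      rw [← inv_mem_iff (H := M), ← inv_mem_iff (H := cjS M g), commutatorElement_inv] at h2
      rw [show ⁅a, b⁆ = a * ⁅a, a⁻¹ * b⁆ * a⁻¹ by simp only [commutatorElement_def]; group]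
      exact ⟨conj_mem_norm (mem_inf.1 ha).2 h1, (hconj a ha _ h1).2 h2⟩
    have hKR : KK (NS S X) ≤ M ⊓ cjS M g := (closure_le _).2 <| by
      rintro _ ⟨a, ha, b, hb, c, hc, rfl | rfl⟩
      · obtain ⟨h1, h2⟩ := hN1 a ha b hb
        have h3 : c * ⁅a, b⁆⁻¹ * c⁻¹ ∈ X := conj_mem_norm (mem_inf.1 hc).2 (inv_mem h1)
        have e : ⁅⁅a, b⁆, c⁆ = ⁅a, b⁆ * (c * ⁅a, b⁆⁻¹ * c⁻¹) := by
          simp only [commutatorElement_def]; group
        have h4 := hconj c hc _ (inv_mem h1)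
        rw [inv_mem_iff (H := M), inv_mem_iff (H := cjS M g)] at h4
        generalize ⁅a, b⁆ = u at h1 h2 h3 h4 e ⊢
        -- both in or both out
        have h5 : c * u⁻¹ * c⁻¹ ∈ M ↔ u ∈ M := by
          by_cases hcX : c ∈ X
          · exact ⟨fun hh => by
              have := conj_inv_mem_norm (h.conj_eq_self hcX) hh
              rw [show c⁻¹ * (c * u⁻¹ * c⁻¹) * c = u⁻¹ by group] at this
              exact inv_mem_iff.1 this,
              fun hh => conj_mem_norm (h.conj_eq_self hcX) (inv_mem hh)⟩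
          · have hcg : c * g ∈ X := by
              rw [mul_mem_iff_two hidx hc hgN]
              simp [hcX, hgX]
            have e2 : cjS (cjS M g) c = M := by rw [cjS_cjS, cjS_eq_self (h.conj_eq_self hcg)]
            conv_lhs => rw [← e2]
            rw [mem_cjS, show c⁻¹ * (c * u⁻¹ * c⁻¹) * c = u⁻¹ by group, inv_mem_iff, h2]
        rw [SetLike.mem_coe, mem_inf, e, mul_mem_iff_two h.idx h1 h3, mul_mem_iff_two hM'.idx h1 h3]
        tauto
      · obtain ⟨h1, -⟩ := hN1 a ha b hb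
        rw [SetLike.mem_coe, mem_inf, mul_mem_iff_two h.idx h1 h1, mul_mem_iff_two hM'.idx h1 h1]
        tauto
    -- `d` is outside `R`
    have hdM := h.d_mem hS
    have hdM' : d ∉ cjS M g := fun hc => by
      obtain ⟨x, hx, hdx⟩ := h.nonrad
      exact hdx (h.toIso.inter_rad hM' hMne hdM hc hx)
    have hdX := h.le hdM
    have hgd : g * d⁻¹ * g⁻¹ ∉ M := by
      intro hc
      have h2 : g * g ∈ X := hsq g hgN
      have e : cjS (cjS M g) g = M := by rw [cjS_cjS, cjS_eq_self (h.conj_eq_self h2)]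
      rw [← e, mem_cjS] at hc
      exact hdM' (by simpa [mul_assoc] using hc)
    have h6 := (mem_inf.1 (hKR hdg)).1
    rw [show ⁅d, g⁆ = d * (g * d⁻¹ * g⁻¹) by rw [commutatorElement_def]; group,
      mul_mem_iff_two h.idx hdX (conj_mem_norm hgn (inv_mem hdX))] at h6
    exact hgd (h6.1 hdM)
  · intro Y hDY hYN hY
    refine (eq_of_le_relIndex_two ?_ hYN hidx hY).symm
    rw [← hQ]
    refine (closure_le _).2 ?_
    rintro y (hy | ⟨n, hn, rfl⟩)
    · exact hDY hy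
    · rw [SetLike.mem_coe, mul_mem_iff_two hY hn hn]

end Node

theorem Soft.node_exists (h : Soft S D d) : ∀ X : Subgroup G, X ≤ S → D ≤ X → D ≠ X →
    ∃ M, Node S D d X M := by
  intro X
  induction hn : Nat.card ↥X using Nat.strong_induction_on generalizing X with
  | _ n ih =>
    intro hXS hDX hne
    have hTX := h.NS_le hXS hDX hne
    by_cases hT : NS S D = X
    · exact ⟨D, hT ▸ h.node_base⟩
    obtain ⟨Y, hTY, hYX, hY⟩ := exists_idx_two (S.isPGroup'.to_le hXS) hTX hT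
    have hDT : D ≤ NS S D := le_inf h.le le_normalizer
    have hlt : Nat.card ↥Y < Nat.card ↥X := by
      have h1 := card_inf_mul_relIndex Y X
      rw [inf_eq_left.2 hYX, hY] at h1
      have := Nat.card_pos (α := ↥Y)
      omega
    have hDY : D ≠ Y := fun e => by
      have h1 := h.idx
      rw [relIndex_eq_one.2 (e ▸ hTY)] at h1
      omega
    obtain ⟨M, hM⟩ := ih _ (hn ▸ hlt) Y rfl (hYX.trans hXS) (hDT.trans hTY) hDY
    have hXn : X ≤ NS S Y := le_inf hXS fun x hx => mem_norm_of_forall fun y hy => conj_mem_two hY hx hy hYX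
    have hYS : Y ≠ S := fun e => absurd (Subgroup.card_le_of_le (hXS.trans e.ge)) hlt.not_ge
    have hidx := hM.relIndex_norm h hYS
    have he : X = NS S Y := by
      have h1 := relIndex_mul_relIndex Y X (NS S Y) hYX hXn
      rw [hY, hidx] at h1
      exact le_antisymm hXn (relIndex_eq_one.1 (by omega))
    exact ⟨Y, he ▸ hM.step h hYS⟩

theorem conj_of_node : ∀ N X : Subgroup G, ∀ (D D' : Subgroup G) (d d' : G), Soft S D d → Soft S D' d' →
    Node S D d N X → Node S D' d' N X → ∃ c ∈ (S : Subgroup G), D' = cjS D c := by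
  intro N
  induction hn : Nat.card ↥N using Nat.strong_induction_on generalizing N with
  | _ n ih =>
    intro X D D' d d' h h' hN hN'
    have hsub : ∀ (A B : Subgroup G) (a b : G), Soft S A a → Soft S B b → Node S A a N X →
        Node S B b N X → A = X → B = A := by
      intro A B a b hA hB hNA hNB e
      refine le_antisymm (hNB.D_le.trans e.ge) fun x hx => hB.centd x (hA.le hx) ?_
      exact hA.comm x hx b (e ▸ hNB.D_le hB.mem)
    by_cases hX : D = X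
    · exact ⟨1, one_mem _, by rw [hsub D D' d d' h h' hN hN' hX, cjS_eq_self (one_mem _)]⟩
    by_cases hX' : D' = X
    · exact ⟨1, one_mem _, by rw [← hsub D' D d' d h' h hN' hN hX', cjS_eq_self (one_mem _)]⟩
    have hXS : X ≤ S := hN.le.trans hN.le_S
    obtain ⟨M, hM⟩ := h.node_exists X hXS hN.D_le hX
    obtain ⟨M', hM'⟩ := h'.node_exists X hXS hN'.D_le hX'
    have hlt : Nat.card ↥X < n := by
      have h1 := card_inf_mul_relIndex X N
      rw [inf_eq_left.2 hN.le, hN.idx] at h1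
      have := Nat.card_pos (α := ↥X)
      omega
    by_cases hMM : M' = M
    · subst hMM
      exact ih _ hlt X rfl M' D D' d d' h h' hM hM'
    obtain ⟨g, hgN, hgX⟩ := SetLike.not_le_iff_exists.1 (fun hle : N ≤ X => by
      have := hN.idx
      rw [relIndex_eq_one.2 hle] at this
      omega)
    have hg := hN.le_S hgN
    have hgn : g ∈ normalizer (X : Set G) := hN.conj_eq_self hgN
    by_cases hMg : M' = cjS M g
    · subst hMg
      have hc := hM.conj hg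
      rw [cjS_eq_self hgn] at hc
      obtain ⟨c, hc', e⟩ := ih _ hlt X rfl _ _ D' _ d' (h.conj hg) h' hc hM'
      exact ⟨c * g, mul_mem hc' hg, by rw [e, cjS_cjS]⟩
    exfalso
    refine hgX (hM'.norm g hg (mem_norm_of_cjS_eq ?_))
    have hnt := hM.nontrivial h
    have hMne := (hM.conj_ne hg hgX).symm
    have hgg : g * g ∈ X := by rw [mul_mem_iff_two hN.idx hgN hgN]
    have e2 : cjS (cjS M g) g = M := by rw [cjS_cjS, cjS_eq_self (hM.conj_eq_self hgg)]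
    have hne1 : cjS M' g ≠ cjS M g := fun e => hMM (map_injective (MulAut.conj g).injective e)
    have hne2 : cjS M' g ≠ M := fun e => hMg (map_injective (MulAut.conj g).injective (e.trans e2.symm))
    ext x
    rw [hM.toIso.mem_third_iff (hM.iso_conj hgn) (hM'.iso_conj hgn) hnt hMne hne2 hne1,
      hM.toIso.mem_third_iff (hM.iso_conj hgn) hM'.toIso hnt hMne hMM hMg]

/-- The computation modulo the next term. -/
theorem class_two_core {Q : Type*} [Group Q] (R : Set Q) (d₁ d₂ r : Q) (hr : r ∈ R)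
    (hgen : closure (R ∪ {d₁, d₂}) = ⊤) (hR : ∀ a ∈ R, ∀ x : Q, ⁅a, x⁆ ∈ center Q ∧ ⁅a, x⁆ * ⁅a, x⁆ = 1)
    (h1 : d₁ * d₁ = 1) (h2 : d₂ * d₂ = 1) (h3 : d₁ * d₂ * r * (d₁ * d₂ * r) = 1) (a b : Q) :
    ⁅a, b⁆ ∈ center Q ∧ ⁅a, b⁆ * ⁅a, b⁆ = 1 := by
  have hi1 : d₁⁻¹ = d₁ := inv_eq_of_mul_eq_one_right h1
  have hi2 : d₂⁻¹ = d₂ := inv_eq_of_mul_eq_one_right h2
  set c := ⁅d₁, d₂⁆ with hc
  have hc0 : c = d₁ * d₂ * d₁ * d₂ := by rw [hc, commutatorElement_def, hi1, hi2]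
  have hRc : ∀ x ∈ R, x * c * x⁻¹ = c := fun x hx => by
    have hz : ∀ y, x * y * x⁻¹ = ⁅x, y⁆ * y := fun y => by rw [commutatorElement_def]; group
    have hk : ∀ z ∈ center Q, ∀ w ∈ center Q, ⁅z * d₁, w * d₂⁆ = c := fun z hz w hw => by
      have e1 : ∀ y, z * y = y * z := fun y => (mem_center_iff.1 hz y).symm
      have e2 : ∀ y, w * y = y * w := fun y => (mem_center_iff.1 hw y).symm
      calc ⁅z * d₁, w * d₂⁆ = z * (d₁ * (w * d₂) * d₁⁻¹) * z⁻¹ * d₂⁻¹ * w⁻¹ := by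
            rw [commutatorElement_def]; group
        _ = (d₁ * (w * d₂) * d₁⁻¹) * d₂⁻¹ * w⁻¹ := by rw [e1]; group
        _ = d₁ * w * (d₂ * d₁⁻¹ * d₂⁻¹) * w⁻¹ := by group
        _ = d₁ * ((d₂ * d₁⁻¹ * d₂⁻¹) * w) * w⁻¹ := by rw [mul_assoc d₁ w, e2]
        _ = c := by rw [hc, commutatorElement_def]; group
    calc x * c * x⁻¹ = ⁅x * d₁ * x⁻¹, x * d₂ * x⁻¹⁆ := by
          rw [hc]; simp only [commutatorElement_def]; group
      _ = c := by rw [hz, hz, hk _ (hR x hx d₁).1 _ (hR x hx d₂).1]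
  have hd1 : d₁ * c * d₁ = c⁻¹ := by
    rw [hc0, mul_inv_rev, mul_inv_rev, mul_inv_rev, hi1, hi2]
    calc d₁ * (d₁ * d₂ * d₁ * d₂) * d₁ = (d₁ * d₁) * (d₂ * d₁ * d₂ * d₁) := by group
      _ = d₂ * (d₁ * (d₂ * d₁)) := by rw [h1]; group
  have hd2 : d₂ * c * d₂ = c⁻¹ := by
    rw [hc0, mul_inv_rev, mul_inv_rev, mul_inv_rev, hi1, hi2]
    calc d₂ * (d₁ * d₂ * d₁ * d₂) * d₂ = d₂ * d₁ * d₂ * d₁ * (d₂ * d₂) := by group
      _ = d₂ * (d₁ * (d₂ * d₁)) := by rw [h2]; group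
  set d₃ := d₁ * d₂ * r with hd₃
  have hi3 : d₃⁻¹ = d₃ := inv_eq_of_mul_eq_one_right h3
  have hd3 : d₃ * c * d₃ = c := by
    calc d₃ * c * d₃ = d₃ * c * d₃⁻¹ := by rw [hi3]
      _ = d₁ * (d₂ * (r * c * r⁻¹) * d₂⁻¹) * d₁⁻¹ := by rw [hd₃]; group
      _ = c := by
        rw [hRc r hr, hi1, hi2, hd2]
        calc d₁ * c⁻¹ * d₁ = (d₁⁻¹ * c * d₁⁻¹)⁻¹ := by group
          _ = c := by rw [hi1, hd1, inv_inv]
  set k := ⁅d₁, r⁆ with hk
  have hkc : k ∈ center Q ∧ k * k = 1 := by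
    obtain ⟨h4, h5⟩ := hR r hr d₁
    refine ⟨?_, ?_⟩
    · rw [hk, ← commutatorElement_inv]
      exact inv_mem h4
    · rw [hk, ← commutatorElement_inv, ← mul_inv_rev, h5, inv_one]
  have hki : k⁻¹ = k := inv_eq_of_mul_eq_one_right hkc.2
  have hkk : ∀ y, k * y = y * k := fun y => (mem_center_iff.1 hkc.1 y).symm
  have e3 : ⁅d₁, d₃⁆ = c⁻¹ * k := by
    calc ⁅d₁, d₃⁆ = d₁ * (c * (d₂ * k * d₂⁻¹)) * d₁⁻¹ := by
          rw [hd₃, hc, hk]; simp only [commutatorElement_def]; group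
      _ = d₁ * c * (k * d₁) := by rw [← hkk d₂, mul_inv_cancel_right, hi1]; group
      _ = _ := by rw [hkk d₁, ← mul_assoc, hd1]
  have e4 : d₃ * ⁅d₁, d₃⁆ * d₃ = ⁅d₁, d₃⁆⁻¹ := by
    rw [commutatorElement_def, hi1, hi3]
    calc d₃ * (d₁ * d₃ * d₁ * d₃) * d₃ = d₃ * d₁ * d₃ * d₁ * (d₃ * d₃) := by group
      _ = d₃ * d₁ * d₃ * d₁ := by rw [h3, mul_one]
      _ = (d₁⁻¹ * d₃⁻¹ * d₁⁻¹ * d₃⁻¹)⁻¹ := by group
      _ = _ := by rw [hi1, hi3]
  rw [e3, mul_inv_rev, inv_inv, hki] at e4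
  have e5 : d₃ * (c⁻¹ * k) * d₃ = c⁻¹ * k := by
    calc d₃ * (c⁻¹ * k) * d₃ = d₃ * c⁻¹ * (k * d₃) := by group
      _ = (d₃⁻¹ * c * d₃⁻¹)⁻¹ * k := by rw [hkk]; group
      _ = c⁻¹ * k := by rw [hi3, hd3]
  rw [e5, hkk] at e4
  have hc2 : c * c = 1 := by
    calc c * c = c * (c * k) * k⁻¹ := by group
      _ = c * (c⁻¹ * k) * k⁻¹ := by rw [e4]
      _ = 1 := by group
  have hci : c⁻¹ = c := inv_eq_of_mul_eq_one_right hc2
  have hcC : c ∈ center Q := by
    suffices closure (R ∪ {d₁, d₂}) ≤ centralizer ({c} : Set Q) from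
      mem_center_iff.2 fun x => mem_centralizer_singleton_iff.1 (this (hgen ▸ mem_top x))
    refine (closure_le _).2 ?_
    rintro x (hx | hx | hx)
    · exact mem_centralizer_singleton_iff.2 (mul_inv_eq_iff_eq_mul.1 (hRc x hx))
    · subst hx
      exact mem_centralizer_singleton_iff.2 (mul_inv_eq_iff_eq_mul.1 (by rw [hi1, hd1, hci]))
    · rw [Set.mem_singleton_iff] at hx
      subst hx
      exact mem_centralizer_singleton_iff.2 (mul_inv_eq_iff_eq_mul.1 (by rw [hi2, hd2, hci]))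
  let W : Subgroup Q :=
    { carrier := {z | z ∈ center Q ∧ z * z = 1}
      one_mem' := ⟨one_mem _, one_mul 1⟩
      mul_mem' := fun {x y} hx hy => ⟨mul_mem hx.1 hy.1, by
        calc x * y * (x * y) = x * (y * x) * y := by group
          _ = (x * x) * (y * y) := by rw [mem_center_iff.1 hx.1 y]; group
          _ = 1 := by rw [hx.2, hy.2, one_mul]⟩
      inv_mem' := fun {x} hx => ⟨inv_mem hx.1, by rw [← mul_inv_rev, hx.2, inv_one]⟩ }
  let C : Q → Subgroup Q := fun y =>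
    { carrier := {x | ⁅x, y⁆ ∈ W}
      one_mem' := by simp
      mul_mem' := fun {x z} hx hz => by
        show ⁅x * z, y⁆ ∈ W
        rw [show ⁅x * z, y⁆ = x * ⁅z, y⁆ * x⁻¹ * ⁅x, y⁆ by simp only [commutatorElement_def]; group,
          mem_center_iff.1 hz.1 x, mul_inv_cancel_right]
        exact mul_mem hz hx
      inv_mem' := fun {x} hx => by
        show ⁅x⁻¹, y⁆ ∈ W
        have h' : ⁅x, y⁆⁻¹ ∈ W := inv_mem hx
        rw [show ⁅x⁻¹, y⁆ = x⁻¹ * ⁅x, y⁆⁻¹ * x by simp only [commutatorElement_def]; group,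
          mem_center_iff.1 h'.1 x⁻¹, inv_mul_cancel_right]
        exact h' }
  have hsym : ∀ x y, ⁅x, y⁆ ∈ W → ⁅y, x⁆ ∈ W := fun x y h => by
    rw [← commutatorElement_inv]; exact inv_mem h
  have hgens : ∀ x ∈ R ∪ {d₁, d₂}, ∀ y, ⁅x, y⁆ ∈ W := by
    intro x hx y
    refine hsym _ _ ((?_ : closure (R ∪ {d₁, d₂}) ≤ C x) (hgen ▸ mem_top y))
    refine (closure_le _).2 ?_
    rintro z (hz | hz | hz) <;> show ⁅z, x⁆ ∈ W
    · exact hR z hz x
    all_goals
      rcases hx with hx | hx | hx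
      · exact hsym _ _ (hR x hx z)
      all_goals
        try simp only [Set.mem_singleton_iff] at hx
        try simp only [Set.mem_singleton_iff] at hz
        subst hx hz
        first
          | (rw [commutatorElement_self]; exact one_mem _)
          | exact ⟨hcC, hc2⟩
          | exact hsym _ _ ⟨hcC, hc2⟩
  refine (?_ : closure (R ∪ {d₁, d₂}) ≤ C b) (hgen ▸ mem_top a)
  exact (closure_le _).2 fun x hx => hgens x hx b

/-- Three distinct top hyperplanes. -/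
theorem class_two_of_three {D₁ D₂ D₃ M₁ M₂ M₃ : Subgroup G} {d₁ d₂ d₃ : G}
    (h₁ : Soft S D₁ d₁) (h₂ : Soft S D₂ d₂) (h₃ : Soft S D₃ d₃) (n₁ : Node S D₁ d₁ (S : Subgroup G) M₁)
    (n₂ : Node S D₂ d₂ (S : Subgroup G) M₂) (n₃ : Node S D₃ d₃ (S : Subgroup G) M₃) (h12 : M₁ ≠ M₂)
    (h31 : M₃ ≠ M₁) (h32 : M₃ ≠ M₂) :
    ∀ a ∈ (S : Subgroup G), ∀ b ∈ (S : Subgroup G), ∀ c ∈ (S : Subgroup G), ⁅⁅a, b⁆, c⁆ = 1 := by
  haveI : Fact (Nat.Prime 2) := ⟨Nat.prime_two⟩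
  have hnt := n₁.nontrivial h₁
  have hdm₁ := n₁.d_mem h₁
  have hdm₂ := n₂.d_mem h₂
  have hnr : ∀ {D M M' : Subgroup G} {d : G}, Soft S D d → Node S D d (S : Subgroup G) M →
      Iso (S : Subgroup G) M' → M ≠ M' → d ∉ M' := fun hS hN hI hne hc => by
    obtain ⟨x, hx, hdx⟩ := hN.nonrad
    exact hdx (hN.toIso.inter_rad hI hne (hN.d_mem hS) hc hx)
  have hd12 : d₁ ∉ M₂ := hnr h₁ n₁ n₂.toIso h12
  have hd21 : d₂ ∉ M₁ := hnr h₂ n₂ n₁.toIso h12.symm
  have hd31 : d₃ ∉ M₁ := hnr h₃ n₃ n₁.toIso h31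
  have hd32 : d₃ ∉ M₂ := hnr h₃ n₃ n₂.toIso h32
  have hS₁ : d₁ ∈ (S : Subgroup G) := h₁.le h₁.mem
  have hS₂ : d₂ ∈ (S : Subgroup G) := h₂.le h₂.mem
  have hS₃ : d₃ ∈ (S : Subgroup G) := h₃.le h₃.mem
  -- `K₂` and `K₃`
  set L : Subgroup ↥(S : Subgroup G) := (KK (S : Subgroup G)).subgroupOf S with hL
  haveI hLn : L.Normal := ⟨fun l hl a => mem_subgroupOf.2 (conj_mem_KK (le_normalizer a.2) hl)⟩
  set L3 : Subgroup ↥(S : Subgroup G) := closure {z | ∃ l ∈ L, ∃ x, z = ⁅l, x⁆ ∨ z = l * l} with hL3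
  haveI : L3.Normal := ⟨fun z hz a => by
    induction hz using closure_induction with
    | mem y hy =>
      obtain ⟨l, hl, x, rfl | rfl⟩ := hy
      · rw [conjugate_commutatorElement]
        exact subset_closure ⟨_, hLn.conj_mem l hl a, _, .inl rfl⟩
      · exact subset_closure ⟨_, hLn.conj_mem l hl a, 1, .inr (by group)⟩
    | one => simp
    | mul p q _ _ ihp ihq =>
      rw [show a * (p * q) * a⁻¹ = (a * p * a⁻¹) * (a * q * a⁻¹) by group]
      exact mul_mem ihp ihq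
    | inv p _ ihp =>
      rw [show a * p⁻¹ * a⁻¹ = (a * p * a⁻¹)⁻¹ by group]
      exact inv_mem ihp⟩
  let π := QuotientGroup.mk' L3
  have hπ : Function.Surjective π := QuotientGroup.mk'_surjective L3
  have hLπ : ∀ l ∈ L, π l ∈ center (↥(S : Subgroup G) ⧸ L3) ∧ π l * π l = 1 := fun l hl => by
    refine ⟨mem_center_iff.2 fun y => ?_, ?_⟩
    · obtain ⟨x, rfl⟩ := hπ y
      refine (commutatorElement_eq_one_iff_mul_comm.1 ?_).symm
      rw [← map_commutatorElement]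
      exact (QuotientGroup.eq_one_iff _).2 (subset_closure ⟨l, hl, x, .inl rfl⟩)
    · rw [← map_mul]
      exact (QuotientGroup.eq_one_iff _).2 (subset_closure ⟨l, hl, 1, .inr rfl⟩)
  set R : Set (↥(S : Subgroup G) ⧸ L3) := π '' {x | (x : G) ∈ M₁ ∧ (x : G) ∈ M₂} with hR
  let r : ↥(S : Subgroup G) := ⟨(d₁ * d₂)⁻¹ * d₃, mul_mem (inv_mem (mul_mem hS₁ hS₂)) hS₃⟩
  have hr : (r : G) ∈ M₁ ∧ (r : G) ∈ M₂ := by
    show (d₁ * d₂)⁻¹ * d₃ ∈ M₁ ∧ (d₁ * d₂)⁻¹ * d₃ ∈ M₂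
    rw [mul_mem_iff_two n₁.idx (inv_mem (mul_mem hS₁ hS₂)) hS₃,
      mul_mem_iff_two n₂.idx (inv_mem (mul_mem hS₁ hS₂)) hS₃, inv_mem_iff, inv_mem_iff,
      mul_mem_iff_two n₁.idx hS₁ hS₂, mul_mem_iff_two n₂.idx hS₁ hS₂]
    simp [hdm₁, hdm₂, hd12, hd21, hd31, hd32]
  have hgen0 : ∀ (M : Subgroup G), Iso (S : Subgroup G) M → ∀ {x y : G}, x ∈ (S : Subgroup G) →
      y ∈ (S : Subgroup G) → (x⁻¹ * y ∈ M ↔ (x ∈ M ↔ y ∈ M)) := fun M hM {x y} hx hy => by
    rw [mul_mem_iff_two hM.idx (inv_mem hx) hy, inv_mem_iff]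
  have key := class_two_core R (π ⟨d₁, hS₁⟩) (π ⟨d₂, hS₂⟩) (π r) ⟨r, hr, rfl⟩ ?_ ?_ ?_ ?_ ?_
  · -- `L = ⊥`
    have hLbot : L = ⊥ := by
      by_contra hne
      have hlt := PGroup.commutator_lt_of_ne_bot S.isPGroup' hne
      obtain ⟨Y, hY, hYL, hYi⟩ := exists_idx_two (S.isPGroup'.to_subgroup L) hlt.le hlt.ne
      have h3 : L3 ≤ Y := (closure_le _).2 <| by
        rintro _ ⟨l, hl, x, rfl | rfl⟩
        · exact hY (commutator_mem_commutator hl (mem_top x))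
        · rw [SetLike.mem_coe, mul_mem_iff_two hYi hl hl]
      have hgens : ∀ a ∈ (S : Subgroup G), ∀ b ∈ (S : Subgroup G), ∀ c ∈ (S : Subgroup G), ∀ z,
          (z = ⁅⁅a, b⁆, c⁆ ∨ z = ⁅a, b⁆ * ⁅a, b⁆) → ∀ hz : z ∈ (S : Subgroup G), (⟨z, hz⟩ : ↥(S : Subgroup G)) ∈ Y := by
        intro a ha b hb c hc z hz hzS
        refine h3 ((QuotientGroup.eq_one_iff _).1 ?_)
        obtain ⟨k1, k2⟩ := key (π ⟨a, ha⟩) (π ⟨b, hb⟩)
        rcases hz with rfl | rfl
        · show π ⁅⁅(⟨a, ha⟩ : ↥(S : Subgroup G)), (⟨b, hb⟩ : ↥(S : Subgroup G))⁆, (⟨c, hc⟩ : ↥(S : Subgroup G))⁆ = 1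
          rw [map_commutatorElement, map_commutatorElement]
          exact commutatorElement_eq_one_iff_mul_comm.2 (mem_center_iff.1 k1 _).symm
        · show π (⁅(⟨a, ha⟩ : ↥(S : Subgroup G)), (⟨b, hb⟩ : ↥(S : Subgroup G))⁆ * ⁅(⟨a, ha⟩ : ↥(S : Subgroup G)), (⟨b, hb⟩ : ↥(S : Subgroup G))⁆) = 1
          rw [map_mul, map_commutatorElement]
          exact k2
      have hLY : L ≤ Y := by
        have h4 : KK (S : Subgroup G) ≤ Y.map (S : Subgroup G).subtype := (closure_le _).2 <| by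
          rintro z ⟨a, ha, b, hb, c, hc, hz⟩
          have hzS : z ∈ (S : Subgroup G) := KK_le _ (subset_closure ⟨a, ha, b, hb, c, hc, hz⟩)
          exact ⟨⟨z, hzS⟩, hgens a ha b hb c hc z hz hzS, rfl⟩
        intro l hl
        obtain ⟨y, hy, e⟩ := h4 hl
        exact Subtype.ext e ▸ hy
      rw [relIndex_eq_one.2 hLY] at hYi
      omega
    intro a ha b hb c hc
    have : (⟨_, comm_mem_of_mem (comm_mem_of_mem ha hb) hc⟩ : ↥(S : Subgroup G)) ∈ L :=
      mem_subgroupOf.2 (comm_comm_mem_KK ha hb hc)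
    rw [hLbot, mem_bot] at this
    exact congrArg Subtype.val this
  · -- generation
    rw [eq_top_iff]
    intro y _
    obtain ⟨x, rfl⟩ := hπ y
    have hR' : ∀ z : ↥(S : Subgroup G), (z : G) ∈ M₁ → (z : G) ∈ M₂ →
        π z ∈ closure (R ∪ {π ⟨d₁, hS₁⟩, π ⟨d₂, hS₂⟩}) :=
      fun z h1 h2 => subset_closure (.inl ⟨z, ⟨h1, h2⟩, rfl⟩)
    have hd : π ⟨d₁, hS₁⟩ ∈ closure (R ∪ {π ⟨d₁, hS₁⟩, π ⟨d₂, hS₂⟩}) := subset_closure (.inr (.inl rfl))
    have hd' : π ⟨d₂, hS₂⟩ ∈ closure (R ∪ {π ⟨d₁, hS₁⟩, π ⟨d₂, hS₂⟩}) := subset_closure (.inr (.inr rfl))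
    have step : ∀ w : ↥(S : Subgroup G), π w ∈ closure (R ∪ {π ⟨d₁, hS₁⟩, π ⟨d₂, hS₂⟩}) →
        ((w : G) ∈ M₁ ↔ (x : G) ∈ M₁) → ((w : G) ∈ M₂ ↔ (x : G) ∈ M₂) →
        π x ∈ closure (R ∪ {π ⟨d₁, hS₁⟩, π ⟨d₂, hS₂⟩}) := by
      intro w hw k1 k2
      have := mul_mem hw (hR' (w⁻¹ * x) ((hgen0 M₁ n₁.toIso w.2 x.2).2 k1) ((hgen0 M₂ n₂.toIso w.2 x.2).2 k2))
      rwa [← map_mul, mul_inv_cancel_left] at this
    by_cases hx1 : (x : G) ∈ M₁ <;> by_cases hx2 : (x : G) ∈ M₂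
    · exact hR' x hx1 hx2
    · exact step ⟨d₁, hS₁⟩ hd (iff_of_true hdm₁ hx1) (iff_of_false hd12 hx2)
    · exact step ⟨d₂, hS₂⟩ hd' (iff_of_false hd21 hx1) (iff_of_true hdm₂ hx2)
    · refine step (⟨d₁, hS₁⟩ * ⟨d₂, hS₂⟩) (by rw [map_mul]; exact mul_mem hd hd') ?_ ?_
      · refine iff_of_false ?_ hx1
        show d₁ * d₂ ∉ M₁
        rw [mul_mem_iff_two n₁.idx hS₁ hS₂]; simp [hdm₁, hd21]
      · refine iff_of_false ?_ hx2
        show d₁ * d₂ ∉ M₂
        rw [mul_mem_iff_two n₂.idx hS₁ hS₂]; simp [hdm₂, hd12]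
  · rintro _ ⟨z, ⟨h1, h2⟩, rfl⟩ y
    obtain ⟨x, rfl⟩ := hπ y
    rw [← map_commutatorElement]
    exact hLπ _ (mem_subgroupOf.2 (n₁.toIso.inter_rad n₂.toIso h12 h1 h2 x.2))
  · rw [← map_mul, show (⟨d₁, hS₁⟩ : ↥(S : Subgroup G)) * ⟨d₁, hS₁⟩ = 1 from Subtype.ext h₁.sq, map_one]
  · rw [← map_mul, show (⟨d₂, hS₂⟩ : ↥(S : Subgroup G)) * ⟨d₂, hS₂⟩ = 1 from Subtype.ext h₂.sq, map_one]
  · rw [← map_mul, ← map_mul, ← map_mul,
      show (⟨d₁, hS₁⟩ : ↥(S : Subgroup G)) * ⟨d₂, hS₂⟩ * r = ⟨d₃, hS₃⟩ from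
        Subtype.ext (mul_inv_cancel_left (d₁ * d₂) d₃),
      show (⟨d₃, hS₃⟩ : ↥(S : Subgroup G)) * ⟨d₃, hS₃⟩ = 1 from Subtype.ext h₃.sq, map_one]

end Cfsg.Agent.AbelianInter
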