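import Cfsg.Agent.Lib.AbelianInter.Reduce
import Cfsg.Agent.Lib.Quasithin.ConjFamily
import Cfsg.Agent.Lib.Goldschmidt.General.Final
import Cfsg.Agent.Lib.Bender.RankOneHalf
import Cfsg.Agent.Lib.SuzukiRankOne.Unitary.TwoGroup

/-!
# S3186 from Goldschmidt's theorem (owner: helper74)

* `result_of_shape` : the statement S3186, given `QTConjFamily.StronglyClosedAbelianShape`
* `result_of_threeInv` : the same, given `Goldschmidt.ThreeInv.ThreeInvTarget`
-/

set_option autoImplicit false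
set_option linter.style.haveILetI false

namespace Cfsg.Agent.AbelianInter

open Subgroup
open scoped commutatorElement

universe u

variable {G : Type u} [Group G] [Finite G]

/-- A Sylow 2-subgroup of a simple group with a strongly embedded subgroup has class at most 2. -/
theorem classTwo_of_stronglyEmbedded [IsSimpleGroup G] (S : Sylow 2 G) {H : Subgroup G}
    (hH : Cfsg.IsStronglyEmbedded H) : ClassTwo (S : Subgroup G) := by
  haveI : Fact (Nat.Prime 2) := ⟨Nat.prime_two⟩
  haveI := Bender.faithful_of_normalCore (Bender.normalCore_of_simple hH)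
  have h2 := SuzukiRankOne.two_involutions_of_simple hH
  obtain ⟨t, Q, h⟩ := Bender.rankOneHalf G H hH (Bender.normalCore_of_simple hH) h2
  obtain ⟨hQ2, -⟩ := SuzukiRankOne.kernelShape G (G ⧸ H) _ t Q h h2
  have hQ : ClassTwo Q := by
    by_cases hab : IsMulCommutative ↥Q
    · exact ClassTwo.of_comm fun a ha b hb => congrArg Subtype.val (hab.is_comm.comm ⟨a, ha⟩ ⟨b, hb⟩)
    obtain ⟨n, -, -, ⟨C⟩⟩ := SuzukiRankOne.exists_coords h h2
    intro a ha b hb c hc
    obtain ⟨x, hx⟩ := C.comm_eq h h2 hQ2 hab (inv_mem ha) (inv_mem hb)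
    refine commutatorElement_eq_one_iff_mul_comm.2 ?_
    rw [show ⁅a, b⁆ = C.z x by rw [hx, commutatorElement_def, inv_inv, inv_inv]]
    exact C.z_commute h h2 x hc
  obtain ⟨P, hP⟩ := RankOne.Setup.exists_sylow_two_le h
  obtain ⟨g, hg⟩ := MulAction.exists_smul_eq G S P
  have hmem : ∀ x ∈ (S : Subgroup G), g * x * g⁻¹ ∈ Q := fun x hx => by
    refine hP ?_
    rw [← hg, Sylow.coe_subgroup_smul]
    exact ⟨x, hx, rfl⟩
  intro a ha b hb c hc
  have h1 := hQ _ (hmem a ha) _ (hmem b hb) _ (hmem c hc)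
  rw [show ⁅⁅g * a * g⁻¹, g * b * g⁻¹⁆, g * c * g⁻¹⁆ = g * ⁅⁅a, b⁆, c⁆ * g⁻¹ by
    simp only [commutatorElement_def]; group, conj_eq_one_iff] at h1
  exact h1

/-- **S3186**, given Goldschmidt's theorem on strongly closed abelian 2-subgroups. -/
theorem result_of_shape (hshape : QTConjFamily.StronglyClosedAbelianShape.{u}) [IsSimpleGroup G]
    (hG : ¬ IsMulCommutative G)
    (hA : ∀ S T : Sylow 2 G, S ≠ T → IsMulCommutative ↥((S : Subgroup G) ⊓ (T : Subgroup G)))
    (S : Sylow 2 G) :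
    (∃ m : ℕ, 2 ≤ m ∧ Nonempty (↥(S : Subgroup G) ≃* DihedralGroup m)) ∨
      commutator ↥(S : Subgroup G) ≤ Subgroup.center ↥(S : Subgroup G) := by
  refine (dihedral_or_classTwo hA (S := S) (fun A hne hAc hcl => ?_) hG).imp id
    ClassTwo.commutator_le_center
  rcases hshape G S A hne hAc hcl with hS | ⟨H, hH⟩
  · exact ClassTwo.of_comm fun a ha b hb => congrArg Subtype.val (hS.is_comm.comm ⟨a, ha⟩ ⟨b, hb⟩)
  · exact classTwo_of_stronglyEmbedded S hH

/-- **S3186**, given the three-involution theorem. -/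
theorem result_of_threeInv (hT : Goldschmidt.ThreeInv.ThreeInvTarget.{u}) [IsSimpleGroup G]
    (hG : ¬ IsMulCommutative G)
    (hA : ∀ S T : Sylow 2 G, S ≠ T → IsMulCommutative ↥((S : Subgroup G) ⊓ (T : Subgroup G)))
    (S : Sylow 2 G) :
    (∃ m : ℕ, 2 ≤ m ∧ Nonempty (↥(S : Subgroup G) ≃* DihedralGroup m)) ∨
      commutator ↥(S : Subgroup G) ≤ Subgroup.center ↥(S : Subgroup G) :=
  result_of_shape (fun _ _ _ _ S A h1 h2 h3 => Goldschmidt.General.goldschmidt_of hT S A h1 h2 h3) hG hA S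

end Cfsg.Agent.AbelianInter
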