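import Cfsg.Agent.EqLemmas
import Cfsg.Agent.Lib.FFStrongEmb.Main
import Cfsg.Agent.Lib.Fusion.SylowIn

/-!
# An offender on a group of involutions with a TI Sylow automiser (owner: helper74)

`OffData V L T B`: `L` normalises the elementary abelian 2-group `V`, is generated by 2-elements, its
Sylow 2-subgroup `T` induces a TI group on `V`, and `B ≤ T` is an offender.

`OffData.core`: `B` covers `T / C_T(V)`, `|V| = q² |C_V(L)|` and the module is natural.
-/

set_option autoImplicit false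
set_option linter.style.haveILetI false

namespace Cfsg.Agent.AbelianInter

open Subgroup
open Fusion (IsSylowIn)
open OffenderSL2 (fixS cj)
open scoped commutatorElement IsMulCommutative

universe u

variable {G : Type u} [Group G]

/-- An element of 2-power order. -/
def TwoElem (x : G) : Prop := ∃ k : ℕ, x ^ 2 ^ k = 1

theorem TwoElem.isPGroup {x : G} (h : TwoElem x) : IsPGroup 2 ↥(zpowers x) := by
  obtain ⟨k, hk⟩ := h
  haveI : Fact (Nat.Prime 2) := ⟨Nat.prime_two⟩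
  obtain ⟨j, -, hj⟩ := (Nat.dvd_prime_pow Nat.prime_two).1 (orderOf_dvd_of_pow_eq_one hk)
  exact IsPGroup.of_card (n := j) (by rw [Nat.card_zpowers, hj])

theorem twoElem_of_mem {H : Subgroup G} (hH : IsPGroup 2 ↥H) {x : G} (hx : x ∈ H) : TwoElem x := by
  obtain ⟨k, hk⟩ := hH ⟨x, hx⟩
  exact ⟨k, congrArg Subtype.val hk⟩

theorem TwoElem.conj {x : G} (h : TwoElem x) (g : G) : TwoElem (g * x * g⁻¹) := by
  obtain ⟨k, hk⟩ := h
  exact ⟨k, by rw [conj_pow, hk, mul_one, mul_inv_cancel]⟩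

theorem commute_iff_conj_eq {l v : G} : l * v * l⁻¹ = v ↔ v * l = l * v := by
  rw [mul_inv_eq_iff_eq_mul]
  exact eq_comm

theorem comm_mem_commute {V : Subgroup G} {L : Subgroup G} {v : G} (hv : v ∈ V ⊓ centralizer (L : Set G))
    {l : G} (hl : l ∈ L) : l * v = v * l := mem_centralizer_iff.1 hv.2 l hl

theorem exists_ne_one_mem {P : Type*} [Group P] {H : Subgroup P} (h : H ≠ ⊥) : ∃ z ∈ H, z ≠ 1 := by
  by_contra hc
  push Not at hc
  exact h ((eq_bot_iff_forall H).2 hc)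

/-- Minimal offenders inside a given one. -/
theorem exists_ctx_le {P : Type*} [Group P] [Finite P] {W : Type*} [AddCommGroup W] [Finite W]
    {σ : P →* AddMonoid.End W} {p : ℕ} [Fact p.Prime] {Y : Subgroup P} (hexp : ∀ v : W, p • v = 0)
    (hfaith : ∀ g : P, (∀ v, σ g v = v) → g = 1) (hY : Cfsg.IsStronglyPEmbedded p Y)
    (hgenP : closure {x : P | ∃ k : ℕ, x ^ p ^ k = 1} = ⊤)
    {B : Subgroup P} (hBY : B ≤ Y) (hBne : B ≠ ⊥) (hcomm : ∀ a ∈ B, ∀ b ∈ B, a * b = b * a)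
    (hpow : ∀ a ∈ B, a ^ p = 1) (hoff : Nat.card W ≤ Nat.card ↥B * Nat.card ↥(fixS σ B)) :
    ∃ A : Subgroup P, A ≤ B ∧ FFStrongEmb.Ctx σ p Y A := by
  let C : Set (Subgroup P) := {A | A ≠ ⊥ ∧ A ≤ B ∧ Nat.card W ≤ Nat.card ↥A * Nat.card ↥(fixS σ A)}
  obtain ⟨A, ⟨hne, hAB, hA⟩, hmin⟩ := (Set.toFinite C).exists_minimal ⟨B, hBne, le_rfl, hoff⟩
  refine ⟨A, hAB, hexp, hfaith, hY, hgenP, hAB.trans hBY, hne, fun a ha b hb => hcomm a (hAB ha) b (hAB hb),
    fun a ha => hpow a (hAB ha), hA, fun A₀ hle h0 hA0 => ?_⟩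
  by_contra hlt
  exact hA0 (le_antisymm hle (hmin ⟨h0, hle.trans hAB, not_lt.1 hlt⟩ hle))

/-- A homomorphism factors through an injective one. -/
theorem exists_injective {P : Type u} [Group P] [Finite P] {M : Type*} [Monoid M] (σ : P →* M) :
    ∃ (Q : Type u) (_ : Group Q) (_ : Finite Q) (π : P →* Q) (τ : Q →* M),
      Function.Surjective π ∧ (∀ l, τ (π l) = σ l) ∧ Function.Injective τ :=
  ⟨P ⧸ σ.ker, inferInstance, inferInstance, QuotientGroup.mk' σ.ker, QuotientGroup.lift σ.ker σ le_rfl,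
    QuotientGroup.mk'_surjective _, fun _ => rfl, fun x y => by
      induction x using QuotientGroup.induction_on with
      | H x =>
        induction y using QuotientGroup.induction_on with
        | H y =>
          intro h
          have h' : σ x = σ y := h
          refine QuotientGroup.eq.2 ?_
          rw [MonoidHom.mem_ker, map_mul, ← h', ← map_mul, inv_mul_cancel, map_one]⟩

/-- An involution of `SL₂(F)`, `char F = 2`, fixes at most `|F|` vectors. -/
theorem card_fixed_le {F : Type*} [Field F] [Fintype F] (M : Matrix.SpecialLinearGroup (Fin 2) F)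
    (hM : M ≠ 1) (W : AddSubgroup (Fin 2 → F)) (hW : ∀ w ∈ W, M.1.mulVec w = w) :
    Nat.card ↥W ≤ Fintype.card F := by
  let K : Submodule F (Fin 2 → F) := LinearMap.ker (Matrix.mulVecLin M.1 - LinearMap.id)
  have hK : K ≠ ⊤ := by
    intro e
    apply hM
    apply Subtype.ext
    refine Matrix.ext_of_mulVec_single fun i => ?_
    have h1 : Pi.single i (1 : F) ∈ K := e ▸ Submodule.mem_top
    rw [LinearMap.mem_ker, LinearMap.sub_apply, sub_eq_zero, Matrix.mulVecLin_apply,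
      LinearMap.id_apply] at h1
    rw [h1, Matrix.SpecialLinearGroup.coe_one, Matrix.one_mulVec]
  have hle : W ≤ K.toAddSubgroup := fun w hw => by
    show w ∈ K
    rw [LinearMap.mem_ker, LinearMap.sub_apply, sub_eq_zero, Matrix.mulVecLin_apply, LinearMap.id_apply]
    exact hW w hw
  refine (Nat.card_le_card_of_injective _ (AddSubgroup.inclusion_injective hle)).trans ?_
  show Nat.card ↥K ≤ _
  rw [Module.natCard_eq_pow_finrank (K := F) (V := ↥K), Nat.card_eq_fintype_card]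
  calc Fintype.card F ^ Module.finrank F ↥K ≤ Fintype.card F ^ 1 := by
        refine Nat.pow_le_pow_right Fintype.card_pos ?_
        have := Submodule.finrank_lt hK
        rw [Module.finrank_fin_fun] at this
        omega
    _ = _ := pow_one _

/-- The action of `L` on `V` by conjugation. -/
noncomputable def act (V L : Subgroup G) [IsMulCommutative ↥V] (hn : L ≤ normalizer (V : Set G)) :
    ↥L →* AddMonoid.End (Additive ↥V) where
  toFun l := AddMonoidHom.mk' (fun v => Additive.ofMul ⟨(l : G) * (Additive.toMul v : ↥V) * (l : G)⁻¹,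
      (mem_normalizer_iff.1 (hn l.2) _).1 (Additive.toMul v).2⟩) (fun v w => by
    apply Additive.toMul.injective
    apply Subtype.ext
    show (l : G) * ((Additive.toMul v : ↥V) * (Additive.toMul w : ↥V) : ↥V) * (l : G)⁻¹ = _
    simp [mul_assoc])
  map_one' := by
    refine AddMonoidHom.ext fun v => ?_
    apply Additive.toMul.injective
    apply Subtype.ext
    show ((1 : ↥L) : G) * (Additive.toMul v : ↥V) * ((1 : ↥L) : G)⁻¹ = (Additive.toMul v : ↥V)
    simp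
  map_mul' l m := by
    refine AddMonoidHom.ext fun v => ?_
    apply Additive.toMul.injective
    apply Subtype.ext
    show ((l * m : ↥L) : G) * (Additive.toMul v : ↥V) * ((l * m : ↥L) : G)⁻¹ = _
    simp only [Subgroup.coe_mul, mul_inv_rev]
    show _ = (l : G) * ((m : G) * (Additive.toMul v : ↥V) * (m : G)⁻¹) * (l : G)⁻¹
    group

theorem act_apply {V L : Subgroup G} [IsMulCommutative ↥V] (hn : L ≤ normalizer (V : Set G)) (l : ↥L)
    (v : Additive ↥V) :
    ((Additive.toMul (act V L hn l v) : ↥V) : G) = (l : G) * (Additive.toMul v : ↥V) * (l : G)⁻¹ := rfl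

theorem act_eq_self {V L : Subgroup G} [IsMulCommutative ↥V] (hn : L ≤ normalizer (V : Set G)) (l : ↥L)
    (v : Additive ↥V) : act V L hn l v = v ↔
      ((Additive.toMul v : ↥V) : G) * l = l * (Additive.toMul v : ↥V) := by
  rw [← commute_iff_conj_eq, ← act_apply hn]
  exact ⟨fun e => by rw [e], fun e => Additive.toMul.injective (Subtype.ext e)⟩

/-- The hypotheses. -/
structure OffData (V L T B : Subgroup G) : Prop where
  comm : ∀ v ∈ V, ∀ w ∈ V, v * w = w * v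
  sq : ∀ v ∈ V, v * v = 1
  le_norm : L ≤ normalizer (V : Set G)
  gen : L ≤ closure {x | x ∈ L ∧ TwoElem x}
  syl : IsSylowIn 2 T L
  ti : ∀ X : Subgroup G, X ≤ T → (∃ x ∈ X, x ∉ centralizer (V : Set G)) → ∀ l ∈ L,
    (∀ x ∈ X, ∃ y ∈ X, y⁻¹ * (l * x * l⁻¹) ∈ centralizer (V : Set G)) →
    ∃ c ∈ L, c ∈ centralizer (V : Set G) ∧ c * l ∈ normalizer (T : Set G)
  proper : ∃ l ∈ L, ∀ c ∈ L, c ∈ centralizer (V : Set G) → c * l ∉ normalizer (T : Set G)
  B_le : B ≤ T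
  B_comm : ∀ a ∈ B, ∀ b ∈ B, a * b = b * a
  B_ne : ∃ b ∈ B, b ∉ centralizer (V : Set G)
  B_sq : ∀ b ∈ B, b * b ∈ centralizer (V : Set G)
  off : Nat.card ↥V * Nat.card ↥(B ⊓ centralizer (V : Set G)) ≤
    Nat.card ↥B * Nat.card ↥(V ⊓ centralizer (B : Set G))

/-- The conclusion. -/
structure Natural (V L T B : Subgroup G) (q : ℕ) : Prop where
  two_le : 2 ≤ q
  card_B : Nat.card ↥(B ⊓ centralizer (V : Set G)) * q = Nat.card ↥B
  cover : ∀ t ∈ T, ∃ b ∈ B, b⁻¹ * t ∈ centralizer (V : Set G)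
  card_fix : Nat.card ↥(V ⊓ centralizer (B : Set G)) * q = Nat.card ↥V
  card_top : Nat.card ↥(V ⊓ centralizer (L : Set G)) * q = Nat.card ↥(V ⊓ centralizer (B : Set G))
  free : ∀ b ∈ B, b ∉ centralizer (V : Set G) → ∀ v ∈ V, v * b = b * v → v ∈ centralizer (B : Set G)
  moved : ∀ b ∈ B, b ∉ centralizer (V : Set G) → ∀ v ∈ V, v ∉ centralizer (B : Set G) →
    ⁅b, v⁆ ∉ centralizer (L : Set G)
  gen : ∀ l ∈ L, (∀ c ∈ L, c ∈ centralizer (V : Set G) → c * l ∉ normalizer (T : Set G)) →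
    ∀ v ∈ V, v ∈ centralizer (B : Set G) → (∀ b ∈ B, v * (l * b * l⁻¹) = (l * b * l⁻¹) * v) →
      v ∈ centralizer (L : Set G)

variable [Finite G]

set_option maxHeartbeats 200000 in
theorem OffData.core {V L T B : Subgroup G} (h : OffData V L T B) : ∃ q, Natural V L T B q := by
  classical
  haveI : Fact (Nat.Prime 2) := ⟨Nat.prime_two⟩
  haveI : IsMulCommutative ↥V := ⟨⟨fun a b => Subtype.ext (h.comm a a.2 b b.2)⟩⟩
  obtain ⟨σ, hσ⟩ : ∃ σ : ↥L →* AddMonoid.End (Additive ↥V), σ = act V L h.le_norm := ⟨_, rfl⟩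
  have hact : ∀ (l : ↥L) (v : Additive ↥V), σ l v = v ↔
      ((Additive.toMul v : ↥V) : G) * l = l * (Additive.toMul v : ↥V) := fun l v => by
    rw [hσ]; exact act_eq_self h.le_norm l v
  have hker : ∀ l : ↥L, l ∈ σ.ker ↔ (l : G) ∈ centralizer (V : Set G) := fun l => by
    rw [MonoidHom.mem_ker, mem_centralizer_iff]
    constructor
    · intro e v hv
      exact (hact l (Additive.ofMul ⟨v, hv⟩)).1 (by rw [e]; rfl)
    · intro hc
      exact AddMonoidHom.ext fun v => (hact l v).2 (hc _ (Additive.toMul v).2)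
  obtain ⟨P, _, _, π, τ, hπ, hτ, hτinj⟩ := exists_injective σ
  have hfaith : ∀ g : P, (∀ v, τ g v = v) → g = 1 := fun g hg => hτinj (by
    rw [map_one]; exact AddMonoidHom.ext hg)
  have hπ1 : ∀ l : ↥L, π l = 1 ↔ (l : G) ∈ centralizer (V : Set G) := fun l => by
    rw [← hker, MonoidHom.mem_ker, ← hτ l]
    exact ⟨fun e => by rw [e, map_one], fun e => hfaith _ fun v => by rw [e]; rfl⟩
  have hπeq : ∀ l m : ↥L, π l = π m ↔ (l : G)⁻¹ * (m : G) ∈ centralizer (V : Set G) := fun l m => by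
    rw [← inv_mul_eq_one, ← map_inv, ← map_mul, hπ1]
    rfl
  have hexp : ∀ v : Additive ↥V, 2 • v = 0 := fun v => by
    apply Additive.toMul.injective
    apply Subtype.ext
    show ((Additive.toMul v ^ 2 : ↥V) : G) = 1
    rw [pow_two, coe_mul]
    exact h.sq _ (Additive.toMul v).2
  have hgenP : closure {x : P | ∃ k : ℕ, x ^ 2 ^ k = 1} = ⊤ := by
    rw [eq_top_iff]
    intro g _
    obtain ⟨l, rfl⟩ := hπ g
    suffices ∀ x (hx : x ∈ closure {x | x ∈ L ∧ TwoElem x}), ∀ hxL : x ∈ L,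
        π ⟨x, hxL⟩ ∈ closure {x : P | ∃ k : ℕ, x ^ 2 ^ k = 1} from this _ (h.gen l.2) l.2
    intro x hx
    induction hx using closure_induction with
    | mem y hy =>
      intro hyL
      obtain ⟨k, hk⟩ := hy.2
      refine subset_closure ⟨k, ?_⟩
      rw [← map_pow, show (⟨y, hyL⟩ : ↥L) ^ 2 ^ k = 1 from Subtype.ext (by simpa using hk), map_one]
    | one =>
      intro hL
      rw [show (⟨1, hL⟩ : ↥L) = 1 from rfl, map_one]
      exact one_mem _
    | mul a b ha hb iha ihb =>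
      intro hab
      have hLa : a ∈ L := (closure_le L).2 (fun z hz => hz.1) ha
      have hLb : b ∈ L := (closure_le L).2 (fun z hz => hz.1) hb
      rw [show (⟨a * b, hab⟩ : ↥L) = ⟨a, hLa⟩ * ⟨b, hLb⟩ from rfl, map_mul]
      exact mul_mem (iha hLa) (ihb hLb)
    | inv a ha iha =>
      intro hL
      have hLa : a ∈ L := (closure_le L).2 (fun z hz => hz.1) ha
      rw [show (⟨a⁻¹, hL⟩ : ↥L) = (⟨a, hLa⟩ : ↥L)⁻¹ from rfl, map_inv]
      exact inv_mem (iha hLa)
  -- the Sylow subgroup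
  obtain ⟨R, hR⟩ := (Fusion.isSylowIn_iff_exists h.syl.1).1 h.syl
  let RP : Sylow 2 (P) := R.mapSurjective hπ
  have hRP : ∀ g, g ∈ (RP : Subgroup (P)) ↔ ∃ t : ↥L, (t : G) ∈ T ∧ π t = g := fun g => by
    rw [Sylow.coe_mapSurjective, mem_map, hR]
    simp only [mem_subgroupOf]
  set Y := normalizer ((RP : Subgroup (P)) : Set (P)) with hYdef
  have hnormY : ∀ n : ↥L, (n : G) ∈ normalizer (T : Set G) → π n ∈ Y := fun n hn => by
    rw [hYdef, mem_normalizer_iff]
    intro g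
    rw [hRP, hRP]
    constructor
    · rintro ⟨t, ht, rfl⟩
      exact ⟨n * t * n⁻¹, by simpa using (mem_normalizer_iff.1 hn _).1 ht, by simp⟩
    · rintro ⟨t, ht, e⟩
      refine ⟨n⁻¹ * t * n, ?_, ?_⟩
      · simp only [Subgroup.coe_mul, Subgroup.coe_inv]
        rw [mem_normalizer_iff.1 hn]
        simpa [mul_assoc] using ht
      · rw [map_mul, map_mul, map_inv, e]
        simp [mul_assoc]
  have hYiff : ∀ l : ↥L, π l ∈ Y ↔ ∃ c ∈ L, c ∈ centralizer (V : Set G) ∧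
      c * (l : G) ∈ normalizer (T : Set G) := fun l => by
    constructor
    · intro hl
      refine h.ti T le_rfl ?_ l l.2 fun x hx => ?_
      · obtain ⟨b, hb, hb'⟩ := h.B_ne
        exact ⟨b, h.B_le hb, hb'⟩
      · have h1 := (mem_normalizer_iff.1 hl (π ⟨x, h.syl.1 hx⟩)).1 ((hRP _).2 ⟨_, hx, rfl⟩)
        rw [← map_inv, ← map_mul, ← map_mul, hRP] at h1
        obtain ⟨y, hy, e⟩ := h1
        refine ⟨y, hy, ?_⟩
        exact (hπeq _ _).1 ( e)
    · rintro ⟨c, hcL, hc, hcl⟩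
      have h1 := hnormY (⟨c, hcL⟩ * l) hcl
      rwa [map_mul, show π ⟨c, hcL⟩ = 1 from (hπ1 _).2 ( hc), one_mul] at h1
  have hY : Cfsg.IsStronglyPEmbedded 2 Y := by
    refine (StrongPEmb.isStronglyPEmbedded_iff_forall Y).2 ⟨?_, ?_, RP, fun Q hQ hQne => ?_⟩
    · obtain ⟨b, hb, hb'⟩ := h.B_ne
      have hne : π ⟨b, h.syl.1 (h.B_le hb)⟩ ≠ 1 := fun e =>
        hb' ((hπ1 _).1 ( e))
      have hord : orderOf (π ⟨b, h.syl.1 (h.B_le hb)⟩) = 2 := by
        refine orderOf_eq_prime ?_ hne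
        rw [pow_two, ← map_mul]
        exact (hπ1 _).2 ( (h.B_sq b hb))
      exact hord ▸ orderOf_dvd_natCard _
    · intro e
      obtain ⟨l, hl, hl'⟩ := h.proper
      obtain ⟨c, hcL, hc, hcl⟩ := (hYiff ⟨l, hl⟩).1 (e ▸ mem_top _)
      exact hl' c hcL hc hcl
    · intro g hg
      obtain ⟨l, rfl⟩ := hπ g
      rw [hYiff]
      let X : Subgroup G := ((Q.comap π) ⊓ T.subgroupOf L).map L.subtype
      refine h.ti X ?_ ?_ l l.2 ?_
      · rintro _ ⟨x, hx, rfl⟩
        exact hx.2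
      · obtain ⟨z, hz, hz1⟩ := exists_ne_one_mem hQne
        obtain ⟨t, ht, rfl⟩ := (hRP z).1 (hQ hz)
        exact ⟨t, ⟨t, ⟨hz, ht⟩, rfl⟩, fun hc => hz1 ((hπ1 _).2 ( hc))⟩
      · rintro _ ⟨x, ⟨hxQ, hxT⟩, rfl⟩
        have h1 := (mem_normalizer_iff.1 hg (π x)).1 hxQ
        rw [← map_inv, ← map_mul, ← map_mul] at h1
        obtain ⟨y, hy, e⟩ := (hRP _).1 (hQ h1)
        refine ⟨y, ⟨y, ⟨?_, hy⟩, rfl⟩, (hπeq _ _).1 ( e)⟩
        show π y ∈ Q
        rw [e]; exact h1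
  -- the offender
  let A := (B.subgroupOf L).map π
  have hA : ∀ g, g ∈ A ↔ ∃ b : ↥L, (b : G) ∈ B ∧ π b = g := fun g => by
    simp only [A, mem_map, mem_subgroupOf]
  have hAR : A ≤ (RP : Subgroup (P)) := fun g hg => by
    obtain ⟨b, hb, rfl⟩ := (hA g).1 hg
    exact (hRP _).2 ⟨b, h.B_le hb, rfl⟩
  have hfix : ∀ (H : Subgroup (P)) (H' : Subgroup G), H' ≤ L →
      (∀ g, g ∈ H ↔ ∃ b : ↥L, (b : G) ∈ H' ∧ π b = g) → ∀ v : ↥V,
      (Additive.ofMul v ∈ fixS τ H ↔ (v : G) ∈ centralizer (H' : Set G)) := by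
    intro H H' hH'L hH v
    rw [mem_centralizer_iff]
    constructor
    · intro hv b hb
      have h1 := hv (π ⟨b, hH'L hb⟩) ((hH _).2 ⟨_, hb, rfl⟩)
      rw [hτ] at h1
      exact ((hact ⟨b, hH'L hb⟩ _).1 h1).symm
    · intro hc g hg
      obtain ⟨b, hb, rfl⟩ := (hH g).1 hg
      rw [hτ]
      exact (hact b _).2 (hc b hb).symm
  have hcard : ∀ (H : Subgroup (P)) (H' : Subgroup G), H' ≤ L →
      (∀ g, g ∈ H ↔ ∃ b : ↥L, (b : G) ∈ H' ∧ π b = g) →
      Nat.card ↥(fixS τ H) = Nat.card ↥(V ⊓ centralizer (H' : Set G)) := fun H H' hH'L hH =>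
    Nat.card_congr
      { toFun := fun v => ⟨((Additive.toMul v.1 : ↥V) : G), (Additive.toMul v.1).2,
          (hfix H H' hH'L hH _).1 v.2⟩
        invFun := fun v => ⟨Additive.ofMul ⟨v.1, v.2.1⟩, (hfix H H' hH'L hH ⟨v.1, v.2.1⟩).2 v.2.2⟩
        left_inv := fun _ => rfl
        right_inv := fun _ => rfl }
  have hBL : B ≤ L := h.B_le.trans h.syl.1
  have hcardA : Nat.card ↥A * Nat.card ↥(B ⊓ centralizer (V : Set G)) = Nat.card ↥B := by
    let f : ↥(B.subgroupOf L) →* P := π.comp (B.subgroupOf L).subtype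
    have h1 : f.range = A := by
      simp [f, A, MonoidHom.range_comp]
    have h2 : Nat.card ↥f.ker = Nat.card ↥(B ⊓ centralizer (V : Set G)) := Nat.card_congr
      { toFun := fun x => ⟨((x.1 : ↥L) : G), x.1.2, (hπ1 _).1 ( x.2)⟩
        invFun := fun x => ⟨⟨⟨x.1, hBL x.2.1⟩, x.2.1⟩, (hπ1 _).2 ( x.2.2)⟩
        left_inv := fun _ => rfl
        right_inv := fun _ => rfl }
    have h3 := f.ker.card_eq_card_quotient_mul_card_subgroup
    rw [Nat.card_congr (QuotientGroup.quotientKerEquivRange f).toEquiv, h1, h2,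
      Nat.card_congr (subgroupOfEquivOfLe hBL).toEquiv] at h3
    exact h3.symm
  have hAne : A ≠ ⊥ := fun e => by
    obtain ⟨b, hb, hb'⟩ := h.B_ne
    have : π ⟨b, hBL hb⟩ ∈ A := (hA _).2 ⟨_, hb, rfl⟩
    rw [e, mem_bot] at this
    exact hb' ((hπ1 _).1 ( this))
  have hoff : Nat.card (Additive ↥V) ≤ Nat.card ↥A * Nat.card ↥(fixS τ A) := by
    rw [hcard A B hBL hA, Nat.card_congr Additive.toMul]
    have h1 := h.off
    rw [← hcardA] at h1
    have h2 : 0 < Nat.card ↥(B ⊓ centralizer (V : Set G)) := Nat.card_pos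
    nlinarith
  obtain ⟨A₀, hA₀, hctx⟩ := exists_ctx_le (σ := τ) hexp hfaith hY hgenP
    (hAR.trans le_normalizer) hAne (fun a ha b hb => by
      obtain ⟨a, ha', rfl⟩ := (hA a).1 ha
      obtain ⟨b, hb', rfl⟩ := (hA b).1 hb
      rw [← map_mul, ← map_mul, show a * b = b * a from Subtype.ext (h.B_comm a ha' b hb')])
    (fun a ha => by
      obtain ⟨a, ha', rfl⟩ := (hA a).1 ha
      rw [pow_two, ← map_mul]
      exact (hπ1 _).2 ( (h.B_sq a ha'))) hoff
  have hconcl := hctx.concl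
  have hAR' : A = (RP : Subgroup (P)) := le_antisymm hAR fun g hg => by
    have h1 : A₀ = (RP : Subgroup (P)) :=
      eq_of_le_of_card_ge (hA₀.trans hAR) (hconcl.sylow RP).le
    exact hA₀ (h1 ▸ hg)
  have hA₀' : A₀ = A := eq_of_le_of_card_ge hA₀ (hAR' ▸ (hconcl.sylow RP).le)
  subst hA₀'
  obtain ⟨F, _, _, hF, e, ψ, hψs, hψ0, hψa⟩ := hctx.exists_natural
  set q := Nat.card ↥A with hq
  set f := Nat.card ↥(fixS τ (⊤ : Subgroup (P))) with hf
  have hf0 : 0 < f := Nat.card_pos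
  have hq2 : 2 ≤ q := hctx.one_lt_card
  have hVcard : Nat.card (Additive ↥V) = q ^ 2 * f := hconcl.card_eq
  -- preimages of fixed lines
  have hline : ∀ a ∈ A, a ≠ 1 → ∀ W : AddSubgroup (Additive ↥V),
      (∀ w ∈ W, ψ (τ a w) = ψ w) → Nat.card ↥W ≤ q * f := by
    intro a ha ha1 W hW
    have he : e a ≠ 1 := fun e1 => ha1 (e.injective (by rw [e1, map_one]))
    have h1 := AddSubgroup.card_eq_card_quotient_mul_card_addSubgroup (ψ.comp W.subtype).ker
    rw [Nat.card_congr (QuotientAddGroup.quotientKerEquivRange (ψ.comp W.subtype)).toEquiv] at h1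
    rw [h1]
    refine Nat.mul_le_mul ?_ ?_
    · rw [← hF]
      refine card_fixed_le (e a) he _ ?_
      rintro _ ⟨w, rfl⟩
      show (e a).1.mulVec (ψ (w : Additive ↥V)) = ψ (w : Additive ↥V)
      rw [← hψa]
      exact hW w w.2
    · refine Nat.card_le_card_of_injective
        (fun w => (⟨((w : ↥W) : Additive ↥V), (hψ0 _).1 w.2⟩ : ↥(fixS τ (⊤ : Subgroup (P))))) ?_
      intro x y hxy
      have := congrArg Subtype.val hxy
      exact Subtype.ext (Subtype.ext this)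
  obtain ⟨a₁, ha₁, ha₁1⟩ : ∃ a ∈ A, a ≠ 1 := by
    exact exists_ne_one_mem hAne
  have hfixA : Nat.card ↥(fixS τ A) = q * f := by
    refine le_antisymm (hline a₁ ha₁ ha₁1 _ fun w hw => by rw [hw a₁ ha₁]) ?_
    have h1 := hctx.offender
    rw [hVcard] at h1
    nlinarith
  have hwide : ∀ a ∈ A, a ≠ 1 → ∀ v, ψ (τ a v) = ψ v → v ∈ fixS τ A := by
    intro a ha ha1 v hv
    let W : AddSubgroup (Additive ↥V) :=
      { carrier := {v | ψ (τ a v) = ψ v}
        zero_mem' := by simp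
        add_mem' := fun {x y} (hx : ψ (τ a x) = ψ x) (hy : ψ (τ a y) = ψ y) => by
          show ψ (τ a (x + y)) = ψ (x + y)
          rw [map_add, map_add, map_add, hx, hy]
        neg_mem' := fun {x} (hx : ψ (τ a x) = ψ x) => by
          show ψ (τ a (-x)) = ψ (-x)
          rw [map_neg, map_neg, map_neg, hx] }
    have hle : fixS τ A ≤ W := fun w hw => by show ψ (τ a w) = ψ w; rw [hw a ha]
    have heq : fixS τ A = W := AddSubgroup.eq_of_le_of_card_ge hle
      (hfixA ▸ hline a ha ha1 W fun w hw => hw)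
    rw [heq]; exact hv
  have hbA : ∀ b, ∀ hb : b ∈ B, π ⟨b, hBL hb⟩ ∈ A := fun b hb => (hA _).2 ⟨_, hb, rfl⟩
  have hb1 : ∀ b, ∀ hb : b ∈ B, b ∉ centralizer (V : Set G) → π ⟨b, hBL hb⟩ ≠ 1 := fun b hb hb' e1 =>
    hb' ((hπ1 _).1 ( e1))
  have htop : ∀ g, g ∈ (⊤ : Subgroup (P)) ↔ ∃ b : ↥L, (b : G) ∈ L ∧ π b = g := fun g =>
    ⟨fun _ => let ⟨l, hl⟩ := hπ g; ⟨l, l.2, hl⟩, fun _ => mem_top g⟩
  refine ⟨q, ?_⟩
  constructor
  · exact hq2
  · rw [mul_comm]; exact hcardA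
  · intro t ht
    obtain ⟨b, hb, hbt⟩ := (hA _).1 (show π ⟨t, h.syl.1 ht⟩ ∈ A by
      rw [hAR']; exact (hRP _).2 ⟨_, ht, rfl⟩)
    exact ⟨b, hb, (hπeq _ _).1 ( hbt)⟩
  · rw [← hcard A B hBL hA, hfixA, ← Nat.card_congr (Additive.toMul (α := ↥V)), hVcard]
    ring
  · rw [← hcard A B hBL hA, ← hcard ⊤ L le_rfl htop, hfixA]
    ring
  · intro b hb hb' v hv hvb
    refine (hfix A B hBL hA ⟨v, hv⟩).1 (hwide _ (hbA b hb) (hb1 b hb hb') _ ?_)
    rw [hτ, (hact ⟨b, hBL hb⟩ (Additive.ofMul ⟨v, hv⟩)).2 hvb]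
  · intro b hb hb' v hv hvB hc
    have hmem : ⁅b, v⁆ ∈ V := by
      rw [commutatorElement_def]
      exact mul_mem ((mem_normalizer_iff.1 (h.le_norm (hBL hb)) v).1 hv) (inv_mem hv)
    have h1 : Additive.ofMul (⟨⁅b, v⁆, hmem⟩ : ↥V) ∈ fixS τ (⊤ : Subgroup (P)) :=
      (hfix ⊤ L le_rfl htop _).2 hc
    refine hvB ((hfix A B hBL hA ⟨v, hv⟩).1 (hwide _ (hbA b hb) (hb1 b hb hb') _ ?_))
    have e1 : Additive.ofMul (⟨⁅b, v⁆, hmem⟩ : ↥V) =
        σ ⟨b, hBL hb⟩ (Additive.ofMul ⟨v, hv⟩) - Additive.ofMul ⟨v, hv⟩ := by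
      apply Additive.toMul.injective
      apply Subtype.ext
      rw [hσ, toMul_sub, div_eq_mul_inv, Subgroup.coe_mul, act_apply]
      simp [commutatorElement_def]
    have h2 := (hψ0 _).2 h1
    rw [e1, map_sub, sub_eq_zero] at h2
    rw [hτ, h2]
  · intro l hl hl' v hv hvB hvl
    have hlY : π ⟨l, hl⟩ ∉ Y := fun hy => by
      obtain ⟨c, hcL, hc, hcl⟩ := (hYiff _).1 hy
      exact hl' c hcL hc hcl
    refine (hfix ⊤ L le_rfl htop ⟨v, hv⟩).1 ?_
    rw [← hconcl.gen _ hlY]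
    refine OffenderSL2.fix_sup _ _ ((hfix A B hBL hA ⟨v, hv⟩).2 hvB) ?_
    rintro _ ⟨a, ha, rfl⟩
    obtain ⟨b, hb, rfl⟩ := (hA a).1 ha
    show τ (π ⟨l, hl⟩ * π b * (π ⟨l, hl⟩)⁻¹) _ = _
    rw [← map_inv, ← map_mul, ← map_mul, hτ]
    exact (hact _ _).2 (hvl b hb)

end Cfsg.Agent.AbelianInter
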