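import Cfsg.Agent.Lib.AbelianInter.Basic

/-!
# A bad subgroup with an abelian offender (owner: helper74)

* `Pair S D E`, `Pair.natural` : consequences of the natural module
* `Twin S D E s` : a non-normal bad `D` and its conjugate `E` under `N_S(N_S(D))`
-/

set_option autoImplicit false
set_option linter.style.haveILetI false

namespace Cfsg.Agent.AbelianInter

open Subgroup
open scoped commutatorElement Pointwise

universe u

variable {G : Type u} [Group G]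

theorem card_inf_mul_relIndex (H K : Subgroup G) :
    Nat.card ↥(H ⊓ K) * H.relIndex K = Nat.card ↥K := by
  rw [← inf_relIndex_right, relIndex,
    ← Nat.card_congr (subgroupOfEquivOfLe (inf_le_right : H ⊓ K ≤ K)).toEquiv]
  exact card_mul_index _

/-- `E` is an abelian offender on the bad subgroup `D`. -/
structure Pair (S : Sylow 2 G) (D E : Subgroup G) : Prop where
  bad : Bad S D
  le : E ≤ NS S D
  comm : Comm E
  not_le : ¬ E ≤ D
  cent : ∀ x ∈ D, (∀ e ∈ E, x * e = e * x) → x ∈ E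
  card_le : Nat.card ↥D ≤ Nat.card ↥E
  comm_mem : ∀ e ∈ E, ∀ d ∈ D, ⁅e, d⁆ ∈ D ⊓ E

/-- The consequences. -/
structure PairNat (S : Sylow 2 G) (D E : Subgroup G) (q : ℕ) : Prop where
  two_le : 2 ≤ q
  card_E : Nat.card ↥(D ⊓ E) * q = Nat.card ↥E
  card_D : Nat.card ↥(D ⊓ E) * q = Nat.card ↥D
  card_V : Nat.card ↥(om D ⊓ E) * q = Nat.card ↥(om D)
  card_top : Nat.card ↥(om D ⊓ centralizer (Bad.L D : Set G)) * q = Nat.card ↥(om D ⊓ E)
  cover : ∀ t ∈ NS S D, ∃ e ∈ E, e⁻¹ * t ∈ D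
  decomp : ∀ d ∈ D, ∃ v ∈ om D, v⁻¹ * d ∈ E
  free : ∀ b ∈ E, b ∉ D → ∀ d ∈ D, d * b = b * d → d ∈ E
  comm_om : ∀ l ∈ Bad.L D, ∀ d ∈ D, ⁅l, d⁆ ∈ om D
  sq_fixed : ∀ d ∈ D, d * d ∈ centralizer (Bad.L D : Set G)
  comm_ne_sq : ∀ b ∈ E, b ∉ D → ∀ d ∈ D, d ∉ E → ∀ y ∈ D, ⁅b, d⁆ ≠ y * y
  moved : ∀ b ∈ E, b ∉ D → ∀ d ∈ D, d ∉ E → ⁅b, d⁆ ∉ centralizer (Bad.L D : Set G)
  central : ∀ z ∈ D ⊓ E, ∀ t ∈ NS S D, t * z = z * t
  gen : ∀ l ∈ Bad.L D, (∀ c ∈ Bad.L D, c ∈ centralizer (om D : Set G) → c * l ∉ normalizer (NS S D : Set G)) →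
    ∀ v ∈ om D, v ∈ E → (∀ e ∈ E, v * (l * e * l⁻¹) = (l * e * l⁻¹) * v) →
      v ∈ centralizer (Bad.L D : Set G)

theorem relIndex_ne [Finite G] (H K : Subgroup G) : H.relIndex K ≠ 0 := index_ne_zero_of_finite

variable [Finite G] {S : Sylow 2 G} {D E : Subgroup G}

theorem Pair.toOff (h : Pair S D E) (hA : Inter G) : OffData (om D) (Bad.L D) (NS S D) E := by
  have hD := h.bad.comm hA
  refine h.bad.toOff hA h.le h.comm (SetLike.not_le_iff_exists.1 h.not_le) (fun b hb => ?_) ?_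
  · refine mem_centralizer_iff.2 fun v hv => ?_
    set u := ⁅b, v⁆ with hu
    have huZ := h.comm_mem b hb v (om_le D hv)
    have hbv : b * v * b⁻¹ ∈ om D :=
      conj_mem_norm (normalizer_le_normalizer_om D (mem_inf.1 (h.le hb)).2) hv
    have hu2 : u * u = 1 := ((mem_om hD).1 (show u ∈ om D from mul_mem hbv (inv_mem hv))).2
    have e : b * v * b⁻¹ = u * v := by rw [hu, commutatorElement_def]; group
    have hbu : b * u = u * b := h.comm b hb u (mem_inf.1 huZ).2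
    have e2 : b * b * v * (b * b)⁻¹ = v := by
      calc b * b * v * (b * b)⁻¹ = b * (b * v * b⁻¹) * b⁻¹ := by group
        _ = b * (u * v) * b⁻¹ := by rw [e]
        _ = (b * u) * v * b⁻¹ := by group
        _ = u * (b * v * b⁻¹) := by rw [hbu]; group
        _ = u * u * v := by rw [e]; group
        _ = v := by rw [hu2, one_mul]
    exact (commute_iff_conj_eq.1 e2)
  · have e1 : E ⊓ centralizer (om D : Set G) = D ⊓ E := by
      refine le_antisymm (fun x hx => mem_inf.2 ⟨h.bad.mem_of_NS_centralizes hA (h.le hx.1) hx.2, hx.1⟩)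
        (fun x hx => mem_inf.2 ⟨hx.2, mem_centralizer_iff.2 fun v hv => hD v (om_le D hv) x hx.1⟩)
    have e2 : om D ⊓ centralizer (E : Set G) = (D ⊓ E) ⊓ om D := by
      refine le_antisymm (fun x hx => mem_inf.2 ⟨mem_inf.2 ⟨om_le D hx.1, h.cent x (om_le D hx.1)
        fun e he => (mem_centralizer_iff.1 hx.2 e he).symm⟩, hx.1⟩)
        (fun x hx => mem_inf.2 ⟨hx.2, mem_centralizer_iff.2 fun e he => h.comm e he x hx.1.2⟩)
    rw [e1, e2]
    have h1 := card_inf_mul_relIndex (D ⊓ E) (om D)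
    have h2 := card_inf_mul_relIndex (D ⊓ E) D
    have h3 : (D ⊓ E).relIndex (om D) ≤ (D ⊓ E).relIndex D :=
      relIndex_le_of_le_right (om_le D) (relIndex_ne _ _)
    rw [show (D ⊓ E) ⊓ D = D ⊓ E from inf_eq_left.2 inf_le_left] at h2
    calc _ = Nat.card ↥((D ⊓ E) ⊓ om D) * ((D ⊓ E).relIndex (om D) * Nat.card ↥(D ⊓ E)) := by
          rw [← mul_assoc, h1]
      _ ≤ Nat.card ↥((D ⊓ E) ⊓ om D) * ((D ⊓ E).relIndex D * Nat.card ↥(D ⊓ E)) :=
          Nat.mul_le_mul_left _ (Nat.mul_le_mul_right _ h3)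
      _ = Nat.card ↥D * Nat.card ↥((D ⊓ E) ⊓ om D) := by
          rw [mul_comm ((D ⊓ E).relIndex D), h2, mul_comm]
      _ ≤ _ := Nat.mul_le_mul_right _ h.card_le

theorem Pair.natural (h : Pair S D E) (hA : Inter G) : ∃ q, PairNat S D E q := by
  have hD := h.bad.comm hA
  obtain ⟨q, hn⟩ := (h.toOff hA).core
  have hcE : ∀ v ∈ D, (v ∈ centralizer (E : Set G) ↔ v ∈ E) := fun v hv =>
    ⟨fun hc => h.cent v hv fun e he => (mem_centralizer_iff.1 hc e he).symm,
      fun hvE => mem_centralizer_iff.2 fun e he => h.comm e he v hvE⟩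
  have hcD : ∀ b ∈ E, (b ∈ centralizer (om D : Set G) ↔ b ∈ D) := fun b hb =>
    ⟨h.bad.mem_of_NS_centralizes hA (h.le hb), fun hbD => mem_centralizer_iff.2 fun v hv => hD v (om_le D hv) b hbD⟩
  have e1 : E ⊓ centralizer (om D : Set G) = D ⊓ E := by
    ext x
    exact ⟨fun hx => mem_inf.2 ⟨(hcD x hx.1).1 hx.2, hx.1⟩, fun hx => mem_inf.2 ⟨hx.2, (hcD x hx.2).2 hx.1⟩⟩
  have e2 : om D ⊓ centralizer (E : Set G) = om D ⊓ E := by
    ext x
    exact ⟨fun hx => mem_inf.2 ⟨hx.1, (hcE x (om_le D hx.1)).1 hx.2⟩,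
      fun hx => mem_inf.2 ⟨hx.1, (hcE x (om_le D hx.1)).2 hx.2⟩⟩
  have hcardE : Nat.card ↥(D ⊓ E) * q = Nat.card ↥E := by rw [← e1]; exact hn.card_B
  have hcardV : Nat.card ↥(om D ⊓ E) * q = Nat.card ↥(om D) := by rw [← e2]; exact hn.card_fix
  have hgen : (om D) ⊔ (D ⊓ E) = D := by
    refine eq_of_le_of_card_ge (sup_le (om_le D) inf_le_left) ?_
    refine h.card_le.trans ?_
    rw [← hcardE]
    have h1 := card_inf_mul_relIndex (om D) (om D ⊔ (D ⊓ E))
    have h2 := card_inf_mul_relIndex (D ⊓ E) (om D ⊔ (D ⊓ E))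
    rw [inf_eq_left.2 le_sup_right] at h2
    have h3 := card_inf_mul_relIndex (D ⊓ E) (om D)
    have h4 : (D ⊓ E).relIndex (om D) ≤ (D ⊓ E).relIndex (om D ⊔ (D ⊓ E)) :=
      relIndex_le_of_le_right le_sup_left (relIndex_ne _ _)
    have e3 : (D ⊓ E) ⊓ om D = om D ⊓ E := by
      rw [inf_comm, ← inf_assoc, inf_eq_left.2 (om_le D)]
    rw [e3] at h3
    have h5 : (D ⊓ E).relIndex (om D) = q := Nat.eq_of_mul_eq_mul_left Nat.card_pos (h3.trans hcardV.symm)
    rw [h5] at h4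
    rw [← h2]
    exact Nat.mul_le_mul_left _ h4
  have hdec : ∀ d ∈ D, ∃ v ∈ om D, v⁻¹ * d ∈ E := by
    intro d hd
    have hd' : d ∈ ((om D ⊔ (D ⊓ E) : Subgroup G) : Set G) := hgen.symm ▸ hd
    rw [coe_mul_of_right_le_normalizer_left (om D) (D ⊓ E)
      (inf_le_left.trans (le_normalizer.trans (normalizer_le_normalizer_om D)))] at hd'
    obtain ⟨v, hv, z, hz, rfl⟩ := hd'
    exact ⟨v, hv, by rw [inv_mul_cancel_left]; exact (mem_inf.1 hz).2⟩
  have hcomm_eq : ∀ b ∈ E, ∀ d ∈ D, ∀ v, v⁻¹ * d ∈ E → ⁅b, d⁆ = ⁅b, v⁆ := by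
    intro b hb d _ v hz
    have h1 := h.comm b hb _ hz
    calc ⁅b, d⁆ = b * v * (v⁻¹ * d) * b⁻¹ * (v⁻¹ * d)⁻¹ * v⁻¹ := by
          rw [commutatorElement_def]; group
      _ = b * v * b⁻¹ * (b * (v⁻¹ * d)) * b⁻¹ * (v⁻¹ * d)⁻¹ * v⁻¹ := by group
      _ = b * v * b⁻¹ * ((v⁻¹ * d) * b) * b⁻¹ * (v⁻¹ * d)⁻¹ * v⁻¹ := by rw [h1]
      _ = ⁅b, v⁆ := by rw [commutatorElement_def]; group
  have hcover : ∀ t ∈ NS S D, ∃ e ∈ E, e⁻¹ * t ∈ D := fun t ht => by
    obtain ⟨e, he, het⟩ := hn.cover t ht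
    exact ⟨e, he, h.bad.mem_of_NS_centralizes hA (mul_mem (inv_mem (h.le he)) ht) het⟩
  have hmoved : ∀ b ∈ E, b ∉ D → ∀ d ∈ D, d ∉ E → ⁅b, d⁆ ∉ centralizer (Bad.L D : Set G) := by
    intro b hb hbD d hd hdE
    obtain ⟨v, hv, hz⟩ := hdec d hd
    rw [hcomm_eq b hb d hd v hz]
    refine hn.moved b hb (fun hc => hbD ((hcD b hb).1 hc)) v hv fun hc => hdE ?_
    have := mul_mem ((hcE v (om_le D hv)).1 hc) hz
    rwa [mul_inv_cancel_left] at this
  have hL : ∀ l ∈ Bad.L D, ∀ d ∈ D, ⁅l, d⁆ ∈ om D := by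
    haveI : Fact (Nat.Prime 2) := ⟨Nat.prime_two⟩
    have hT : ∀ t ∈ NS S D, ∀ d ∈ D, ⁅t, d⁆ ∈ om D := by
      intro t ht d hd
      obtain ⟨e, he, het⟩ := hcover t ht
      have h1 := hD _ het d hd
      have e0 : ⁅t, d⁆ = ⁅e, d⁆ := by
        calc ⁅t, d⁆ = e * ((e⁻¹ * t) * d) * (e⁻¹ * t)⁻¹ * e⁻¹ * d⁻¹ := by
              rw [commutatorElement_def]; group
          _ = e * (d * (e⁻¹ * t)) * (e⁻¹ * t)⁻¹ * e⁻¹ * d⁻¹ := by rw [h1]
          _ = ⁅e, d⁆ := by rw [commutatorElement_def]; group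
      obtain ⟨v, hv, hz⟩ := hdec d hd
      rw [e0, hcomm_eq e he d hd v hz]
      exact mul_mem (conj_mem_norm (normalizer_le_normalizer_om D (mem_inf.1 (h.le he)).2) hv) (inv_mem hv)
    intro l hl
    induction hl using closure_induction with
    | mem x hx =>
      obtain ⟨a, ha, hconj⟩ := h.bad.sylow.exists_conj_le hx.2.isPGroup (zpowers_le.2 hx.1)
      intro d hd
      have h1 := hT _ (hconj x (mem_zpowers x)) _ (conj_mem_norm ha hd)
      have h2 := conj_inv_mem_norm (normalizer_le_normalizer_om D ha) h1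
      convert h2 using 1
      simp only [commutatorElement_def]
      group
    | one => intro d _; simp
    | mul a b ha hb iha ihb =>
      intro d hd
      rw [show ⁅a * b, d⁆ = a * ⁅b, d⁆ * a⁻¹ * ⁅a, d⁆ by simp only [commutatorElement_def]; group]
      exact mul_mem (conj_mem_norm (normalizer_le_normalizer_om D (Bad.L_le D ha)) (ihb d hd)) (iha d hd)
    | inv a ha iha =>
      intro d hd
      rw [show ⁅a⁻¹, d⁆ = a⁻¹ * ⁅a, d⁆⁻¹ * a by simp only [commutatorElement_def]; group]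
      exact conj_inv_mem_norm (normalizer_le_normalizer_om D (Bad.L_le D ha)) (inv_mem (iha d hd))
  have hsq : ∀ d ∈ D, d * d ∈ centralizer (Bad.L D : Set G) := by
    intro d hd
    refine mem_centralizer_iff.2 fun l hl => ?_
    have hu := (mem_om hD).1 (hL l hl d hd)
    have h1 := hD _ hu.1 d hd
    refine (commute_iff_conj_eq.1 (?_ : l * (d * d) * l⁻¹ = d * d)).symm
    calc l * (d * d) * l⁻¹ = ⁅l, d⁆ * (d * ⁅l, d⁆) * d := by simp only [commutatorElement_def]; group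
      _ = ⁅l, d⁆ * (⁅l, d⁆ * d) * d := by rw [h1]
      _ = d * d := by rw [← mul_assoc ⁅l, d⁆ ⁅l, d⁆ d, hu.2, one_mul]
  refine ⟨q, hn.two_le, hcardE, ?_, hcardV, ?_, hcover, hdec, ?_, hL, hsq, ?_, hmoved, ?_, ?_⟩
  · refine le_antisymm (hcardE.le.trans' le_rfl |>.trans ?_) ?_
    · have h1 := card_inf_mul_relIndex (D ⊓ E) D
      have h3 : (D ⊓ E).relIndex (om D) ≤ (D ⊓ E).relIndex D :=
        relIndex_le_of_le_right (om_le D) (relIndex_ne _ _)
      have h4 := card_inf_mul_relIndex (D ⊓ E) (om D)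
      rw [show (D ⊓ E) ⊓ om D = om D ⊓ E by rw [inf_comm, ← inf_assoc, inf_eq_left.2 (om_le D)]] at h4
      rw [Nat.eq_of_mul_eq_mul_left Nat.card_pos (h4.trans hcardV.symm)] at h3
      rw [inf_eq_left.2 inf_le_left] at h1
      rw [← hcardE, ← h1]
      exact Nat.mul_le_mul_left _ h3
    · rw [hcardE]; exact h.card_le
  · rw [← e2]; exact hn.card_top
  · intro b hb hbD d hd hdb
    obtain ⟨v, hv, hz⟩ := hdec d hd
    have hvb : v * b = b * v := by
      calc v * b = d * (v⁻¹ * d)⁻¹ * b := by group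
        _ = d * (b * (v⁻¹ * d)⁻¹) := by rw [mul_assoc, h.comm _ (inv_mem hz) b hb]
        _ = (d * b) * (v⁻¹ * d)⁻¹ := by group
        _ = (b * d) * (v⁻¹ * d)⁻¹ := by rw [hdb]
        _ = b * v := by group
    have := mul_mem ((hcE v (om_le D hv)).1 (hn.free b hb (fun hc => hbD ((hcD b hb).1 hc)) v hv hvb)) hz
    rwa [mul_inv_cancel_left] at this
  · intro b hb hbD d hd hdE y hy e
    exact hmoved b hb hbD d hd hdE (e ▸ hsq y hy)
  · intro z hz t ht
    obtain ⟨e, he, het⟩ := hcover t ht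
    calc t * z = e * ((e⁻¹ * t) * z) := by group
      _ = (e * z) * (e⁻¹ * t) := by rw [hD _ het z (mem_inf.1 hz).1]; group
      _ = z * t := by rw [h.comm e he z (mem_inf.1 hz).2]; group
  · intro l hl hl' v hv hvE hvl
    exact hn.gen l hl hl' v hv ((hcE v (om_le D hv)).2 hvE) hvl

/-- A non-normal bad subgroup and its conjugate under `N_S(N_S(D))`. -/
structure Twin (S : Sylow 2 G) (D E : Subgroup G) (s : G) : Prop where
  bad : Bad S D
  mem : s ∈ (S : Subgroup G)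
  norm : s ∈ normalizer (NS S D : Set G)
  out : s ∉ normalizer (D : Set G)
  eq : E = cjS D s

theorem exists_twin (h : Bad S D) (hn : ¬ (S : Subgroup G) ≤ normalizer (D : Set G)) :
    ∃ E s, Twin S D E s := by
  obtain ⟨s, hs, hsT, hsn⟩ := exists_normalizes (le_refl (S : Subgroup G)) (inf_le_left : NS S D ≤ _)
    (fun e => hn fun x hx => (mem_inf.1 (e.ge hx : x ∈ NS S D)).2)
  exact ⟨_, s, h, hs, hsn, fun h' => hsT (mem_inf.2 ⟨hs, h'⟩), rfl⟩

namespace Twin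

variable {s : G} (h : Twin S D E s)
include h

omit [Finite G] in
theorem mem_normalizer : s ∈ normalizer ((S : Subgroup G) : Set G) := le_normalizer h.mem

theorem bad_E : Bad S E := h.eq ▸ h.bad.conj h.mem_normalizer

omit [Finite G] in
theorem NS_eq : NS S E = NS S D := by
  ext x
  rw [mem_inf, mem_inf, h.eq, cjS, ← map_normalizer_eq_of_bijective D (MulAut.conj s).bijective]
  constructor
  · rintro ⟨hx, y, hy, rfl⟩
    have hyS : y ∈ (S : Subgroup G) := by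
      have := mul_mem (mul_mem (inv_mem h.mem) hx) h.mem
      simpa [mul_assoc] using this
    exact mem_inf.1 (conj_mem_norm h.norm (mem_inf.2 ⟨hyS, hy⟩ : y ∈ NS S D))
  · intro hx
    have hx' : s⁻¹ * x * s ∈ NS S D := conj_inv_mem_norm h.norm (mem_inf.2 hx)
    exact ⟨hx.1, s⁻¹ * x * s, (mem_inf.1 hx').2, by simp [mul_assoc]⟩

theorem symm : Twin S E D s⁻¹ where
  bad := h.bad_E
  mem := inv_mem h.mem
  norm := by rw [h.NS_eq]; exact inv_mem h.norm
  out hc := h.out (by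
    rw [inv_mem_iff, h.eq, cjS, ← map_normalizer_eq_of_bijective D (MulAut.conj s).bijective] at hc
    obtain ⟨y, hy, e⟩ := hc
    have : y = s := by
      have e' : s * y * s⁻¹ = s := e
      rw [mul_inv_eq_iff_eq_mul] at e'
      exact mul_left_cancel e'
    exact this ▸ hy)
  eq := by
    rw [h.eq, cjS, cjS, map_map]
    conv_lhs => rw [← map_id D]
    congr 1
    ext x
    simp [mul_assoc]

omit [Finite G] in
theorem ne : E ≠ D := fun e => h.out (mem_norm_of_cjS_eq (h.eq ▸ e))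

theorem pair (hA : Inter G) : Pair S D E where
  bad := h.bad
  le := h.NS_eq ▸ h.bad_E.le_NS
  comm := h.bad_E.comm hA
  not_le hle := h.ne (eq_of_le_of_card_ge hle (by rw [h.eq, card_cjS]))
  cent x hx hc := h.bad_E.cent x (h.bad.le hx) hc
  card_le := by rw [h.eq, card_cjS]
  comm_mem e he d hd := by
    have heT : e ∈ NS S D := h.NS_eq ▸ h.bad_E.le_NS he
    have hdT : d ∈ NS S E := by rw [h.NS_eq]; exact h.bad.le_NS hd
    rw [commutatorElement_def]
    refine mem_inf.2 ⟨mul_mem (conj_mem_norm (mem_inf.1 heT).2 hd) (inv_mem hd), ?_⟩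
    rw [mul_assoc e d, mul_assoc e]
    refine mul_mem he ?_
    exact conj_mem_norm (mem_inf.1 hdT).2 (inv_mem he)

end Twin

end Cfsg.Agent.AbelianInter
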