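import Cfsg.Agent.Lib.AbelianInter.Soft

/-!
# The reduction to strongly closed abelian subgroups (owner: helper74)

`dihedral_or_classTwo`: in a nonabelian simple group with abelian Sylow 2-intersections, a Sylow 2-subgroup
is dihedral or of class at most 2, provided that this holds when `S` has a nontrivial abelian strongly closed
subgroup.
-/

set_option autoImplicit false
set_option linter.style.haveILetI false

namespace Cfsg.Agent.AbelianInter

open Subgroup
open scoped commutatorElement Pointwise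

universe u

variable {G : Type u} [Group G]

/-- Class at most 2, elementwise. -/
def ClassTwo (X : Subgroup G) : Prop := ∀ a ∈ X, ∀ b ∈ X, ∀ c ∈ X, ⁅⁅a, b⁆, c⁆ = 1

theorem ClassTwo.of_comm {X : Subgroup G} (h : Comm X) : ClassTwo X := fun a ha b hb c _ => by
  rw [commutatorElement_eq_one_iff_mul_comm.2 (h a ha b hb), commutatorElement_one_left]

theorem ClassTwo.commutator_le_center {X : Subgroup G} (h : ClassTwo X) :
    _root_.commutator ↥X ≤ Subgroup.center ↥X := by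
  rw [commutator_def, Subgroup.commutator_le]
  intro a _ b _
  refine mem_center_iff.2 fun c => Subtype.ext ?_
  exact (commutatorElement_eq_one_iff_mul_comm.1 (h a a.2 b b.2 c c.2)).symm

/-- Conjugate under `S`. -/
def SConj (S : Sylow 2 G) (A B : Subgroup G) : Prop := ∃ c ∈ (S : Subgroup G), B = cjS A c

theorem SConj.symm {S : Sylow 2 G} {A B : Subgroup G} (h : SConj S A B) : SConj S B A := by
  obtain ⟨c, hc, rfl⟩ := h
  exact ⟨c⁻¹, inv_mem hc, by rw [cjS_cjS, inv_mul_cancel, cjS_eq_self (one_mem _)]⟩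

theorem SConj.trans {S : Sylow 2 G} {A B C : Subgroup G} (h : SConj S A B) (h' : SConj S B C) :
    SConj S A C := by
  obtain ⟨c, hc, rfl⟩ := h
  obtain ⟨k, hk, rfl⟩ := h'
  exact ⟨k * c, mul_mem hk hc, cjS_cjS _ _ _⟩

theorem L_cjS_mem {D : Subgroup G} {n l : G} (hl : l ∈ Bad.L (cjS D n)) : n⁻¹ * l * n ∈ Bad.L D := by
  induction hl using closure_induction with
  | mem y hy =>
    obtain ⟨hyN, hy2⟩ := hy
    rw [cjS, ← map_normalizer_eq_of_bijective D (MulAut.conj n).bijective] at hyN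
    obtain ⟨z, hz, rfl⟩ := hyN
    refine subset_closure ⟨?_, ?_⟩
    · simpa [mul_assoc] using hz
    · have := hy2.conj n⁻¹
      rwa [inv_inv] at this
  | one => simp
  | mul a b _ _ iha ihb =>
    rw [show n⁻¹ * (a * b) * n = (n⁻¹ * a * n) * (n⁻¹ * b * n) by group]
    exact mul_mem iha ihb
  | inv a _ iha =>
    rw [show n⁻¹ * a⁻¹ * n = (n⁻¹ * a * n)⁻¹ by group]
    exact inv_mem iha

theorem ZD_cjS_mem {D : Subgroup G} {n z : G} (hz : z ∈ ZD D) : n * z * n⁻¹ ∈ ZD (cjS D n) := by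
  refine mem_inf.2 ⟨conj_mem_cjS n (mem_inf.1 hz).1, mem_centralizer_iff.2 fun l hl => ?_⟩
  have h1 := mem_centralizer_iff.1 (mem_inf.1 hz).2 _ (L_cjS_mem hl)
  calc l * (n * z * n⁻¹) = n * ((n⁻¹ * l * n) * z) * n⁻¹ := by group
    _ = n * (z * (n⁻¹ * l * n)) * n⁻¹ := by rw [h1]
    _ = n * z * n⁻¹ * l := by group

variable [Finite G]

/-- A subgroup containing the prime power order elements of `⟨x⟩` contains `x`. -/
theorem mem_of_forall_primePow (K : Subgroup G) : ∀ x : G,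
    (∀ y ∈ zpowers x, ∀ p : ℕ, p.Prime → IsPGroup p ↥(zpowers y) → y ∈ K) → x ∈ K := by
  intro x
  induction hn : orderOf x using Nat.strong_induction_on generalizing x with
  | _ n ih =>
    intro h
    by_cases h1 : n = 1
    · rw [h1, orderOf_eq_one_iff] at hn
      exact hn ▸ one_mem K
    obtain ⟨p, hp, hpn⟩ := Nat.exists_prime_and_dvd h1
    have hn0 : n ≠ 0 := hn ▸ (orderOf_pos x).ne'
    haveI : Fact p.Prime := ⟨hp⟩
    set e := n.factorization p with he
    set r := n / p ^ e with hr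
    have hsplit : p ^ e * r = n := Nat.ordProj_mul_ordCompl_eq_self n p
    have hco : (p ^ e).Coprime r := (Nat.coprime_ordCompl hp hn0).pow_left e
    have he0 : 0 < e := hp.factorization_pos_of_dvd hn0 hpn
    have hr0 : r ≠ 0 := fun hc => hn0 (by rw [← hsplit, hc, mul_zero])
    have hlt : r < n := by
      rw [← hsplit]
      exact lt_mul_of_one_lt_left (Nat.pos_of_ne_zero hr0) (Nat.one_lt_pow he0.ne' hp.one_lt)
    have h2 : x ^ p ^ e ∈ K := by
      refine ih r hlt _ ?_ fun y hy => h y (zpowers_le.2 (pow_mem (mem_zpowers x) _) hy)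
      rw [orderOf_pow' _ (pow_pos hp.pos e).ne', hn, ← hsplit, Nat.gcd_mul_right_left,
        Nat.mul_div_cancel_left _ (pow_pos hp.pos e)]
    have h3 : x ^ r ∈ K := by
      refine h _ (pow_mem (mem_zpowers x) r) p hp (IsPGroup.of_card (n := e) ?_)
      rw [Nat.card_zpowers, orderOf_pow' _ hr0, hn, ← hsplit, Nat.gcd_mul_left_left,
        Nat.mul_div_cancel _ (Nat.pos_of_ne_zero hr0)]
    obtain ⟨a, b, hab⟩ := Nat.isCoprime_iff_coprime.2 hco
    have hx : x = (x ^ p ^ e) ^ a * (x ^ r) ^ b := by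
      rw [← zpow_natCast x (p ^ e), ← zpow_mul, ← zpow_natCast x r, ← zpow_mul, ← zpow_add,
        mul_comm _ a, mul_comm _ b, hab, zpow_one]
    rw [hx]
    exact mul_mem (zpow_mem h2 a) (zpow_mem h3 b)

variable {S : Sylow 2 G}

/-- An element of odd prime power order fixing an `S`-class fixes a member of it. -/
theorem exists_fixed_conj {D : Subgroup G} {p : ℕ} (hp : p.Prime) (hp2 : p ≠ 2) {a : G}
    (hap : IsPGroup p ↥(zpowers a)) (haS : a ∈ normalizer ((S : Subgroup G) : Set G))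
    (hD : SConj S D (cjS D a)) : ∃ c ∈ (S : Subgroup G), a ∈ normalizer (cjS D c : Set G) := by
  haveI : Fact p.Prime := ⟨hp⟩
  haveI : Fact (Nat.Prime 2) := ⟨Nat.prime_two⟩
  letI actS : MulAction ↥(S : Subgroup G) (Subgroup G) :=
    { smul := fun c A => cjS A c
      one_smul := fun A => cjS_eq_self (one_mem _)
      mul_smul := fun c k A => (cjS_cjS A k c).symm }
  obtain ⟨k, hk⟩ := S.isPGroup'.card_orbit D
  let Ω : Set (Subgroup G) := MulAction.orbit ↥(S : Subgroup G) D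
  have hΩ : ∀ A, A ∈ Ω ↔ SConj S D A :=
    fun A => ⟨fun ⟨c, hc⟩ => ⟨c, c.2, hc.symm⟩, fun ⟨c, hc, e⟩ => ⟨⟨c, hc⟩, e.symm⟩⟩
  have hinv : ∀ b ∈ zpowers a, ∀ A ∈ Ω, cjS A b ∈ Ω := by
    intro b hb
    have key : ∀ n : ℕ, ∀ A ∈ Ω, cjS A (a ^ n) ∈ Ω := by
      intro n
      induction n with
      | zero => intro A hA; rw [pow_zero, cjS_eq_self (one_mem _)]; exact hA
      | succ n ih =>
        intro A hA
        obtain ⟨c, hc, e⟩ := (hΩ _).1 (ih A hA)
        rw [pow_succ', ← cjS_cjS, e, cjS_cjS, hΩ]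
        refine hD.trans ⟨a * c * a⁻¹, conj_mem_norm haS hc, ?_⟩
        rw [cjS_cjS]
        congr 1
        group
    obtain ⟨n, rfl⟩ := (isOfFinOrder_of_finite a).mem_powers_iff_mem_zpowers.2 hb
    exact key n
  letI actA : MulAction ↥(zpowers a) ↥Ω :=
    { smul := fun b A => ⟨cjS A.1 b, hinv b b.2 A.1 A.2⟩
      one_smul := fun A => Subtype.ext (cjS_eq_self (one_mem _))
      mul_smul := fun b b' A => Subtype.ext (cjS_cjS A.1 b' b).symm }
  have hnd : ¬ p ∣ Nat.card ↥Ω := by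
    show ¬ p ∣ Nat.card ↥(MulAction.orbit ↥(S : Subgroup G) D)
    rw [hk]
    exact fun hc => hp2 ((Nat.prime_dvd_prime_iff_eq hp Nat.prime_two).1 (hp.dvd_of_dvd_pow hc))
  obtain ⟨⟨A, hA⟩, hfix⟩ := hap.nonempty_fixed_point_of_prime_not_dvd_card _ hnd
  obtain ⟨c, hc, rfl⟩ := (hΩ A).1 hA
  exact ⟨c, hc, mem_norm_of_cjS_eq (congrArg Subtype.val (hfix ⟨a, mem_zpowers a⟩))⟩

theorem Core.node {D E : Subgroup G} {t d l : G} (h : Core S D E t d l) :
    ∃ M, Node S D d (S : Subgroup G) M :=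
  h.soft.node_exists _ le_rfl h.soft.le h.pair.bad.ne_top

theorem Core.orbit_closure {D E : Subgroup G} {t d l : G} (h : Core S D E t d l) {k x : G}
    (hk : k ∈ Bad.L D) (hx : x ∈ D) : ⁅k, x⁆ ∈ closure ({t, d} : Set G) := by
  have hmem : ∀ j ∈ Bad.L D, j * t * j⁻¹ ∈ closure ({t, d} : Set G) := fun j hj => by
    rcases h.orbit j hj with e | e | e <;> rw [e]
    · exact subset_closure (.inl rfl)
    · exact subset_closure (.inr rfl)
    · exact mul_mem (subset_closure (.inr rfl)) (subset_closure (.inl rfl))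
  have hd : k * d * k⁻¹ ∈ closure ({t, d} : Set G) := by
    have := hmem (k * l) (mul_mem hk h.l_mem)
    rwa [show k * l * t * (k * l)⁻¹ = k * (l * t * l⁻¹) * k⁻¹ by group, ← h.d_eq] at this
  obtain ⟨v, hv, hvz⟩ := h.decomp x hx
  have hcl : v ∈ closure ({t, d} : Set G) ∧ k * v * k⁻¹ ∈ closure ({t, d} : Set G) := by
    rcases hv with rfl | rfl | rfl | rfl
    · simp
    · exact ⟨subset_closure (.inl rfl), hmem k hk⟩
    · exact ⟨subset_closure (.inr rfl), hd⟩
    · refine ⟨mul_mem (subset_closure (.inr rfl)) (subset_closure (.inl rfl)), ?_⟩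
      rw [show k * (d * t) * k⁻¹ = (k * d * k⁻¹) * (k * t * k⁻¹) by group]
      exact mul_mem hd (hmem k hk)
  have hz := mem_centralizer_iff.1 (mem_inf.1 hvz).2 k hk
  have e : ⁅k, x⁆ = (k * v * k⁻¹) * v⁻¹ := by
    calc ⁅k, x⁆ = k * v * (v⁻¹ * x) * k⁻¹ * x⁻¹ := by rw [commutatorElement_def]; group
      _ = k * v * ((v⁻¹ * x) * k) * k⁻¹ * (k⁻¹ * x⁻¹) := by group
      _ = k * v * (k * (v⁻¹ * x)) * k⁻¹ * (k⁻¹ * x⁻¹) := by rw [hz]
      _ = k * v * (k * (v⁻¹ * x) * k⁻¹) * k⁻¹ * x⁻¹ := by group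
      _ = k * v * ((v⁻¹ * x) * k * k⁻¹) * k⁻¹ * x⁻¹ := by rw [hz]
      _ = k * v * ((v⁻¹ * x) * k⁻¹) * x⁻¹ := by group
      _ = k * v * (k⁻¹ * (v⁻¹ * x)) * x⁻¹ := by
          rw [((show Commute k (v⁻¹ * x) from hz).inv_left).symm.eq]
      _ = _ := by group
  rw [e]
  exact mul_mem hcl.2 (inv_mem hcl.1)

section main

variable (hA : Inter G) (hsc : ∀ A : Subgroup G, A ≠ ⊥ → IsMulCommutative ↥A →
  Cfsg.IsStronglyClosed A (S : Subgroup G) → ClassTwo (S : Subgroup G))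
include hA hsc

/-- All bad subgroups normal in `S`. -/
theorem classTwo_of_all_normal
    (hall : ∀ D, Bad S D → (S : Subgroup G) ≤ normalizer (D : Set G)) : ClassTwo (S : Subgroup G) := by
  haveI : Fact (Nat.Prime 2) := ⟨Nat.prime_two⟩
  by_cases hex : ∃ D, Bad S D
  swap
  · by_cases hS : (S : Subgroup G) = ⊥
    · exact ClassTwo.of_comm fun a ha b hb => by rw [hS, mem_bot] at ha hb; rw [ha, hb]
    haveI : Nontrivial ↥(S : Subgroup G) := nontrivial_iff_ne_bot _ |>.2 hS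
    haveI := S.isPGroup'.center_nontrivial
    set Z := (Subgroup.center ↥(S : Subgroup G)).map (S : Subgroup G).subtype with hZ
    have hmem : ∀ x, x ∈ Z ↔ x ∈ (S : Subgroup G) ∧ ∀ y ∈ (S : Subgroup G), y * x = x * y := fun x => by
      constructor
      · rintro ⟨⟨x, hx⟩, hc, rfl⟩
        exact ⟨hx, fun y hy => congrArg Subtype.val (mem_center_iff.1 hc ⟨y, hy⟩)⟩
      · rintro ⟨hx, hc⟩
        exact ⟨⟨x, hx⟩, mem_center_iff.2 fun y => Subtype.ext (hc y y.2), rfl⟩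
    refine hsc Z ?_ ⟨⟨fun a b => Subtype.ext (((hmem _).1 b.2).2 a ((hmem _).1 a.2).1)⟩⟩ ?_
    · intro e
      rw [hZ, Subgroup.map_eq_bot_iff_of_injective _ (S : Subgroup G).subtype_injective] at e
      exact (nontrivial_iff_ne_bot _).1 inferInstance e
    · refine isStronglyClosed_of_family S (fun x hx => ((hmem x).1 hx).1) (fun n hn x hx => ?_)
        fun D hD => absurd ⟨D, hD⟩ hex
      obtain ⟨hxS, hxc⟩ := (hmem x).1 hx
      refine (hmem _).2 ⟨conj_mem_norm hn hxS, fun y hy => ?_⟩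
      have h1 := hxc _ (conj_inv_mem_norm hn hy)
      calc y * (n * x * n⁻¹) = n * ((n⁻¹ * y * n) * x) * n⁻¹ := by group
        _ = n * (x * (n⁻¹ * y * n)) * n⁻¹ := by rw [h1]
        _ = n * x * n⁻¹ * y := by group
  obtain ⟨D₀, hD₀⟩ := hex
  by_cases hone : ∀ D, Bad S D → D = D₀
  · refine hsc D₀ (fun e => hD₀.ne_top (le_antisymm hD₀.le fun x hx => hD₀.cent x hx fun d hd => ?_))
      ⟨⟨fun a b => Subtype.ext (hD₀.comm hA a a.2 b b.2)⟩⟩ ?_
    · rw [e, mem_bot] at hd; simp [hd]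
    · refine isStronglyClosed_of_family S hD₀.le (fun n hn x hx => ?_) fun D hD g hg x hx _ => ?_
      · exact hone _ (hD₀.conj hn) ▸ conj_mem_cjS n hx
      · exact hone D hD ▸ conj_mem_norm hg hx
  push Not at hone
  obtain ⟨D₁, hD₁, hne⟩ := hone
  obtain ⟨D, D', h, h', hne, hle⟩ : ∃ D D', Bad S D ∧ Bad S D' ∧ D ≠ D' ∧ Nat.card ↥D ≤ Nat.card ↥D' := by
    rcases le_total (Nat.card ↥D₀) (Nat.card ↥D₁) with hle | hle
    · exact ⟨_, _, hD₀, hD₁, hne.symm, hle⟩
    · exact ⟨_, _, hD₁, hD₀, hne, hle⟩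
  have hD := hall D h
  have hD' := hall D' h'
  have hP : Pair S D D' := by
    refine ⟨h, le_inf h'.le (h'.le.trans hD), h'.comm hA, fun hle' => hne ?_,
      fun x hx hc => h'.cent x (h.le hx) hc, hle, fun e he d hd => mem_inf.2 ⟨?_, ?_⟩⟩
    · exact (eq_of_le_of_card_ge hle' hle).symm
    · exact mul_mem (conj_mem_norm (hD (h'.le he)) hd) (inv_mem hd)
    · rw [show ⁅e, d⁆ = e * (d * e⁻¹ * d⁻¹) by rw [commutatorElement_def]; group]
      exact mul_mem he (conj_mem_norm (hD' (h.le hd)) (inv_mem he))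
  obtain ⟨q, hn⟩ := hP.natural hA
  have hcen : ∀ z ∈ D ⊓ D', ∀ x ∈ (S : Subgroup G), x * z = z * x := fun z hz x hx =>
    hn.central z hz x (mem_inf.2 ⟨hx, hD hx⟩)
  have hgen : ∀ x ∈ (S : Subgroup G), ∀ y ∈ (S : Subgroup G),
      (∀ e ∈ D', ⁅e, y⁆ ∈ D ⊓ D') → (∀ e ∈ D, ⁅e, y⁆ ∈ D ⊓ D') → ⁅x, y⁆ ∈ D ⊓ D' := by
    intro x hx y _ h1 h2
    obtain ⟨e, he, hex⟩ := hn.cover x (mem_inf.2 ⟨hx, hD hx⟩)
    have e0 : ⁅x, y⁆ = e * ⁅e⁻¹ * x, y⁆ * e⁻¹ * ⁅e, y⁆ := by simp only [commutatorElement_def]; group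
    rw [e0, hcen _ (h2 _ hex) e (h'.le he), mul_inv_cancel_right]
    exact mul_mem (h2 _ hex) (h1 _ he)
  have hsymm : ∀ {x y : G}, ⁅x, y⁆ ∈ D ⊓ D' → ⁅y, x⁆ ∈ D ⊓ D' := fun {x y} hxy => by
    rw [← commutatorElement_inv]; exact inv_mem hxy
  intro a ha b hb c hc
  have hab : ⁅a, b⁆ ∈ D ⊓ D' := by
    refine hgen a ha b hb (fun e he => hsymm (hgen b hb e (h'.le he) ?_ ?_))
      (fun e he => hsymm (hgen b hb e (h.le he) ?_ ?_))
    · exact fun k hk => by
        rw [commutatorElement_eq_one_iff_mul_comm.2 (h'.comm hA k hk e he)]; exact one_mem _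
    · exact fun k hk => hsymm (hP.comm_mem e he k hk)
    · exact fun k hk => hP.comm_mem k hk e he
    · exact fun k hk => by
        rw [commutatorElement_eq_one_iff_mul_comm.2 (h.comm hA k hk e he)]; exact one_mem _
  exact commutatorElement_eq_one_iff_mul_comm.2 (hcen _ hab c hc).symm

/-- All bad subgroups with a `Core`. -/
theorem dihedral_or_classTwo_of_cores [IsSimpleGroup G] (hG : ¬ IsMulCommutative G)
    (hall : ∀ D, Bad S D → ∃ E t d l, Core S D E t d l) (hex : ∃ D, Bad S D) :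
    (∃ m : ℕ, 2 ≤ m ∧ Nonempty (↥(S : Subgroup G) ≃* DihedralGroup m)) ∨ ClassTwo (S : Subgroup G) := by
  haveI : Fact (Nat.Prime 2) := ⟨Nat.prime_two⟩
  by_cases hcl : ClassTwo (S : Subgroup G)
  · exact .inr hcl
  refine .inl ?_
  obtain ⟨D₀, hD₀⟩ := hex
  -- at most two classes
  have htwo : ∀ A B C, Bad S A → Bad S B → Bad S C → SConj S A B ∨ SConj S A C ∨ SConj S B C := by
    intro A B C hA' hB hC
    obtain ⟨EA, tA, dA, lA, cA⟩ := hall A hA'
    obtain ⟨EB, tB, dB, lB, cB⟩ := hall B hB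
    obtain ⟨EC, tC, dC, lC, cC⟩ := hall C hC
    obtain ⟨MA, nA⟩ := cA.node
    obtain ⟨MB, nB⟩ := cB.node
    obtain ⟨MC, nC⟩ := cC.node
    by_cases hAB : MA = MB
    · exact .inl (conj_of_node _ MA A B dA dB cA.soft cB.soft nA (hAB ▸ nB))
    by_cases hAC : MC = MA
    · exact .inr (.inl (conj_of_node _ MA A C dA dC cA.soft cC.soft nA (hAC ▸ nC)))
    by_cases hBC : MC = MB
    · exact .inr (.inr (conj_of_node _ MB B C dB dC cB.soft cC.soft nB (hBC ▸ nC)))
    exact absurd (class_two_of_three cA.soft cB.soft cC.soft nA nB nC hAB hAC hBC) hcl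
  -- `W = 1`
  let W : Subgroup G :=
    { carrier := {x | x ∈ (S : Subgroup G) ∧ ∀ D, Bad S D → x ∈ ZD D}
      one_mem' := ⟨one_mem _, fun D _ => one_mem _⟩
      mul_mem' := fun hx hy => ⟨mul_mem hx.1 hy.1, fun D hD => mul_mem (hx.2 D hD) (hy.2 D hD)⟩
      inv_mem' := fun hx => ⟨inv_mem hx.1, fun D hD => inv_mem (hx.2 D hD)⟩ }
  have hWN : ∀ n ∈ normalizer ((S : Subgroup G) : Set G), ∀ x ∈ W, n * x * n⁻¹ ∈ W := fun n hn x hx => by
    refine ⟨conj_mem_norm hn hx.1, fun D hD => ?_⟩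
    have := ZD_cjS_mem (n := n) (hx.2 _ (hD.conj (inv_mem hn)))
    rwa [cjS_cjS, mul_inv_cancel, cjS_eq_self (one_mem _)] at this
  have hW : W = ⊥ := by
    by_contra hne
    refine hcl (hsc W hne ⟨⟨fun a b => Subtype.ext ?_⟩⟩ ?_)
    · exact hD₀.comm hA a (mem_inf.1 (a.2.2 D₀ hD₀)).1 b (mem_inf.1 (b.2.2 D₀ hD₀)).1
    · refine isStronglyClosed_of_family S (fun x hx => hx.1) hWN fun D hD g hg x _ hxW => ?_
      obtain ⟨k, hk, n, hn, hnS, rfl⟩ := hD.frattini hA hg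
      have h1 := hWN n hnS x hxW
      have h2 := mem_centralizer_iff.1 (mem_inf.1 (h1.2 D hD)).2 k hk
      rwa [show k * n * x * (k * n)⁻¹ = k * (n * x * n⁻¹) * k⁻¹ by group, h2, mul_inv_cancel_right]
  -- odd elements of `N(S)` centralise `S`
  have hclass : ∀ D, Bad S D → ∀ a ∈ normalizer ((S : Subgroup G) : Set G), Odd (orderOf a) →
      SConj S D (cjS D a) := by
    intro D hD a haS hodd
    set N0 := normalizer ((S : Subgroup G) : Set G) ⊓ normalizer (D : Set G)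
    have hset : (((S : Subgroup G) ⊔ N0 : Subgroup G) : Set G) = ((S : Subgroup G) : Set G) * (N0 : Set G) :=
      coe_mul_of_right_le_normalizer_left _ N0 inf_le_left
    have hK : ∀ b ∈ normalizer ((S : Subgroup G) : Set G), SConj S D (cjS D b) →
        b ∈ (S : Subgroup G) ⊔ N0 := fun b hb ⟨c, hc, e⟩ => by
      have h1 : c⁻¹ * b ∈ N0 := mem_inf.2 ⟨mul_mem (inv_mem (le_normalizer hc)) hb,
        mem_norm_of_cjS_eq (by rw [← cjS_cjS, e, cjS_cjS, inv_mul_cancel, cjS_eq_self (one_mem _)])⟩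
      have := mul_mem (mem_sup_left (T := N0) hc) (mem_sup_right h1)
      rwa [mul_inv_cancel_left] at this
    have hK' : ∀ b ∈ (S : Subgroup G) ⊔ N0, SConj S D (cjS D b) := fun b hb => by
      have hb' : b ∈ (((S : Subgroup G) ⊔ N0 : Subgroup G) : Set G) := hb
      rw [hset] at hb'
      obtain ⟨c, hc, n, hn, rfl⟩ := hb'
      exact ⟨c, hc, by rw [← cjS_cjS, cjS_eq_self (mem_inf.1 hn).2]⟩
    rcases htwo D (cjS D a) (cjS D (a * a)) hD (hD.conj haS) (hD.conj (mul_mem haS haS)) with e | e | e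
    · exact e
    · exact hK' a (BSW.mem_of_odd_of_sq_mem (hK _ (mul_mem haS haS) e) hodd)
    · obtain ⟨c, hc, e'⟩ := e
      refine ⟨a⁻¹ * c * a, conj_inv_mem_norm haS hc, ?_⟩
      rw [← cjS_cjS, cjS_cjS D a c] at e'
      have := congrArg (fun A => cjS A a⁻¹) e'
      simp only [cjS_cjS, inv_mul_cancel_left] at this
      rw [this]
      congr 1
      group
  have hodd : ∀ p : ℕ, p.Prime → p ≠ 2 → ∀ a : G, IsPGroup p ↥(zpowers a) →
      a ∈ normalizer ((S : Subgroup G) : Set G) → a ∈ centralizer ((S : Subgroup G) : Set G) := by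
    intro p hp hp2 a hap haS
    haveI : Fact p.Prime := ⟨hp⟩
    have ho : Odd (orderOf a) := by
      obtain ⟨n, hn⟩ := IsPGroup.iff_card.1 hap
      rw [Nat.card_zpowers] at hn
      rw [hn]
      exact (hp.odd_of_ne_two hp2).pow
    refine mem_centralizer_iff.2 fun x hx => ?_
    have hxW : ⁅a, x⁆ ∈ W := by
      refine ⟨?_, fun D hD => ?_⟩
      · rw [commutatorElement_def]
        exact mul_mem (conj_mem_norm haS hx) (inv_mem hx)
      obtain ⟨c, hc, hac⟩ := exists_fixed_conj hp hp2 hap haS (hclass D hD a haS ho)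
      obtain ⟨E, t, d, l, hC⟩ := hall _ (hD.conj (le_normalizer hc))
      have h1 := hC.comm_mem hp hp2 hap haS hac c hc
      have h2 := hC.comm_mem hp hp2 hap haS hac (c * x) (mul_mem hc hx)
      have h3 := ZD_cjS_mem (n := c⁻¹) (mul_mem (inv_mem h1) h2)
      rw [cjS_cjS, inv_mul_cancel, cjS_eq_self (one_mem _), inv_inv] at h3
      convert h3 using 1
      simp only [commutatorElement_def]
      group
    rw [hW, mem_bot, commutatorElement_eq_one_iff_mul_comm] at hxW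
    exact hxW.symm
  have hinner : ∀ n ∈ normalizer ((S : Subgroup G) : Set G), ∃ c ∈ (S : Subgroup G),
      ∀ x ∈ (S : Subgroup G), n * x * n⁻¹ = c * x * c⁻¹ := by
    intro n hn
    set C := centralizer ((S : Subgroup G) : Set G)
    have hmem : n ∈ (S : Subgroup G) ⊔ C := mem_of_forall_primePow _ n fun y hy p hp hpy => by
      have hyN := zpowers_le.2 hn hy
      by_cases hp2 : p = 2
      · subst hp2
        exact mem_sup_left (mem_of_twoElem (twoElem_of_mem hpy (mem_zpowers y)) hyN)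
      · exact mem_sup_right (hodd p hp hp2 y hpy hyN)
    have hmem' : n ∈ (((S : Subgroup G) ⊔ C : Subgroup G) : Set G) := hmem
    rw [coe_mul_of_right_le_normalizer_left _ C (centralizer_le_normalizer _)] at hmem'
    obtain ⟨c, hc, z, hz, rfl⟩ := hmem'
    refine ⟨c, hc, fun x hx => ?_⟩
    calc c * z * x * (c * z)⁻¹ = c * (z * x) * z⁻¹ * c⁻¹ := by group
      _ = c * (x * z) * z⁻¹ * c⁻¹ := by rw [mem_centralizer_iff.1 hz x hx]
      _ = c * x * c⁻¹ := by group
  -- two representatives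
  obtain ⟨D₁, hD₁, D₂, hD₂, hrep⟩ : ∃ D₁, Bad S D₁ ∧ ∃ D₂, Bad S D₂ ∧
      ∀ D, Bad S D → SConj S D₁ D ∨ SConj S D₂ D := by
    by_cases hone : ∀ D, Bad S D → SConj S D₀ D
    · exact ⟨D₀, hD₀, D₀, hD₀, fun D hD => .inl (hone D hD)⟩
    push Not at hone
    obtain ⟨D₁, hD₁, hne⟩ := hone
    refine ⟨D₀, hD₀, D₁, hD₁, fun D hD => ?_⟩
    rcases htwo D₀ D₁ D hD₀ hD₁ hD with e | e | e
    exacts [absurd e hne, .inl e, .inr e]
  obtain ⟨E₁, t₁, d₁, l₁, c₁⟩ := hall D₁ hD₁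
  obtain ⟨E₂, t₂, d₂, l₂, c₂⟩ := hall D₂ hD₂
  -- focal subgroup
  set F := closure ({d₁, d₂} : Set G) with hF
  set S' := ⁅(S : Subgroup G), (S : Subgroup G)⁆ with hS'
  have hd₁S : d₁ ∈ (S : Subgroup G) := c₁.soft.le c₁.soft.mem
  have hd₂S : d₂ ∈ (S : Subgroup G) := c₂.soft.le c₂.soft.mem
  have hFS : F ≤ (S : Subgroup G) := (closure_le _).2 (by rintro x (rfl | rfl) <;> assumption)
  have hS'S : S' ≤ (S : Subgroup G) := Subgroup.commutator_le.2 fun a ha b hb => comm_mem_of_mem ha hb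
  have hnormal : ∀ c ∈ (S : Subgroup G), ∀ x ∈ S' ⊔ F, c * x * c⁻¹ ∈ S' ⊔ F := fun c hc x hx => by
    have h1 : ⁅c, x⁆ ∈ S' := commutator_mem_commutator hc (sup_le hS'S hFS hx)
    have := mul_mem (mem_sup_left (T := F) h1) hx
    rwa [show ⁅c, x⁆ * x = c * x * c⁻¹ by rw [commutatorElement_def]; group] at this
  have hmove : ∀ D E : Subgroup G, ∀ t d l : G, Core S D E t d l → d ∈ S' ⊔ F → ∀ g ∈ normalizer (D : Set G),
      ∀ x ∈ D, x⁻¹ * (g * x * g⁻¹) ∈ S' ⊔ F := by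
    intro D E t d l hC hd g hg x hx
    obtain ⟨k, hk, n, hn, hnS, rfl⟩ := hC.pair.bad.frattini hA hg
    obtain ⟨c, hc, hcx⟩ := hinner n hnS
    have hx' : n * x * n⁻¹ ∈ D := conj_mem_norm hn hx
    have h1 : x⁻¹ * (n * x * n⁻¹) ∈ S' ⊔ F := by
      rw [hcx x (hC.soft.le hx), show x⁻¹ * (c * x * c⁻¹) = ⁅x⁻¹, c⁆ by rw [commutatorElement_def]; group]
      exact mem_sup_left (commutator_mem_commutator (inv_mem (hC.soft.le hx)) hc)
    obtain ⟨e, he, heD⟩ := hC.exists_outside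
    have ht : t ∈ S' ⊔ F := by
      refine mem_sup_left ?_
      rw [← hC.comm_eq e (hC.pair.le he) heD d hC.soft.mem hC.d_not]
      exact commutator_mem_commutator (mem_inf.1 (hC.pair.le he)).1 (hC.soft.le hC.soft.mem)
    have h2 : ⁅k, n * x * n⁻¹⁆ ∈ S' ⊔ F := (closure_le (S' ⊔ F)).2 (by
      rintro y (rfl | rfl)
      · exact ht
      · exact hd) (hC.orbit_closure hk hx')
    have h3 := hC.soft.comm _ (inv_mem hx') _ (conj_mem_norm (Bad.L_le D hk) hx')
    have := mul_mem h1 h2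
    convert this using 1
    rw [commutatorElement_def, mul_assoc x⁻¹, ← h3]
    group
  have hle : (S : Subgroup G) ≤ S' ⊔ F := by
    refine sylow_le_of_family hG S _ (fun n hn x hx => ?_) fun D hD g hg x hx => ?_
    · obtain ⟨c, hc, hcx⟩ := hinner n hn
      rw [hcx x hx, show x⁻¹ * (c * x * c⁻¹) = ⁅x⁻¹, c⁆ by rw [commutatorElement_def]; group]
      exact mem_sup_left (commutator_mem_commutator (inv_mem hx) hc)
    · suffices ∀ D₀ E t d l, Core S D₀ E t d l → d ∈ S' ⊔ F → SConj S D₀ D →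
          x⁻¹ * (g * x * g⁻¹) ∈ S' ⊔ F by
        rcases hrep D hD with e | e
        · exact this D₁ E₁ t₁ d₁ l₁ c₁ (mem_sup_right (subset_closure (.inl rfl))) e
        · exact this D₂ E₂ t₂ d₂ l₂ c₂ (mem_sup_right (subset_closure (.inr rfl))) e
      intro B E t d l hC hd ⟨c, hc, e⟩
      subst e
      rw [cjS, ← map_normalizer_eq_of_bijective B (MulAut.conj c).bijective] at hg
      obtain ⟨g₀, hg₀, rfl⟩ := hg
      obtain ⟨y, hy, rfl⟩ := hx
      have h1 := hnormal c hc _ (hmove B E t d l hC hd g₀ hg₀ y hy)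
      convert h1 using 1
      simp only [MulEquiv.coe_toMonoidHom, MulAut.conj_apply]
      group
  have hSF : (S : Subgroup G) = F := by
    refine le_antisymm ?_ hFS
    rw [← subgroupOf_eq_top]
    refine PGroup.eq_top_of_sup_frattini (eq_top_iff.2 fun x _ => ?_)
    have h1 : S' ⊔ F ≤ ((F.subgroupOf (S : Subgroup G)) ⊔ frattini ↥(S : Subgroup G)).map
        (S : Subgroup G).subtype := sup_le (Subgroup.commutator_le.2 fun a ha b hb =>
          ⟨⁅⟨a, ha⟩, (⟨b, hb⟩ : ↥(S : Subgroup G))⁆, mem_sup_right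
            (PGroup.commutatorElement_mem_frattini S.isPGroup' _ _), rfl⟩)
        fun y hy => ⟨⟨y, hFS hy⟩, mem_sup_left hy, rfl⟩
    obtain ⟨y, hy, e⟩ := h1 (hle x.2)
    exact Subtype.ext e ▸ hy
  -- dihedral
  have hne : d₁ ≠ d₂ := fun e => hcl (ClassTwo.of_comm fun a ha b hb => by
    rw [hSF, hF, e, Set.pair_eq_singleton, ← zpowers_eq_closure] at ha hb
    obtain ⟨i, rfl⟩ := mem_zpowers_iff.1 ha
    obtain ⟨j, rfl⟩ := mem_zpowers_iff.1 hb
    exact (Commute.zpow_zpow_self d₂ i j).eq)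
  have hord : ∀ {D E : Subgroup G} {t d l : G}, Core S D E t d l → orderOf d = 2 := fun {D E t d l} hC =>
    orderOf_eq_prime (by rw [pow_two, hC.soft.sq]) fun e => hC.d_not (e ▸ one_mem E)
  refine ⟨orderOf (d₁ * d₂), ?_, ⟨(MulEquiv.subgroupCongr hSF).trans
    (Involution.dihedralEquiv (hord c₁) (hord c₂) hne).symm⟩⟩
  have h1 := orderOf_pos (d₁ * d₂)
  have h2 : orderOf (d₁ * d₂) ≠ 1 := fun e => hne (by
    rw [orderOf_eq_one_iff, mul_eq_one_iff_eq_inv, inv_eq_of_mul_eq_one_right c₂.soft.sq] at e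
    exact e)
  omega

/-- The conclusion, given the case of a strongly closed abelian subgroup. -/
theorem dihedral_or_classTwo [IsSimpleGroup G] (hG : ¬ IsMulCommutative G) :
    (∃ m : ℕ, 2 ≤ m ∧ Nonempty (↥(S : Subgroup G) ≃* DihedralGroup m)) ∨ ClassTwo (S : Subgroup G) := by
  by_cases hall : ∀ D, Bad S D → (S : Subgroup G) ≤ normalizer (D : Set G)
  · exact .inr (classTwo_of_all_normal hA hsc hall)
  push Not at hall
  obtain ⟨D₀, hD₀, hn₀⟩ := hall
  have hcore : ∀ D, Bad S D → ¬ (S : Subgroup G) ≤ normalizer (D : Set G) → ∃ E t d l, Core S D E t d l := by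
    intro D hD hn
    obtain ⟨E, s, h⟩ := exists_twin hD hn
    obtain ⟨q, hq⟩ := (h.pair hA).natural hA
    have hq2 : q = 2 := by
      refine le_antisymm ?_ hq.two_le
      by_contra hlt
      exact (exists_big h hA hq (by omega)).false_of_simple hA hG
    subst hq2
    obtain ⟨t, d, l, hC⟩ := exists_core h hA hq
    exact ⟨E, t, d, l, hC⟩
  obtain ⟨E₀, t₀, d₀, l₀, c₀⟩ := hcore D₀ hD₀ hn₀
  refine dihedral_or_classTwo_of_cores hA hsc hG (fun D hD => hcore D hD fun hn => ?_) ⟨D₀, hD₀⟩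
  exact c₀.false_of_normal hA hD hn hn₀

end main

end Cfsg.Agent.AbelianInter
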