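import Cfsg.Agent.Lib.AbelianInter.Chain
import Cfsg.Agent.Lib.Signalizer.PAction
import Cfsg.Agent.Lib.BSW.Local

/-!
# A non-normal bad subgroup with `q = 2` (owner: helper74)

* `exists_core` : it gives a `Soft` subgroup `D`, with `t` the commutator involution and `d = l t l⁻¹`
* `Core.comm_mem` : an element of odd prime power order of `N(S) ∩ N(D)` centralises `S` modulo `C_D(L)`
* `Core.false_of_normal` : there is no normal bad subgroup besides it
-/

set_option autoImplicit false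
set_option linter.style.haveILetI false

namespace Cfsg.Agent.AbelianInter

open Subgroup
open scoped commutatorElement

universe u

variable {G : Type u} [Group G]

/-- The elements of `D` centralised by the automiser. -/
abbrev ZD (D : Subgroup G) : Subgroup G := D ⊓ centralizer (Bad.L D : Set G)

theorem conj_mem_ZD {D : Subgroup G} {g z : G} (hg : g ∈ normalizer (D : Set G)) (hz : z ∈ ZD D) :
    g * z * g⁻¹ ∈ ZD D := by
  refine mem_inf.2 ⟨conj_mem_norm hg (mem_inf.1 hz).1, mem_centralizer_iff.2 fun l hl => ?_⟩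
  have h1 := mem_centralizer_iff.1 (mem_inf.1 hz).2 _ (Bad.L_conj (inv_mem hg) hl)
  rw [inv_inv] at h1
  calc l * (g * z * g⁻¹) = g * ((g⁻¹ * l * g) * z) * g⁻¹ := by group
    _ = g * (z * (g⁻¹ * l * g)) * g⁻¹ := by rw [h1]
    _ = g * z * g⁻¹ * l := by group

/-- The data of a non-normal bad subgroup with `q = 2`. -/
structure Core (S : Sylow 2 G) (D E : Subgroup G) (t d l : G) : Prop where
  pair : Pair S D E
  nat : PairNat S D E 2
  soft : Soft S D d
  t_mem : t ∈ D ⊓ E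
  t_sq : t * t = 1
  t_moved : t ∉ centralizer (Bad.L D : Set G)
  comm_T : ∀ a ∈ NS S D, ∀ b ∈ NS S D, ⁅a, b⁆ = 1 ∨ ⁅a, b⁆ = t
  comm_eq : ∀ b ∈ NS S D, b ∉ D → ∀ v ∈ D, v ∉ E → ⁅b, v⁆ = t
  l_mem : l ∈ Bad.L D
  d_eq : d = l * t * l⁻¹
  d_not : d ∉ E
  orbit : ∀ k ∈ Bad.L D, k * t * k⁻¹ = t ∨ k * t * k⁻¹ = d ∨ k * t * k⁻¹ = d * t
  decomp : ∀ x ∈ D, ∃ v, (v = 1 ∨ v = t ∨ v = d ∨ v = d * t) ∧ v⁻¹ * x ∈ ZD D

variable [Finite G] {S : Sylow 2 G} {D E : Subgroup G} {s : G}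

theorem exists_core (h : Twin S D E s) (hA : Inter G) (hn : PairNat S D E 2) :
    ∃ t d l, Core S D E t d l := by
  haveI : Fact (Nat.Prime 2) := ⟨Nat.prime_two⟩
  have hP := h.pair hA
  have hD := h.bad.comm hA
  have hET : E ≤ NS S D := hP.le
  have hDT : D ≤ NS S D := h.bad.le_NS
  have hidxD : (D ⊓ E).relIndex D = 2 := by
    have h1 := card_inf_mul_relIndex (D ⊓ E) D
    rw [inf_eq_left.2 inf_le_left, ← hn.card_D] at h1
    exact Nat.eq_of_mul_eq_mul_left Nat.card_pos h1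
  have hidxE : (D ⊓ E).relIndex E = 2 := by
    have h1 := card_inf_mul_relIndex (D ⊓ E) E
    rw [inf_eq_left.2 inf_le_right, ← hn.card_E] at h1
    exact Nat.eq_of_mul_eq_mul_left Nat.card_pos h1
  have hmulE : ∀ {a b}, a ∈ D → b ∈ D → a ∉ E → b ∉ E → a * b ∈ E := fun ha hb ha' hb' =>
    (mem_inf.1 (mul_mem_of_relIndex_two hidxD ha hb (fun hc => ha' (mem_inf.1 hc).2)
      (fun hc => hb' (mem_inf.1 hc).2))).2
  obtain ⟨e₀, he₀, he₀D⟩ := SetLike.not_le_iff_exists.1 hP.not_le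
  have hcoset : ∀ b ∈ NS S D, b ∉ D → e₀⁻¹ * b ∈ D := fun b hb hbD => by
    obtain ⟨e, he, heb⟩ := hn.cover b hb
    have heD : e ∉ D := fun hc => hbD (by have := mul_mem hc heb; rwa [mul_inv_cancel_left] at this)
    have h1 := (mem_inf.1 (mul_mem_of_relIndex_two hidxE (inv_mem he₀) he
      (fun hc => he₀D (inv_mem_iff.1 (mem_inf.1 hc).1)) (fun hc => heD (mem_inf.1 hc).1))).1
    have := mul_mem h1 heb
    rwa [mul_assoc, mul_inv_cancel_left] at this
  have hidx : D.relIndex (NS S D) = 2 := by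
    rw [relIndex, index_eq_two_iff]
    refine ⟨⟨e₀⁻¹, inv_mem (hET he₀)⟩, fun b => ?_⟩
    simp only [mem_subgroupOf, Subgroup.coe_mul]
    by_cases hb : (b : G) ∈ D
    · refine .inr ⟨hb, fun hc => he₀D ?_⟩
      have := mul_mem (inv_mem hb) hc
      rw [inv_mul_cancel_left] at this
      exact inv_mem_iff.1 this
    · refine .inl ⟨?_, hb⟩
      have h1 := conj_mem_norm (mem_inf.1 (hET he₀)).2 (hcoset b b.2 hb)
      rwa [mul_inv_cancel_left] at h1
  obtain ⟨v₀, hv₀, hv₀E⟩ : ∃ v ∈ om D, v ∉ E := by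
    by_contra hc
    push Not at hc
    have h1 := hn.card_V
    rw [inf_eq_left.2 fun v hv => hc v hv] at h1
    have := Nat.card_pos (α := ↥(om D))
    omega
  have hv₀D : v₀ ∈ D := om_le D hv₀
  obtain ⟨t, ht⟩ : ∃ t, t = ⁅e₀, v₀⁆ := ⟨_, rfl⟩
  have ht_mem : t ∈ D ⊓ E := ht ▸ hP.comm_mem e₀ he₀ v₀ hv₀D
  have ht_om : t ∈ om D := ht ▸ hn.comm_om e₀ (Bad.NS_le_L (hET he₀)) v₀ hv₀D
  have ht2 : t * t = 1 := ((mem_om hD).1 ht_om).2
  have htne : t ≠ 1 := fun e => hn.comm_ne_sq e₀ he₀ he₀D v₀ hv₀D hv₀E 1 (one_mem D) (by rw [← ht, e, one_mul])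
  have ht_moved : t ∉ centralizer (Bad.L D : Set G) := ht ▸ hn.moved e₀ he₀ he₀D v₀ hv₀D hv₀E
  have hcen : ∀ z ∈ D ⊓ E, ∀ x ∈ NS S D, ⁅x, z⁆ = 1 := fun z hz x hx =>
    commutatorElement_eq_one_iff_mul_comm.2 (hn.central z hz x hx)
  classical
  have hbase : ∀ x ∈ D, ⁅e₀, x⁆ = if x ∈ E then 1 else t := by
    intro x hx
    split_ifs with hxE
    · exact hcen x (mem_inf.2 ⟨hx, hxE⟩) e₀ (hET he₀)
    have hz : v₀⁻¹ * x ∈ E := hmulE (inv_mem hv₀D) hx (fun hc => hv₀E (inv_mem_iff.1 hc)) hxE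
    have h1 := hcen _ (mem_inf.2 ⟨mul_mem (inv_mem hv₀D) hx, hz⟩) e₀ (hET he₀)
    calc ⁅e₀, x⁆ = ⁅e₀, v₀⁆ * (v₀ * ⁅e₀, v₀⁻¹ * x⁆ * v₀⁻¹) := by
          simp only [commutatorElement_def]; group
      _ = t := by rw [h1, ← ht]; group
  have hbase' : ∀ b ∈ NS S D, b ∉ D → ∀ x ∈ D, ⁅b, x⁆ = ⁅e₀, x⁆ := fun b hb hbD x hx => by
    have h1 := hD _ (hcoset b hb hbD) x hx
    calc ⁅b, x⁆ = e₀ * ((e₀⁻¹ * b) * x) * (e₀⁻¹ * b)⁻¹ * e₀⁻¹ * x⁻¹ := by
          simp only [commutatorElement_def]; group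
      _ = e₀ * (x * (e₀⁻¹ * b)) * (e₀⁻¹ * b)⁻¹ * e₀⁻¹ * x⁻¹ := by rw [h1]
      _ = ⁅e₀, x⁆ := by simp only [commutatorElement_def]; group
  have hinD : ∀ b ∈ NS S D, ∀ x ∈ D, ⁅b, x⁆ = 1 ∨ ⁅b, x⁆ = t := fun b hb x hx => by
    by_cases hbD : b ∈ D
    · exact .inl (commutatorElement_eq_one_iff_mul_comm.2 (hD b hbD x hx))
    rw [hbase' b hb hbD x hx, hbase x hx]
    split_ifs <;> simp
  have hti : t⁻¹ = t := inv_eq_of_mul_eq_one_right ht2
  have hcomm : ∀ a ∈ NS S D, ∀ b ∈ NS S D, ⁅a, b⁆ = 1 ∨ ⁅a, b⁆ = t := by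
    intro a ha b hb
    by_cases hbD : b ∈ D
    · exact hinD a ha b hbD
    by_cases haD : a ∈ D
    · rw [← commutatorElement_inv b a]
      rcases hinD b hb a haD with e | e <;> rw [e] <;> simp [hti]
    have hab : a⁻¹ * b ∈ D := by
      rw [mul_mem_iff_two hidx (inv_mem ha) hb]
      simp [haD, hbD]
    have e0 : ⁅a, b⁆ = a * ⁅a, a⁻¹ * b⁆ * a⁻¹ := by simp only [commutatorElement_def]; group
    rcases hinD a ha _ hab with e | e <;> rw [e0, e]
    · exact .inl (by group)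
    · exact .inr (by rw [hn.central t ht_mem a ha]; group)
  -- the generators of `L` through the orbit of `t`
  obtain ⟨l, hl, hlm⟩ := (hP.toOff hA).proper
  have hconjV : ∀ k ∈ Bad.L D, ∀ v ∈ om D, k * v * k⁻¹ ∈ om D := fun k hk v hv =>
    conj_mem_norm (normalizer_le_normalizer_om D (Bad.L_le D hk)) hv
  have hfix : ∀ k ∈ Bad.L D, k * t * k⁻¹ = t →
      ∃ c ∈ Bad.L D, c ∈ centralizer (om D : Set G) ∧ c * k ∈ normalizer (NS S D : Set G) := by
    intro k hk hkt
    by_contra hc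
    push Not at hc
    refine ht_moved (hn.gen k hk hc t ht_om (mem_inf.1 ht_mem).2 fun e he => ?_)
    have h1 := hP.comm e he t (mem_inf.1 ht_mem).2
    calc t * (k * e * k⁻¹) = k * t * k⁻¹ * (k * e * k⁻¹) := by rw [hkt]
      _ = k * (t * e) * k⁻¹ := by group
      _ = k * (e * t) * k⁻¹ := by rw [h1]
      _ = k * e * k⁻¹ * (k * t * k⁻¹) := by group
      _ = _ := by rw [hkt]
  have hnorm_t : ∀ n ∈ normalizer (NS S D : Set G), n * t * n⁻¹ = t := fun n hn' => by
    have e : n * t * n⁻¹ = ⁅n * e₀ * n⁻¹, n * v₀ * n⁻¹⁆ := by rw [ht]; simp only [commutatorElement_def]; group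
    rcases hcomm _ (conj_mem_norm hn' (hET he₀)) _ (conj_mem_norm hn' (hDT hv₀D)) with e' | e'
    · rw [e', mul_inv_eq_one, mul_eq_left] at e
      exact absurd e htne
    · exact e.trans e'
  have hE : ∀ k ∈ Bad.L D, k * t * k⁻¹ ∈ E → k * t * k⁻¹ = t := by
    intro k hk hkE
    by_contra hne
    by_cases hm : ∃ c ∈ Bad.L D, c ∈ centralizer (om D : Set G) ∧ c * k ∈ normalizer (NS S D : Set G)
    · obtain ⟨c, -, hc, hck⟩ := hm
      have h1 := hnorm_t _ hck
      have h2 := mem_centralizer_iff.1 hc _ (hconjV k hk t ht_om)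
      refine hne ?_
      calc k * t * k⁻¹ = c * (k * t * k⁻¹) * c⁻¹ := by rw [← h2]; group
        _ = (c * k) * t * (c * k)⁻¹ := by group
        _ = t := h1
    push Not at hm
    refine ht_moved ?_
    have h1 := hn.gen k hk hm _ (hconjV k hk t ht_om) hkE fun e he => by
      have h1 := hP.comm e he t (mem_inf.1 ht_mem).2
      calc k * t * k⁻¹ * (k * e * k⁻¹) = k * (t * e) * k⁻¹ := by group
        _ = k * (e * t) * k⁻¹ := by rw [h1]
        _ = k * e * k⁻¹ * (k * t * k⁻¹) := by group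
    have h2 := mem_centralizer_iff.1 h1 k hk
    have h3 : k * t * k⁻¹ = t := mul_left_cancel (h2.trans (by group : k * t * k⁻¹ * k = k * t))
    rwa [h3] at h1
  obtain ⟨d, hd⟩ : ∃ d, d = l * t * l⁻¹ := ⟨_, rfl⟩
  have hd_om : d ∈ om D := hd ▸ hconjV l hl t ht_om
  have hdD : d ∈ D := om_le D hd_om
  have hd2 : d * d = 1 := ((mem_om hD).1 hd_om).2
  have hdE : d ∉ E := fun hc => by
    obtain ⟨c, hcL, hc', hcl⟩ := hfix l hl (hE l hl (hd ▸ hc))
    exact hlm c hcL hc' hcl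
  have hlt : l⁻¹ * t * l ∉ E := fun hc => hdE (by
    have h1 := hE l⁻¹ (inv_mem hl) (by rwa [inv_inv])
    rw [inv_inv] at h1
    rw [hd, show l * t * l⁻¹ = t from ?_]
    · exact (mem_inf.1 ht_mem).2
    calc l * t * l⁻¹ = l * (l⁻¹ * t * l) * l⁻¹ := by rw [h1]
      _ = t := by group)
  have hred : ∀ x ∈ D, l⁻¹ * x * l ∈ E ∨ l⁻¹ * (x * t) * l ∈ E := fun x hx => by
    by_cases h1 : l⁻¹ * x * l ∈ E
    · exact .inl h1
    refine .inr ?_
    rw [show l⁻¹ * (x * t) * l = (l⁻¹ * x * l) * (l⁻¹ * t * l) by group]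
    exact hmulE (conj_inv_mem_norm (Bad.L_le D hl) hx)
      (conj_inv_mem_norm (Bad.L_le D hl) (mem_inf.1 ht_mem).1) h1 hlt
  have hclose : ∀ k ∈ Bad.L D, ∀ k' ∈ Bad.L D,
      (k * t * k⁻¹)⁻¹ * (k' * t * k'⁻¹) ∈ centralizer (Bad.L D : Set G) → k * t * k⁻¹ = k' * t * k'⁻¹ := by
    intro k hk k' hk' hc
    set c := (k * t * k⁻¹)⁻¹ * (k' * t * k'⁻¹) with hcdef
    have hcD : c ∈ D := mul_mem (inv_mem (om_le D (hconjV k hk t ht_om))) (om_le D (hconjV k' hk' t ht_om))
    have hcE : c ∈ E := hP.cent c hcD fun e he =>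
      (mem_centralizer_iff.1 hc e (Bad.NS_le_L (hET he))).symm
    have h1 : k⁻¹ * k' * t * (k⁻¹ * k')⁻¹ = t * c := by
      calc k⁻¹ * k' * t * (k⁻¹ * k')⁻¹ = t * (k⁻¹ * (c * k)) := by rw [hcdef]; group
        _ = t * c := by rw [← mem_centralizer_iff.1 hc k hk, inv_mul_cancel_left]
    have h2 := hE (k⁻¹ * k') (mul_mem (inv_mem hk) hk') (h1 ▸ mul_mem (mem_inf.1 ht_mem).2 hcE)
    rw [h1, mul_eq_left, hcdef, inv_mul_eq_one] at h2
    exact h2
  have he₀d : e₀ * d * e₀⁻¹ = d * t := by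
    have h1 : ⁅e₀, d⁆ = t := by rw [hbase d hdD, if_neg hdE]
    calc e₀ * d * e₀⁻¹ = ⁅e₀, d⁆ * d := by rw [commutatorElement_def]; group
      _ = d * t := by rw [h1, hD t (mem_inf.1 ht_mem).1 d hdD]
  have hel : e₀ * l * t * (e₀ * l)⁻¹ = d * t := by rw [← he₀d, hd]; group
  have horbit : ∀ k ∈ Bad.L D, k * t * k⁻¹ = t ∨ k * t * k⁻¹ = d ∨ k * t * k⁻¹ = d * t := by
    intro k hk
    by_cases huE : k * t * k⁻¹ ∈ E
    · exact .inl (hE k hk huE)
    refine .inr ?_
    set u := k * t * k⁻¹ with hu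
    have huV : u ∈ om D := hconjV k hk t ht_om
    have hdu : d * u ∈ E := hmulE hdD (om_le D huV) hdE huE
    have hdi : d⁻¹ = d := inv_eq_of_mul_eq_one_right hd2
    have hgen : ∀ x ∈ om D, x ∈ E → l⁻¹ * x * l ∈ E → x ∈ centralizer (Bad.L D : Set G) := by
      intro x hx hxE hxl
      refine hn.gen l hl hlm x hx hxE fun e he => ?_
      have h1 := hP.comm _ hxl e he
      calc x * (l * e * l⁻¹) = l * ((l⁻¹ * x * l) * e) * l⁻¹ := by group
        _ = l * (e * (l⁻¹ * x * l)) * l⁻¹ := by rw [h1]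
        _ = l * e * l⁻¹ * x := by group
    rcases hred _ (mul_mem hdD (om_le D huV)) with h1 | h1
    · refine .inl (Eq.symm ?_)
      have h2 := hgen _ (mul_mem hd_om huV) hdu h1
      have h3 := hclose l hl k hk (by rw [← hd, hdi]; exact h2)
      rwa [← hd] at h3
    · refine .inr (Eq.symm ?_)
      have h2 := hgen _ (mul_mem (mul_mem hd_om huV) ht_om) (mul_mem hdu (mem_inf.1 ht_mem).2) h1
      have h3 := hclose (e₀ * l) (mul_mem (Bad.NS_le_L (hET he₀)) hl) k hk (by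
        rw [hel, mul_inv_rev, hdi, hti, mul_assoc, hD t (mem_inf.1 ht_mem).1 _ (mul_mem hdD (om_le D huV))]
        exact h2)
      rwa [hel] at h3
  -- `C_D(L)`
  have hcentL : ∀ x ∈ D, x ∈ E → l⁻¹ * x * l ∈ E → x ∈ centralizer (Bad.L D : Set G) := by
    intro x hx hxE hxl
    suffices Bad.L D ≤ centralizer ({x} : Set G) from
      mem_centralizer_iff.2 fun y hy => mem_centralizer_singleton_iff.1 (this hy)
    refine (closure_le _).2 fun y hy => mem_centralizer_singleton_iff.2 ?_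
    obtain ⟨hyN, hy2⟩ := hy
    have hyL : y ∈ Bad.L D := subset_closure ⟨hyN, hy2⟩
    obtain ⟨a, ha, hconj⟩ := h.bad.sylow_L.exists_conj_le hy2.isPGroup (zpowers_le.2 hyL)
    have hτ : a * y * a⁻¹ ∈ NS S D := hconj y (mem_zpowers y)
    obtain ⟨b, hb, hbt, hbx⟩ : ∃ b ∈ Bad.L D, b * t * b⁻¹ = a⁻¹ * t * a ∧ b⁻¹ * x * b ∈ E := by
      have := horbit a⁻¹ (inv_mem ha)
      rw [inv_inv] at this
      rcases this with e | e | e
      · exact ⟨1, one_mem _, by rw [e]; group, by simpa using hxE⟩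
      · exact ⟨l, hl, by rw [e, hd], hxl⟩
      · refine ⟨e₀ * l, mul_mem (Bad.NS_le_L (hET he₀)) hl, by rw [hel, e], ?_⟩
        have h1 := hn.central x (mem_inf.2 ⟨hx, hxE⟩) e₀ (hET he₀)
        rw [show (e₀ * l)⁻¹ * x * (e₀ * l) = l⁻¹ * (e₀⁻¹ * (x * e₀)) * l by group, ← h1,
          inv_mul_cancel_left]
        exact hxl
    obtain ⟨c, hcL, hc, hcn⟩ := hfix (b⁻¹ * a⁻¹) (mul_mem (inv_mem hb) (inv_mem ha)) (by
      calc b⁻¹ * a⁻¹ * t * (b⁻¹ * a⁻¹)⁻¹ = b⁻¹ * (a⁻¹ * t * a) * b := by group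
        _ = t := by rw [← hbt]; group)
    have hc' := h.bad.centralizer_om_eq hA (Bad.L_le D hcL) hc
    set x' := b⁻¹ * x * b with hx'
    have hx'D : x' ∈ D := conj_inv_mem_norm (Bad.L_le D hb) hx
    set τ' := (c * (b⁻¹ * a⁻¹)) * (a * y * a⁻¹) * (c * (b⁻¹ * a⁻¹))⁻¹ with hτ'
    have h1 : τ' * x' = x' * τ' := hn.central x' (mem_inf.2 ⟨hx'D, hbx⟩) τ' (conj_mem_norm hcn hτ)
    have h2 := mem_centralizer_iff.1 hc' x' hx'D
    have ey : y = b * (c⁻¹ * τ' * c) * b⁻¹ := by rw [hτ']; group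
    have h3 : (c⁻¹ * τ' * c) * x' = x' * (c⁻¹ * τ' * c) := by
      calc (c⁻¹ * τ' * c) * x' = c⁻¹ * τ' * (c * x') := by group
        _ = c⁻¹ * (τ' * x') * c := by rw [← h2]; group
        _ = c⁻¹ * (x' * c) * c⁻¹ * τ' * c := by rw [h1]; group
        _ = x' * (c⁻¹ * τ' * c) := by rw [h2]; group
    calc y * x = b * ((c⁻¹ * τ' * c) * x') * b⁻¹ := by rw [ey, hx']; group
      _ = b * (x' * (c⁻¹ * τ' * c)) * b⁻¹ := by rw [h3]
      _ = x * y := by rw [ey, hx']; group
  have hdecE : ∀ x ∈ D, x ∈ E → x ∈ ZD D ∨ t⁻¹ * x ∈ ZD D := fun x hx hxE => by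
    rcases hred x hx with h1 | h1
    · exact .inl (mem_inf.2 ⟨hx, hcentL x hx hxE h1⟩)
    · refine .inr ?_
      rw [hti, hD t (mem_inf.1 ht_mem).1 x hx]
      exact mem_inf.2 ⟨mul_mem hx (mem_inf.1 ht_mem).1,
        hcentL _ (mul_mem hx (mem_inf.1 ht_mem).1) (mul_mem hxE (mem_inf.1 ht_mem).2) h1⟩
  refine ⟨t, d, l, hP, hn, ⟨h.bad.le, hD, hidx, ?_, hdD, hd2, fun x hx hxd =>
    Pair.mem_of_commute hn hA h.bad hdD hdE hx hxd⟩, ht_mem, ht2, ht_moved, hcomm,
    fun b hb hbD v hv hvE => by rw [hbase' b hb hbD v hv, hbase v hv, if_neg hvE],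
    hl, hd, hdE, horbit, fun x hx => ?_⟩
  · rw [KK, closure_eq_bot_iff]
    rintro _ ⟨a, ha, b, hb, c, hc, rfl | rfl⟩ <;> rw [Set.mem_singleton_iff]
    · rcases hcomm a ha b hb with e | e <;> rw [e]
      · simp
      · exact commutatorElement_eq_one_iff_mul_comm.2 (hn.central t ht_mem c hc).symm
    · rcases hcomm a ha b hb with e | e <;> rw [e]
      · simp
      · exact ht2
  · by_cases hxE : x ∈ E
    · rcases hdecE x hx hxE with h1 | h1
      · exact ⟨1, .inl rfl, by simpa using h1⟩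
      · exact ⟨t, .inr (.inl rfl), h1⟩
    · have hdx : d⁻¹ * x ∈ E := hmulE (inv_mem hdD) hx (fun hc => hdE (inv_mem_iff.1 hc)) hxE
      rcases hdecE _ (mul_mem (inv_mem hdD) hx) hdx with h1 | h1
      · exact ⟨d, .inr (.inr (.inl rfl)), h1⟩
      · exact ⟨d * t, .inr (.inr (.inr rfl)), by rwa [mul_inv_rev, mul_assoc]⟩

namespace Core

variable {t d l : G} (h : Core S D E t d l)
include h

omit [Finite G] in
theorem d_mem_D : d ∈ D := h.soft.mem

omit [Finite G] in
theorem t_ne_one : t ≠ 1 := fun e => h.t_moved (e ▸ one_mem _)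

omit [Finite G] in
theorem zd_le : ZD D ≤ D ⊓ E := fun z hz => mem_inf.2 ⟨(mem_inf.1 hz).1, h.pair.cent z (mem_inf.1 hz).1
  fun e he => (mem_centralizer_iff.1 (mem_inf.1 hz).2 e (Bad.NS_le_L (h.pair.le he))).symm⟩

omit [Finite G] in
theorem exists_outside : ∃ e ∈ E, e ∉ D := SetLike.not_le_iff_exists.1 h.pair.not_le

/-- An element of odd prime power order of `N(S) ∩ N(D)` centralises `S` modulo `C_D(L)`. -/
theorem comm_mem {p : ℕ} (hp : p.Prime) (hp2 : p ≠ 2) {a : G} (hap : IsPGroup p ↥(zpowers a))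
    (haS : a ∈ normalizer ((S : Subgroup G) : Set G)) (haD : a ∈ normalizer (D : Set G)) :
    ∀ x ∈ (S : Subgroup G), ⁅a, x⁆ ∈ ZD D := by
  haveI : Fact p.Prime := ⟨hp⟩
  have hodd : Odd (orderOf a) := by
    obtain ⟨n, hn⟩ := IsPGroup.iff_card.1 hap
    rw [Nat.card_zpowers] at hn
    rw [hn]
    exact (hp.odd_of_ne_two hp2).pow
  have hD := h.soft.comm
  obtain ⟨e, he, heD⟩ := h.exists_outside
  have heT := h.pair.le he
  have haT : a ∈ normalizer (NS S D : Set G) := Bad.mem_normalizer_NS haD haS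
  have htT : t ∈ D := (mem_inf.1 h.t_mem).1
  have hdD := h.d_mem_D
  have hti : t⁻¹ = t := inv_eq_of_mul_eq_one_right h.t_sq
  have hat : a * t * a⁻¹ = t := by
    have e0 : a * t * a⁻¹ = ⁅a * e * a⁻¹, a * d * a⁻¹⁆ := by
      rw [← h.comm_eq e heT heD d hdD h.d_not]; simp only [commutatorElement_def]; group
    rcases h.comm_T _ (conj_mem_norm haT heT) _ (conj_mem_norm haT (le_inf h.soft.le le_normalizer hdD))
      with e1 | e1
    · rw [e1, mul_inv_eq_one, mul_eq_left] at e0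
      exact absurd e0 h.t_ne_one
    · exact e0.trans e1
  have had : a * d * a⁻¹ = d := by
    have h1 : a * d * a⁻¹ = (a * l * a⁻¹) * t * (a * l * a⁻¹)⁻¹ := by
      conv_rhs => rw [← hat]
      rw [h.d_eq]; group
    rcases h.orbit _ (Bad.L_conj haD h.l_mem) with e1 | e1 | e1
    · have e2 : a * d * a⁻¹ = a * t * a⁻¹ := (h1.trans e1).trans hat.symm
      have e3 : d = t := mul_left_cancel (mul_right_cancel e2)
      exact absurd (e3 ▸ (mem_inf.1 h.t_mem).2) h.d_not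
    · exact h1.trans e1
    · have e2 : a * d * a⁻¹ = d * t := h1.trans e1
      have h2 : (a * a) * d = d * (a * a) := by
        refine mul_inv_eq_iff_eq_mul.1 ?_
        calc a * a * d * (a * a)⁻¹ = a * (a * d * a⁻¹) * a⁻¹ := by group
          _ = a * (d * t) * a⁻¹ := by rw [e2]
          _ = (a * d * a⁻¹) * (a * t * a⁻¹) := by group
          _ = d := by rw [e2, hat, mul_assoc, h.t_sq, mul_one]
      have h3 := BSW.mem_of_odd_of_sq_mem (A := centralizer ({d} : Set G))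
        (mem_centralizer_singleton_iff.2 h2) hodd
      rw [mul_inv_eq_iff_eq_mul]
      exact mem_centralizer_singleton_iff.1 h3
  have hDmem : ∀ x ∈ D, ⁅a, x⁆ ∈ ZD D := by
    intro x hx
    obtain ⟨v, hv, hvz⟩ := h.decomp x hx
    have hav : a * v * a⁻¹ = v := by
      rcases hv with rfl | rfl | rfl | rfl
      · group
      · exact hat
      · exact had
      · rw [show a * (d * t) * a⁻¹ = (a * d * a⁻¹) * (a * t * a⁻¹) by group, had, hat]
    have hvD : v ∈ D := by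
      rcases hv with rfl | rfl | rfl | rfl
      exacts [one_mem _, htT, hdD, mul_mem hdD htT]
    have hz := (mem_inf.1 hvz).1
    have e0 : ⁅a, x⁆ = (a * (v⁻¹ * x) * a⁻¹) * (v⁻¹ * x)⁻¹ := by
      calc ⁅a, x⁆ = (a * v * a⁻¹) * ((a * (v⁻¹ * x) * a⁻¹) * (v⁻¹ * x)⁻¹) * v⁻¹ := by
            rw [commutatorElement_def]; group
        _ = _ := by
          rw [hav, hD v hvD _ (mul_mem (conj_mem_norm haD hz) (inv_mem hz)), mul_inv_cancel_right]
    rw [e0]
    exact mul_mem (conj_mem_ZD haD hvz) (inv_mem hvz)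
  have hZc : ∀ z ∈ ZD D, ∀ x ∈ NS S D, x * z = z * x := fun z hz x hx => h.nat.central z (h.zd_le hz) x hx
  have hE : ⁅a, e⁆ ∈ ZD D := by
    let K : Subgroup G :=
      { carrier := {k | k ∈ normalizer (D : Set G) ∧ ⁅k, e⁆ ∈ ZD D}
        one_mem' := ⟨one_mem _, by simp⟩
        mul_mem' := fun {k₁ k₂} hk₁ hk₂ => ⟨mul_mem hk₁.1 hk₂.1, by
          rw [show ⁅k₁ * k₂, e⁆ = k₁ * ⁅k₂, e⁆ * k₁⁻¹ * ⁅k₁, e⁆ by simp only [commutatorElement_def]; group]
          exact mul_mem (conj_mem_ZD hk₁.1 hk₂.2) hk₁.2⟩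
        inv_mem' := fun {k} hk => ⟨inv_mem hk.1, by
          rw [show ⁅k⁻¹, e⁆ = k⁻¹ * ⁅k, e⁆⁻¹ * (k⁻¹)⁻¹ by simp only [commutatorElement_def]; group]
          exact conj_mem_ZD (inv_mem hk.1) (inv_mem hk.2)⟩ }
    suffices a * a ∈ K from (BSW.mem_of_odd_of_sq_mem this hodd).2
    refine ⟨mul_mem haD haD, ?_⟩
    have haeT : a * e * a⁻¹ ∈ NS S D := conj_mem_norm haT heT
    have haeD : a * e * a⁻¹ ∉ D := fun hc => heD (by
      have := conj_inv_mem_norm haD hc
      simpa [mul_assoc] using this)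
    set u := e⁻¹ * (a * e * a⁻¹) with hu
    have huD : u ∈ D := by
      rw [hu, mul_mem_iff_two h.soft.idx (inv_mem heT) haeT]
      simp [heD, haeD]
    have h1 : u * (a * u * a⁻¹) ∈ ZD D := by
      have h2 : a * u * a⁻¹ = ⁅a, u⁆ * u := by rw [commutatorElement_def]; group
      rw [h2, ← hD u huD _ (mem_inf.1 (hDmem u huD)).1, ← mul_assoc]
      exact mul_mem (mem_inf.2 ⟨mul_mem huD huD, h.nat.sq_fixed u huD⟩) (hDmem u huD)
    have h3 : ⁅a * a, e⁆ = e * (u * (a * u * a⁻¹)) * e⁻¹ := by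
      rw [hu, commutatorElement_def]; group
    rw [h3, hZc _ h1 e heT, mul_inv_cancel_right]
    exact h1
  have hT : ∀ x ∈ NS S D, ⁅a, x⁆ ∈ ZD D := by
    intro x hx
    by_cases hxD : x ∈ D
    · exact hDmem x hxD
    have hy : e⁻¹ * x ∈ D := by
      rw [mul_mem_iff_two h.soft.idx (inv_mem heT) hx]
      simp [heD, hxD]
    have e0 : ⁅a, x⁆ = ⁅a, e⁆ * (e * ⁅a, e⁻¹ * x⁆ * e⁻¹) := by simp only [commutatorElement_def]; group
    rw [e0, hZc _ (hDmem _ hy) e heT, mul_inv_cancel_right]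
    exact mul_mem hE (hDmem _ hy)
  have key : ∀ n : ℕ, ∀ X M : Subgroup G, Nat.card ↥(S : Subgroup G) - Nat.card ↥X = n → Node S D d X M →
      a ∈ normalizer (X : Set G) → (∀ x ∈ X, ⁅a, x⁆ ∈ ZD D) → ∀ x ∈ (S : Subgroup G), ⁅a, x⁆ ∈ ZD D := by
    intro n
    induction n using Nat.strong_induction_on with
    | _ n ih =>
      intro X M hn hN haX hX
      by_cases hXS : X = S
      · exact fun x hx => hX x (hXS ▸ hx)
      have hidx := hN.relIndex_norm h.soft hXS
      have hstep := hN.step h.soft hXS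
      have haN : a ∈ normalizer (NS S X : Set G) := Bad.mem_normalizer_NS haX haS
      have hcard : Nat.card ↥X * 2 = Nat.card ↥(NS S X) := by
        have h1 := card_inf_mul_relIndex X (NS S X)
        rwa [inf_eq_left.2 hstep.le, hidx] at h1
      have hNle : Nat.card ↥(NS S X) ≤ Nat.card ↥(S : Subgroup G) := card_le_of_le inf_le_left
      have hpos : 0 < Nat.card ↥X := Nat.card_pos
      refine ih _ (by omega) (NS S X) X rfl hstep haN ?_
      -- a fixed point in the outer coset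
      obtain ⟨g, hg, hgX⟩ := SetLike.not_le_iff_exists.1 (fun hle : NS S X ≤ X => by
        rw [relIndex_eq_one.2 hle] at hidx
        omega)
      have hset : ((fun y => y * g) '' (X : Set G)) = {y | y ∈ NS S X ∧ y ∉ X} := by
        ext y
        constructor
        · rintro ⟨z, hz, rfl⟩
          refine ⟨mul_mem (hstep.le hz) hg, fun hc => hgX ?_⟩
          have := mul_mem (inv_mem hz) hc
          rwa [inv_mul_cancel_left] at this
        · rintro ⟨hy, hyX⟩
          refine ⟨y * g⁻¹, ?_, inv_mul_cancel_right y g⟩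
          rw [SetLike.mem_coe, mul_mem_iff_two hidx hy (inv_mem hg)]
          simp [hyX, hgX]
      have hnd : ¬ p ∣ Nat.card ((fun y => y * g) '' (X : Set G)) := by
        rw [Nat.card_image_of_injective (mul_left_injective g)]
        haveI : Fact (Nat.Prime 2) := ⟨Nat.prime_two⟩
        obtain ⟨k, hk⟩ := IsPGroup.iff_card.1 (S.isPGroup'.to_le hN.le_S)
        show ¬ p ∣ Nat.card ↥X
        rw [hk]
        exact fun hc => hp2 ((Nat.prime_dvd_prime_iff_eq hp Nat.prime_two).1 (hp.dvd_of_dvd_pow hc))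
      obtain ⟨w, hw, hfixw⟩ := Signalizer.exists_fixed_mem hap ((fun y => y * g) '' (X : Set G)) hnd (by
        intro b hb y hy
        rw [hset] at hy ⊢
        have hbX : b ∈ normalizer (X : Set G) := zpowers_le.2 haX hb
        refine ⟨conj_mem_norm (zpowers_le.2 haN hb) hy.1, fun hc => hy.2 ?_⟩
        have := conj_inv_mem_norm hbX hc
        simpa [mul_assoc] using this)
      rw [hset] at hw
      intro x hx
      by_cases hxX : x ∈ X
      · exact hX x hxX
      have hy : x * w⁻¹ ∈ X := by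
        rw [mul_mem_iff_two hidx hx (inv_mem hw.1)]
        simp [hxX, hw.2]
      have haw : ⁅a, w⁆ = 1 :=
        commutatorElement_eq_one_iff_mul_comm.2 (mul_inv_eq_iff_eq_mul.1 (hfixw a (mem_zpowers a)))
      have e0 : ⁅a, x⁆ = ⁅a, x * w⁻¹⁆ * ((x * w⁻¹) * ⁅a, w⁆ * (x * w⁻¹)⁻¹) := by
        simp only [commutatorElement_def]; group
      rw [e0, haw, mul_one, mul_inv_cancel, mul_one]
      exact hX _ hy
  exact key _ _ _ rfl h.soft.node_base haT hT

/-- There is no bad subgroup normal in `S` besides a `Core`. -/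
theorem false_of_normal (hA : Inter G) {A : Subgroup G} (hB : Bad S A)
    (hAn : (S : Subgroup G) ≤ normalizer (A : Set G)) (hDn : ¬ (S : Subgroup G) ≤ normalizer (D : Set G)) :
    False := by
  haveI : Fact (Nat.Prime 2) := ⟨Nat.prime_two⟩
  have hD := h.soft.comm
  have hAc := hB.comm hA
  have hdD := h.d_mem_D
  have hdS : d ∈ (S : Subgroup G) := h.soft.le hdD
  have hdi : d⁻¹ = d := inv_eq_of_mul_eq_one_right h.soft.sq
  have hti : t⁻¹ = t := inv_eq_of_mul_eq_one_right h.t_sq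
  have hdA : d ∉ A := fun hc => by
    have hle : A ≤ D := fun x hx => h.soft.centd x (hB.le hx) (hAc x hx d hc)
    exact hDn (le_antisymm hle (fun x hx => hB.cent x (h.soft.le hx) fun y hy => hD x hx y (hle hy)) ▸ hAn)
  have hmemT : ∀ x ∈ (S : Subgroup G), x * d * x⁻¹ ∈ D → x ∈ NS S D := fun x hx hxd =>
    mem_inf.2 ⟨hx, inv_mem_iff.1 (mem_norm_of_forall fun y hy => by
      refine h.soft.centd _ (mul_mem (mul_mem (inv_mem hx) (h.soft.le hy)) (by rwa [inv_inv])) ?_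
      rw [inv_inv]
      calc x⁻¹ * y * x * d = x⁻¹ * (y * (x * d * x⁻¹)) * x := by group
        _ = x⁻¹ * ((x * d * x⁻¹) * y) * x := by rw [hD y hy _ hxd]
        _ = d * (x⁻¹ * y * x) := by group)⟩
  -- the commutator with `d`
  obtain ⟨f, hf⟩ : ∃ f : G → G, ∀ x, f x = x * (d * x⁻¹ * d) := ⟨_, fun _ => rfl⟩
  have hdconj : ∀ {x}, x ∈ A → d * x * d ∈ A := fun {x} hx => by
    have := conj_mem_norm (hAn hdS) hx
    rwa [hdi] at this
  have hfA : ∀ {x}, x ∈ A → f x ∈ A := fun {x} hx => by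
    rw [hf]; exact mul_mem hx (hdconj (inv_mem hx))
  have hfcomm : ∀ x, f x = ⁅x, d⁆ := fun x => by rw [hf, commutatorElement_def, hdi]; group
  have hinv : ∀ {x}, x ∈ A → d * f x * d = (f x)⁻¹ := fun {x} hx => by
    have e : d * f x * d = (d * x * d) * x⁻¹ := by
      calc d * f x * d = (d * x * d) * x⁻¹ * (d * d) := by rw [hf]; group
        _ = _ := by rw [h.soft.sq, mul_one]
    rw [e, hAc _ (hdconj hx) _ (inv_mem hx), hf]
    calc x⁻¹ * (d * x * d) = x⁻¹ * (d⁻¹ * x * d⁻¹) := by rw [hdi]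
      _ = (d * x⁻¹ * d * x)⁻¹ := by group
      _ = (x * (d * x⁻¹ * d))⁻¹ := by rw [hAc x hx _ (hdconj (inv_mem hx))]
  have hfin : ∀ {x}, x ∈ A → f x * f x = 1 → x ∈ NS S D := by
    intro x hx h2
    refine hmemT x (hB.le hx) ?_
    have h1 : f x ∈ D := h.soft.centd _ (hB.le (hfA hx)) (by
      refine (mul_inv_eq_iff_eq_mul.1 ?_).symm
      rw [hdi, hinv hx, inv_eq_of_mul_eq_one_right h2])
    have e : x * d * x⁻¹ = f x * d := by rw [hf]; calc x * d * x⁻¹ = x * (d * x⁻¹) * (1:G) := by group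
      _ = _ := by rw [← h.soft.sq]; group
    rw [e]
    exact mul_mem h1 hdD
  -- `Ω₁(A) ≤ T`
  have hWT : om A ≤ NS S D := fun x hx => by
    obtain ⟨hxA, hx2⟩ := (mem_om hAc).1 hx
    refine hfin hxA ?_
    have hxi : x⁻¹ = x := inv_eq_of_mul_eq_one_right hx2
    rw [hf, hxi]
    calc x * (d * x * d) * (x * (d * x * d)) = x * ((d * x * d) * x) * (d * x * d) := by group
      _ = (x * x) * (d * x * (d * d) * x * d) := by rw [hAc _ (hdconj hxA) x hxA]; group
      _ = (x * x) * (d * (x * x) * d) := by rw [h.soft.sq]; group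
      _ = 1 := by rw [hx2, one_mul, mul_one, h.soft.sq]
  have hWnD : ∃ w ∈ om A, w ∉ D := by
    by_contra hc
    push Not at hc
    exact hdA (hB.mem_of_centralizes_om hA hdS (mem_centralizer_iff.2 fun w hw => hD w (hc w hw) d hdD))
  -- the offender `⟨d⟩`
  have hcardB : Nat.card ↥(zpowers d) = 2 := by
    rw [Nat.card_zpowers]
    exact orderOf_eq_prime (by rw [pow_two, h.soft.sq]) fun e => hdA (e ▸ one_mem A)
  have hBW : zpowers d ⊓ centralizer (om A : Set G) = ⊥ := by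
    rw [eq_bot_iff]
    intro x hx
    obtain ⟨i, rfl⟩ := mem_zpowers_iff.1 (mem_inf.1 hx).1
    rcases Int.emod_two_eq_zero_or_one i with e | e
    · rw [mem_bot, ← zpow_mod_orderOf, ← Nat.card_zpowers, hcardB]
      simp [e]
    · exfalso
      have h1 : d ^ i = d := by
        rw [← zpow_mod_orderOf, ← Nat.card_zpowers, hcardB]
        simp [e]
      rw [h1] at hx
      exact hdA (hB.mem_of_centralizes_om hA hdS (mem_inf.1 hx).2)
  have hoff := hB.toOff hA (B := zpowers d) (zpowers_le.2 (mem_inf.2 ⟨hdS, hAn hdS⟩))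
    (fun a ha b hb => by
      obtain ⟨i, rfl⟩ := mem_zpowers_iff.1 ha
      obtain ⟨j, rfl⟩ := mem_zpowers_iff.1 hb
      exact (Commute.zpow_zpow_self d i j).eq)
    ⟨d, mem_zpowers d, hdA⟩
    (fun b hb => by
      obtain ⟨i, rfl⟩ := mem_zpowers_iff.1 hb
      rw [(Commute.refl d).mul_zpow i |>.symm, h.soft.sq, one_zpow]
      exact one_mem _)
    (by
      rw [hBW, card_bot, mul_one, hcardB]
      have h1 := card_inf_mul_relIndex D (om A)
      have h2 : D.relIndex (om A) ≤ 2 := h.soft.idx ▸ relIndex_le_of_le_right hWT (relIndex_ne _ _)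
      have h3 : Nat.card ↥(D ⊓ om A) ≤ Nat.card ↥(om A ⊓ centralizer (zpowers d : Set G)) := by
        refine card_le_of_le fun x hx => mem_inf.2 ⟨(mem_inf.1 hx).2, mem_centralizer_iff.2 fun b hb => ?_⟩
        obtain ⟨i, rfl⟩ := mem_zpowers_iff.1 hb
        exact ((show Commute d x from hD d hdD x (mem_inf.1 hx).1).zpow_left i).eq
      calc Nat.card ↥(om A) = Nat.card ↥(D ⊓ om A) * D.relIndex (om A) := h1.symm
        _ ≤ Nat.card ↥(om A ⊓ centralizer (zpowers d : Set G)) * 2 := Nat.mul_le_mul h3 h2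
        _ = _ := mul_comm _ _)
  obtain ⟨q, hq⟩ := hoff.core
  -- an element of `A` outside `T`
  obtain ⟨x, hxA, hxT⟩ : ∃ x ∈ A, x ∉ NS S D := by
    by_contra hc
    push Not at hc
    refine hDn fun y hy => (mem_inf.1 (?_ : y ∈ NS S D)).2
    obtain ⟨b, hb, hby⟩ := hq.cover y (mem_inf.2 ⟨hy, hAn hy⟩)
    have hbT : b ∈ NS S D := zpowers_le.2 (le_inf h.soft.le le_normalizer hdD) hb
    have h1 := hc _ (hB.mem_of_centralizes_om hA (mul_mem (inv_mem (mem_inf.1 hbT).1) hy) hby)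
    have := mul_mem hbT h1
    rwa [mul_inv_cancel_left] at this
  -- `u` with `u² = t`
  have hdT : d ∈ NS S D := le_inf h.soft.le le_normalizer hdD
  have hone : ∀ {y}, y ∈ A → y ∈ NS S D → f y = 1 ∨ f y = t := fun {y} _ hy => by
    rw [hfcomm]; exact h.comm_T y hy d hdT
  have hsqf : ∀ {y}, y ∈ A → f (y * y) = f y * f y := fun {y} hy => by
    have h1 := hAc y hy _ (hdconj (inv_mem hy))
    have e : d * (y * y)⁻¹ * d = (d * y⁻¹ * d) * (d * y⁻¹ * d) := by
      calc d * (y * y)⁻¹ * d = d * y⁻¹ * (1 : G) * y⁻¹ * d := by group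
        _ = _ := by rw [← h.soft.sq]; group
    rw [hf, hf, e]
    calc y * y * (d * y⁻¹ * d * (d * y⁻¹ * d)) = y * (y * (d * y⁻¹ * d)) * (d * y⁻¹ * d) := by group
      _ = y * ((d * y⁻¹ * d) * y) * (d * y⁻¹ * d) := by rw [h1]
      _ = _ := by group
  obtain ⟨u, huA, hu2, hdu⟩ : ∃ u, u ∈ A ∧ u * u = t ∧ d * u * d = u⁻¹ := by
    obtain ⟨m, hm⟩ := twoElem_of_mem S.isPGroup' (hB.le hxA)
    induction m generalizing x with
    | zero => rw [pow_zero, pow_one] at hm; exact absurd (hm ▸ one_mem _) hxT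
    | succ m ih =>
      by_cases hxx : x * x ∈ NS S D
      · refine ⟨f x, hfA hxA, ?_, hinv hxA⟩
        rw [← hsqf hxA]
        exact (hone (mul_mem hxA hxA) hxx).resolve_left fun e => hxT (hfin hxA (by rw [← hsqf hxA, e]))
      · exact ih (x * x) (mul_mem hxA hxA) hxx (by rw [← pow_two, ← pow_mul, ← pow_succ', hm])
  -- the element `g = d d'` of the automiser of `A`
  obtain ⟨w, hw, hwD⟩ := hWnD
  obtain ⟨hwA, hw2⟩ := (mem_om hAc).1 hw
  have hwt : f w = t := (hone hwA (hWT hw)).resolve_left fun e => hwD (h.soft.centd w (hB.le hwA) (by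
    rw [hfcomm, commutatorElement_eq_one_iff_mul_comm] at e
    exact e))
  have htW : t ∈ om A := (mem_om hAc).2 ⟨hwt ▸ hfA hwA, h.t_sq⟩
  have hdt : d * t = t * d := hD d hdD t (mem_inf.1 h.t_mem).1
  have hBcent : ∀ {y}, d * y = y * d → y ∈ centralizer (zpowers d : Set G) := fun {y} e =>
    mem_centralizer_iff.2 fun b hb => by
      obtain ⟨i, rfl⟩ := mem_zpowers_iff.1 hb
      exact ((show Commute d y from e).zpow_left i).eq
  have hcentB : ∀ {y}, y ∈ centralizer (zpowers d : Set G) → d * y = y * d := fun hy =>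
    mem_centralizer_iff.1 hy d (mem_zpowers d)
  have hdW : d ∉ centralizer (om A : Set G) := fun hc => hdA (hB.mem_of_centralizes_om hA hdS hc)
  have htm : t ∉ centralizer (Bad.L A : Set G) := by
    have h1 := hq.moved d (mem_zpowers d) hdW w hw fun hc => hwD (h.soft.centd w (hB.le hwA) (hcentB hc).symm)
    intro hc
    refine h1 ?_
    have e : ⁅d, w⁆ = t := by rw [← commutatorElement_inv, ← hfcomm, hwt, hti]
    rwa [e]
  obtain ⟨k, hk, hkm⟩ := hoff.proper
  have hgen : ∀ {y}, y ∈ om A → d * y = y * d → (k * d * k⁻¹) * y = y * (k * d * k⁻¹) →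
      y ∈ centralizer (Bad.L A : Set G) := fun {y} hy h1 h2 => by
    refine hq.gen k hk hkm y hy (hBcent h1) fun b hb => ?_
    obtain ⟨i, rfl⟩ := mem_zpowers_iff.1 hb
    rw [← conj_zpow]
    exact ((show Commute y (k * d * k⁻¹) from h2.symm).zpow_right i).eq
  have hkN : k ∈ normalizer (A : Set G) := Bad.L_le A hk
  have hkW : k ∈ normalizer (om A : Set G) := normalizer_le_normalizer_om A hkN
  set d' := k * d * k⁻¹ with hd'
  set t' := k * t * k⁻¹ with ht'
  have ht'W : t' ∈ om A := conj_mem_norm hkW htW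
  have ht'd' : d' * t' = t' * d' := by
    calc d' * t' = k * (d * t) * k⁻¹ := by rw [hd', ht']; group
      _ = k * (t * d) * k⁻¹ := by rw [hdt]
      _ = t' * d' := by rw [hd', ht']; group
  -- a commutator of `d` with an element of `Ω₁ A` it moves is `t`
  have hmove : ∀ {y}, y ∈ om A → d * y ≠ y * d → d * y * d = y * t := fun {y} hy hne => by
    obtain ⟨hyA, hy2⟩ := (mem_om hAc).1 hy
    have h1 : f y = t := (hone hyA (hWT hy)).resolve_left fun e => hne (by
      rw [hfcomm, commutatorElement_eq_one_iff_mul_comm] at e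
      exact e.symm)
    rw [← h1, hf, inv_eq_of_mul_eq_one_right hy2, ← mul_assoc y y, hy2, one_mul]
  have ht'1 : d * t' * d = t' * t := hmove ht'W fun e => htm (by
    have h1 := hgen ht'W e ht'd'
    have h2 := mem_centralizer_iff.1 h1 k hk
    have h3 : t' = t := by
      refine mul_left_cancel (h2.trans ?_)
      rw [ht']; group
    rwa [h3] at h1)
  have ht1 : d' * t * d' = t * t' := by
    have hne : d * (k⁻¹ * t * k) ≠ k⁻¹ * t * k * d := fun e => htm (hgen htW hdt (by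
      calc k * d * k⁻¹ * t = k * (d * (k⁻¹ * t * k)) * k⁻¹ := by group
        _ = k * (k⁻¹ * t * k * d) * k⁻¹ := by rw [e]
        _ = t * (k * d * k⁻¹) := by group))
    have h1 := hmove (conj_inv_mem_norm hkW htW) hne
    calc d' * t * d' = k * (d * (k⁻¹ * t * k) * d) * k⁻¹ := by rw [hd']; group
      _ = k * (k⁻¹ * t * k * t) * k⁻¹ := by rw [h1]
      _ = t * t' := by rw [ht']; group
  have hd'2 : d' * d' = 1 := by
    rw [hd', show k * d * k⁻¹ * (k * d * k⁻¹) = k * (d * d) * k⁻¹ by group, h.soft.sq]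
    group
  have hd'i : d'⁻¹ = d' := inv_eq_of_mul_eq_one_right hd'2
  have hdtd : d * t * d = t := by rw [hdt, mul_assoc, h.soft.sq, mul_one]
  set g := d * d' with hg
  have hgN : g ∈ normalizer (A : Set G) :=
    mul_mem (hAn hdS) (mul_mem (mul_mem hkN (hAn hdS)) (inv_mem hkN))
  have hgi : g⁻¹ = d' * d := by rw [hg, mul_inv_rev, hdi, hd'i]
  have hgt : g * t * g⁻¹ = t' := by
    rw [hgi, hg]
    calc d * d' * t * (d' * d) = d * (d' * t * d') * d := by group
      _ = d * (t * t') * d := by rw [ht1]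
      _ = (d * t * d) * (d * t' * d) := by
          calc d * (t * t') * d = d * t * (1 : G) * t' * d := by group
            _ = _ := by rw [← h.soft.sq]; group
      _ = t * (t' * t) := by rw [hdtd, ht'1]
      _ = (t * t) * t' := by rw [hAc t' (om_le A ht'W) t (om_le A htW), mul_assoc]
      _ = t' := by rw [h.t_sq, one_mul]
  have hgt' : g * t' * g⁻¹ = t' * t := by
    rw [hgi, hg]
    calc d * d' * t' * (d' * d) = d * (d' * t') * d' * d := by group
      _ = d * t' * (d' * d') * d := by rw [ht'd']; group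
      _ = t' * t := by rw [hd'2, mul_one, ht'1]
  have hgtt : g⁻¹ * t * g = t * t' := by
    have e : g * (t * t') * g⁻¹ = t := by
      calc g * (t * t') * g⁻¹ = (g * t * g⁻¹) * (g * t' * g⁻¹) := by group
        _ = t' * (t' * t) := by rw [hgt, hgt']
        _ = t := by rw [← mul_assoc, ((mem_om hAc).1 ht'W).2, one_mul]
    calc g⁻¹ * t * g = g⁻¹ * (g * (t * t') * g⁻¹) * g := by rw [e]
      _ = t * t' := by group
  -- `m * m = t` with `m ∈ D`
  set v := g * u * g⁻¹ with hv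
  have hvA : v ∈ A := conj_mem_norm hgN huA
  set m := v * (d * v * d) with hm
  have hmD : m ∈ D := by
    refine h.soft.centd _ (hB.le (mul_mem hvA (hdconj hvA))) ?_
    calc m * d = v * (d * v) * (d * d) := by rw [hm]; group
      _ = v * (d * v) := by rw [h.soft.sq, mul_one]
      _ = (d * d) * (v * d * v) := by rw [h.soft.sq, one_mul, mul_assoc v d v]
      _ = d * ((d * v * d) * v) := by group
      _ = d * m := by rw [hm, hAc _ (hdconj hvA) v hvA]
  have hdvd : d * v * d = g⁻¹ * u⁻¹ * g := by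
    calc d * v * d = (d * d) * d' * u * d' * (d * d) := by rw [hv, hgi, hg]; group
      _ = d' * u * d' := by rw [h.soft.sq]; group
      _ = d' * (d * d) * u * (d * d) * d' := by rw [h.soft.sq]; group
      _ = (d' * d) * (d * u * d) * (d * d') := by group
      _ = g⁻¹ * u⁻¹ * g := by rw [hdu, ← hgi, ← hg]
  have hmm : m * m = t := by
    calc m * m = v * ((d * v * d) * v) * (d * v * d) := by rw [hm]; group
      _ = (v * v) * ((d * v * d) * (d * v * d)) := by rw [hAc _ (hdconj hvA) v hvA]; group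
      _ = (g * (u * u) * g⁻¹) * (g⁻¹ * (u * u)⁻¹ * g) := by rw [hdvd, hv]; group
      _ = t' * (t * t') := by rw [hu2, hgt, hti, hgtt]
      _ = (t' * t') * t := by rw [hAc t (om_le A htW) t' (om_le A ht'W), mul_assoc t' t' t]
      _ = t := by rw [((mem_om hAc).1 ht'W).2, one_mul]
  obtain ⟨e, he, heD⟩ := h.exists_outside
  exact h.nat.comm_ne_sq e he heD d hdD h.d_not m hmD
    (by rw [hmm, h.comm_eq e (h.pair.le he) heD d hdD h.d_not])

end Core

end Cfsg.Agent.AbelianInter
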